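import Cfsg.Agent.Lib.Coprime.SchurZassenhaus
import Mathlib.GroupTheory.Frattini
import Mathlib.GroupTheory.Nilpotent

/-!
Coprime action, internal form: `A` and `K` are subgroups of `G`, `A` normalises `K`.
-/

set_option autoImplicit false

namespace Cfsg.Agent.Coprime

open scoped commutatorElement

variable {G : Type*} [Group G]

theorem mem_normalizer_of_le_iff {H : Subgroup G} {g : G}
    (h1 : ∀ x ∈ H, g * x * g⁻¹ ∈ H) (h2 : ∀ x ∈ H, g⁻¹ * x * g ∈ H) :
    g ∈ Subgroup.normalizer (H : Set G) :=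
  Subgroup.mem_normalizer_iff.mpr fun x => ⟨h1 x, fun hx => by simpa [mul_assoc] using h2 _ hx⟩

theorem le_normalizer_of_conj_mem {A H : Subgroup G} (h : ∀ a ∈ A, ∀ x ∈ H, a * x * a⁻¹ ∈ H) :
    A ≤ Subgroup.normalizer (H : Set G) :=
  fun a ha => mem_normalizer_of_le_iff (h a ha) fun x hx => by
    simpa using h a⁻¹ (inv_mem ha) x hx

theorem le_normalizer_inf {A H K : Subgroup G} (hH : A ≤ Subgroup.normalizer (H : Set G))
    (hK : A ≤ Subgroup.normalizer (K : Set G)) : A ≤ Subgroup.normalizer ((H ⊓ K : Subgroup G) : Set G) :=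
  le_normalizer_of_conj_mem fun _ ha _ hx =>
    ⟨conj_mem_of_mem_normalizer (hH ha) hx.1, conj_mem_of_mem_normalizer (hK ha) hx.2⟩

theorem le_normalizer_sup {A H K : Subgroup G} (hH : A ≤ Subgroup.normalizer (H : Set G))
    (hK : A ≤ Subgroup.normalizer (K : Set G)) : A ≤ Subgroup.normalizer ((H ⊔ K : Subgroup G) : Set G) :=
  le_normalizer_of_conj_mem fun a ha _ hx =>
    (sup_le (fun y hy => Subgroup.mem_sup_left (conj_mem_of_mem_normalizer (hH ha) hy))
      (fun y hy => Subgroup.mem_sup_right (conj_mem_of_mem_normalizer (hK ha) hy)) :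
      H ⊔ K ≤ (H ⊔ K).comap ((MulAut.conj a : G ≃* G) : G →* G)) hx

theorem le_normalizer_normalizer {A H : Subgroup G} (hH : A ≤ Subgroup.normalizer (H : Set G)) :
    A ≤ Subgroup.normalizer ((Subgroup.normalizer (H : Set G) : Subgroup G) : Set G) :=
  hH.trans Subgroup.le_normalizer

theorem le_normalizer_centralizer {A H : Subgroup G} (hH : A ≤ Subgroup.normalizer (H : Set G)) :
    A ≤ Subgroup.normalizer ((Subgroup.centralizer (H : Set G) : Subgroup G) : Set G) :=
  le_normalizer_of_conj_mem fun a ha x hx => Subgroup.mem_centralizer_iff.mpr fun y hy => by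
    have := Subgroup.mem_centralizer_iff.mp hx (a⁻¹ * y * a) (conj_mem_of_mem_normalizer' (hH ha) hy)
    calc y * (a * x * a⁻¹) = a * ((a⁻¹ * y * a) * x) * a⁻¹ := by group
      _ = a * (x * (a⁻¹ * y * a)) * a⁻¹ := by rw [this]
      _ = a * x * a⁻¹ * y := by group

theorem mem_centralizer_of_conj_mem {A K : Subgroup G} (hcop : (Nat.card A).Coprime (Nat.card K))
    {c : G} (hK : ∀ a ∈ A, c * a * c⁻¹ * a⁻¹ ∈ K) (hA : ∀ a ∈ A, c * a * c⁻¹ ∈ A) :
    c ∈ Subgroup.centralizer (A : Set G) :=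
  Subgroup.mem_centralizer_iff.mpr fun a ha => by
    have := inf_eq_bot_of_coprime' hcop (mul_mem (hA a ha) (inv_mem ha)) (hK a ha)
    exact (mul_inv_eq_iff_eq_mul.mp (mul_inv_eq_one.mp this)).symm

variable [Finite G]

/-- A coset `x N` mapped to itself by `A` contains a fixed point. `x` need not normalise `N`. -/
theorem exists_fixed_in_coset (A N : Subgroup G) (hA : A ≤ Subgroup.normalizer (N : Set G))
    (hcop : (Nat.card A).Coprime (Nat.card N)) (hsolv : Group.IsSolvable A ∨ Group.IsSolvable N)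
    (x : G) (hx : ∀ a ∈ A, x⁻¹ * (a * x * a⁻¹) ∈ N) :
    ∃ n ∈ N, x * n ∈ Subgroup.centralizer (A : Set G) := by
  let φ : G →* G := ((MulAut.conj x⁻¹ : G ≃* G) : G →* G)
  have hcard : Nat.card (A.map φ) = Nat.card A :=
    (Nat.card_congr (A.equivMapOfInjective φ (MulAut.conj x⁻¹).injective).toEquiv).symm
  have hle : A.map φ ≤ N ⊔ A := by
    rintro _ ⟨a, ha, rfl⟩
    have := Subgroup.mul_mem_sup (hx a ha) ha
    simpa [φ, mul_assoc] using this
  have hnA : A.map φ ≤ Subgroup.normalizer (N : Set G) :=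
    hle.trans (sup_le Subgroup.le_normalizer hA)
  obtain ⟨n, hn, h⟩ := exists_conj_le N (A.map φ) A hnA hA hle (hcard.symm ▸ hcop) hcop
    (hsolv.imp_left fun (h : Group.IsSolvable A) => by
      haveI := h
      exact Group.isSolvable_of_surjective
        (f := (A.equivMapOfInjective φ (MulAut.conj x⁻¹).injective).toMonoidHom)
        (A.equivMapOfInjective φ (MulAut.conj x⁻¹).injective).surjective)
  refine ⟨n⁻¹, inv_mem hn, ?_⟩
  have hc : n * x⁻¹ ∈ Subgroup.centralizer (A : Set G) := by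
    refine mem_centralizer_of_conj_mem hcop (fun a ha => ?_) (fun a ha => ?_)
    · have h1 := mul_mem (mul_mem hn (hx a ha))
        (conj_mem_of_mem_normalizer (hA ha) (inv_mem hn))
      simpa [mul_assoc] using h1
    · simpa [φ, mul_assoc] using h _ ⟨a, ha, rfl⟩
  simpa using inv_mem hc

/-- Fixed points pass to quotients by invariant normal subgroups. -/
theorem exists_fixed_in_coset_of_normal (A N : Subgroup G)
    (hA : A ≤ Subgroup.normalizer (N : Set G))
    (hcop : (Nat.card A).Coprime (Nat.card N)) (hsolv : Group.IsSolvable A ∨ Group.IsSolvable N)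
    (k : G) (hk : k ∈ Subgroup.normalizer (N : Set G))
    (hfix : ∀ a ∈ A, a * k * a⁻¹ * k⁻¹ ∈ N) :
    ∃ n ∈ N, k * n ∈ Subgroup.centralizer (A : Set G) :=
  exists_fixed_in_coset A N hA hcop hsolv k fun a ha => by
    simpa [mul_assoc] using conj_mem_of_mem_normalizer' hk (hfix a ha)

omit [Finite G] in
theorem solvable_of_le {A B : Subgroup G} (h : A ≤ B) (hB : Group.IsSolvable B) :
    Group.IsSolvable A :=
  haveI := hB
  Group.isSolvable_of_isSolvable_injective (Subgroup.inclusion_injective h)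

/-- If `S ⊔ K` contains `A`, some `K`-conjugate of `A` lies in `S`. -/
theorem exists_conj_le_of_le_sup (A K S : Subgroup G)
    (hAK : A ≤ Subgroup.normalizer (K : Set G)) (hS : S ≤ Subgroup.normalizer (K : Set G))
    (hcop : (Nat.card A).Coprime (Nat.card K)) (hsolv : Group.IsSolvable A ∨ Group.IsSolvable K)
    (hle : A ≤ K ⊔ S) :
    ∃ k ∈ K, ∀ a ∈ A, k * a * k⁻¹ ∈ S := by
  let T := S ⊓ (K ⊔ A)
  have hleT : A ≤ K ⊔ T := fun a ha => by
    obtain ⟨k, hk, s, hs, rfl⟩ := exists_mul_of_mem_sup hS (hle ha)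
    refine Subgroup.mul_mem_sup hk ⟨hs, ?_⟩
    simpa using mul_mem (Subgroup.mem_sup_left (T := A) (inv_mem hk))
      (Subgroup.mem_sup_right (S := K) ha)
  have hTK : T ≤ Subgroup.normalizer (K : Set G) := inf_le_left.trans hS
  have hTle : T ≤ K ⊔ A := inf_le_right
  let N₀ : Subgroup T := K.subgroupOf T
  haveI : N₀.Normal := ⟨fun n hn g => (conj_mem_of_mem_normalizer (hTK g.2) (show (n : G) ∈ K from hn) : _)⟩
  have hN₀ : Nat.card N₀ ∣ Nat.card K :=
    Subgroup.card_comap_dvd_of_injective K T.subtype T.subtype_injective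
  have hidx : N₀.index = Nat.card A := by
    symm
    have hmem : ∀ a : A, ∃ t : T, (a : G) * (t : G)⁻¹ ∈ K := fun a => by
      obtain ⟨k, hk, t, ht, e⟩ := exists_mul_of_mem_sup hTK (hleT a.2)
      exact ⟨⟨t, ht⟩, by simpa [e] using hk⟩
    choose f hf using hmem
    refine Nat.card_eq_of_bijective (fun a : A => (QuotientGroup.mk (f a) : T ⧸ N₀)) ⟨?_, ?_⟩
    · intro a b hab
      have h1 : ((f a : T) : G)⁻¹ * (f b : G) ∈ K := (QuotientGroup.eq.mp hab : _)
      have h2 : ((f a : T) : G) * (((f a : T) : G)⁻¹ * (f b : G)) * ((f a : T) : G)⁻¹ ∈ K :=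
        conj_mem_of_mem_normalizer (hTK (f a).2) h1
      have h4 := mul_mem (mul_mem (hf b) h2) (inv_mem (hf a))
      have h5 : (b : G) * (a : G)⁻¹ ∈ K := by simpa [mul_assoc] using h4
      exact Subtype.ext (mul_inv_eq_one.mp
        (inf_eq_bot_of_coprime' hcop (mul_mem b.2 (inv_mem a.2)) h5)).symm
    · rintro ⟨t⟩
      obtain ⟨k, hk, a, ha, e⟩ := exists_mul_of_mem_sup hAK (hTle t.2)
      refine ⟨⟨a, ha⟩, QuotientGroup.eq.mpr ?_⟩
      have h1 : ((f ⟨a, ha⟩ : T) : G)⁻¹ * ((a * ((f ⟨a, ha⟩ : T) : G)⁻¹)) * (f ⟨a, ha⟩ : G) ∈ K :=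
        conj_mem_of_mem_normalizer' (hTK (f ⟨a, ha⟩).2) (hf ⟨a, ha⟩)
      have h2 : ((f ⟨a, ha⟩ : T) : G)⁻¹ * a ∈ K := by simpa [mul_assoc] using h1
      have h3 := mul_mem h2 (conj_mem_of_mem_normalizer' (hAK ha) hk)
      show ((f ⟨a, ha⟩ : T) : G)⁻¹ * (t : G) ∈ K
      rw [e]
      simpa [mul_assoc] using h3
  obtain ⟨B, hB⟩ := Subgroup.exists_right_complement'_of_coprime (N := N₀)
    (hidx ▸ hcop.symm.coprime_dvd_left hN₀)
  have hBc : Nat.card B = Nat.card A := by
    rw [← hB.symm.index_eq_card, hidx]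
  let B' : Subgroup G := B.map T.subtype
  have hB'c : Nat.card B' = Nat.card A := by
    rw [← hBc]; exact (Nat.card_congr (B.equivMapOfInjective _ T.subtype_injective).toEquiv).symm
  have hB'T : B' ≤ T := Subgroup.map_subtype_le _
  have hle2 : A ≤ K ⊔ B' := fun a ha => by
    obtain ⟨k, hk, t, ht, rfl⟩ := exists_mul_of_mem_sup hTK (hleT ha)
    obtain ⟨⟨⟨n, hn⟩, ⟨b, hb⟩⟩, e⟩ := (hB.2 ⟨t, ht⟩ : _)
    have e' : ((n : T) : G) * (b : T) = t := congrArg Subtype.val e
    rw [← e', ← mul_assoc]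
    exact Subgroup.mul_mem_sup (mul_mem hk hn) ⟨b, hb, rfl⟩
  obtain ⟨k, hk, h⟩ := exists_conj_le K A B' hAK (hB'T.trans hTK) hle2 hcop
    (hB'c.symm ▸ hcop) hsolv
  exact ⟨k, hk, fun a ha => (hB'T (h a ha)).1⟩

/-- If two `K`-conjugates of a subgroup `S` contain `A`, they differ by an element of `C_K(A)`. -/
theorem exists_centralizing_mul (A K S : Subgroup G)
    (hAK : A ≤ Subgroup.normalizer (K : Set G)) (hAS : A ≤ S)
    (hcop : (Nat.card A).Coprime (Nat.card K)) (hsolv : Group.IsSolvable A ∨ Group.IsSolvable K)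
    (k : G) (hk : k ∈ K) (hkS : ∀ a ∈ A, k * a * k⁻¹ ∈ S) :
    ∃ s ∈ K ⊓ S, s * k ∈ Subgroup.centralizer (A : Set G) := by
  have hA : A ≤ Subgroup.normalizer ((K ⊓ S : Subgroup G) : Set G) :=
    le_normalizer_inf hAK (hAS.trans Subgroup.le_normalizer)
  have hd : Nat.card (K ⊓ S : Subgroup G) ∣ Nat.card K := Subgroup.card_dvd_of_le inf_le_left
  have hcond : ∀ a ∈ A, (k⁻¹)⁻¹ * (a * k⁻¹ * a⁻¹) ∈ K ⊓ S := by
    intro a ha
    have h1 : k * (a * k⁻¹ * a⁻¹) ∈ K ⊓ S := by
      refine ⟨mul_mem hk (conj_mem_of_mem_normalizer (hAK ha) (inv_mem hk)), ?_⟩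
      simpa [mul_assoc] using mul_mem (hkS a ha) (inv_mem (hAS ha))
    simpa [mul_assoc] using h1
  obtain ⟨n, hn, hc⟩ := exists_fixed_in_coset A (K ⊓ S) hA (hcop.coprime_dvd_right hd)
    (hsolv.imp_right (solvable_of_le inf_le_left)) k⁻¹ hcond
  exact ⟨n⁻¹, inv_mem hn, by simpa using inv_mem hc⟩

theorem mem_normalizer_map_iff_smul {K : Subgroup G} {p : ℕ} (P : Sylow p K) (g : G) :
    g ∈ Subgroup.normalizer ((P : Subgroup K).map K.subtype : Set G) ↔
      ((P : Subgroup K).map K.subtype).map ((MulAut.conj g : G ≃* G) : G →* G) =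
        (P : Subgroup K).map K.subtype :=
  (Subgroup.mem_normalizer_iff_map_conj_eq).trans Iff.rfl

/-- An invariant Sylow subgroup exists. -/
theorem exists_invariant_sylow (A K : Subgroup G) (hAK : A ≤ Subgroup.normalizer (K : Set G))
    (hcop : (Nat.card A).Coprime (Nat.card K)) (hsolv : Group.IsSolvable A ∨ Group.IsSolvable K)
    (p : ℕ) [Fact p.Prime] :
    ∃ P : Sylow p K, A ≤ Subgroup.normalizer ((P : Subgroup K).map K.subtype : Set G) := by
  obtain ⟨P⟩ := (inferInstance : Nonempty (Sylow p K))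
  let M := Subgroup.normalizer (K : Set G)
  let S : Subgroup G := M ⊓ Subgroup.normalizer ((P : Subgroup K).map K.subtype : Set G)
  have hle : A ≤ K ⊔ S := fun a ha => by
    let e : MulAut K :=
      { toFun := fun x => ⟨a * x * a⁻¹, conj_mem_of_mem_normalizer (hAK ha) x.2⟩
        invFun := fun x => ⟨a⁻¹ * x * a, conj_mem_of_mem_normalizer' (hAK ha) x.2⟩
        left_inv := fun x => by ext; simp [mul_assoc]
        right_inv := fun x => by ext; simp [mul_assoc]
        map_mul' := fun x y => by ext; simp [mul_assoc] }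
    have hconj : ∀ x : K, ((e x : K) : G) = a * x * a⁻¹ := fun _ => rfl
    let P₂ : Sylow p K := P.comapOfInjective e.symm.toMonoidHom e.symm.injective
      (fun y _ => ⟨e y, e.symm_apply_apply y⟩)
    obtain ⟨k, hk⟩ := MulAction.exists_smul_eq K P₂ P
    have hka : (k : G) * a ∈ Subgroup.normalizer ((P : Subgroup K).map K.subtype : Set G) := by
      have h1 : ∀ x ∈ (P : Subgroup K).map K.subtype,
          (k : G) * a * x * ((k : G) * a)⁻¹ ∈ (P : Subgroup K).map K.subtype := by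
        rintro _ ⟨x, hx, rfl⟩
        have h2 : k * e x * k⁻¹ ∈ (P : Subgroup K) := by
          rw [← hk]
          refine Subgroup.mem_map.mpr ⟨e x, ?_, rfl⟩
          show e.symm (e x) ∈ (P : Subgroup K)
          rwa [MulEquiv.symm_apply_apply]
        exact ⟨_, h2, by simp [hconj, mul_assoc]⟩
      rw [mem_normalizer_map_iff_smul]
      refine Subgroup.eq_of_le_of_card_ge ?_ (Nat.card_congr
        (Subgroup.equivMapOfInjective _ _ (MulAut.conj _).injective).toEquiv).le
      rintro _ ⟨x, hx, rfl⟩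
      exact h1 x hx
    have : a = (k : G)⁻¹ * ((k : G) * a) := by simp
    rw [this]
    exact Subgroup.mul_mem_sup (inv_mem k.2)
      ⟨mul_mem (Subgroup.le_normalizer k.2) (hAK ha), hka⟩
  obtain ⟨k, hk, h⟩ := exists_conj_le_of_le_sup A K S hAK inf_le_left hcop hsolv hle
  refine ⟨(⟨k, hk⟩ : K)⁻¹ • P, le_normalizer_of_conj_mem fun a ha => ?_⟩
  rintro _ ⟨y, hy, rfl⟩
  rw [Sylow.smul_def] at hy
  obtain ⟨x, hx, rfl⟩ := hy
  obtain ⟨x', hx', e⟩ := conj_mem_of_mem_normalizer (h a ha).2 ⟨x, hx, rfl⟩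
  refine ⟨_, ⟨x', hx', rfl⟩, ?_⟩
  simp only [Subgroup.coe_subtype] at e
  simp [e, mul_assoc]

/-- Invariant Sylow subgroups are conjugate under `C_K(A)`. -/
theorem exists_invariant_sylow_conj (A K : Subgroup G) (hAK : A ≤ Subgroup.normalizer (K : Set G))
    (hcop : (Nat.card A).Coprime (Nat.card K)) (hsolv : Group.IsSolvable A ∨ Group.IsSolvable K)
    (p : ℕ) [Fact p.Prime] (P Q : Sylow p K)
    (hP : A ≤ Subgroup.normalizer ((P : Subgroup K).map K.subtype : Set G))
    (hQ : A ≤ Subgroup.normalizer ((Q : Subgroup K).map K.subtype : Set G)) :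
    ∃ c : K, (c : G) ∈ Subgroup.centralizer (A : Set G) ∧ c • P = Q := by
  obtain ⟨k, rfl⟩ := MulAction.exists_smul_eq K P Q
  have hmap : ∀ j : K, ((j • P : Sylow p K) : Subgroup K).map K.subtype =
      ((P : Subgroup K).map K.subtype).map ((MulAut.conj (j : G) : G ≃* G) : G →* G) := fun j => by
    have e : K.subtype.comp ((MulAut.conj j : K ≃* K) : K →* K) =
        ((MulAut.conj (j : G) : G ≃* G) : G →* G).comp K.subtype := by ext x; simp
    rw [Subgroup.map_map, ← e, ← Subgroup.map_map]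
    rfl
  let S := Subgroup.normalizer (((k • P : Sylow p K) : Subgroup K).map K.subtype : Set G)
  have hcond : ∀ a ∈ A, (k : G) * a * (k : G)⁻¹ ∈ S := by
    intro a ha
    refine Subgroup.mem_normalizer_iff.mpr fun x => ?_
    have mem : ∀ y : G, y ∈ ((k • P : Sylow p K) : Subgroup K).map K.subtype ↔
        (k : G)⁻¹ * y * k ∈ (P : Subgroup K).map K.subtype := fun y => by
      rw [hmap k]
      constructor
      · rintro ⟨z, ⟨w, hw, rfl⟩, rfl⟩
        exact ⟨w, hw, by simp [mul_assoc]⟩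
      · intro hz
        exact ⟨_, hz, by simp [mul_assoc]⟩
    rw [mem, mem, Subgroup.mem_normalizer_iff.mp (hP ha) ((k : G)⁻¹ * x * k)]
    group
  obtain ⟨s, hs, hc⟩ := exists_centralizing_mul A K S hAK hQ hcop hsolv k k.2 hcond
  refine ⟨⟨s * k, mul_mem hs.1 k.2⟩, hc, Sylow.ext (Subgroup.map_injective K.subtype_injective ?_)⟩
  rw [hmap]
  have h1 := (mem_normalizer_map_iff_smul (k • P) s).mp hs.2
  rw [hmap k] at h1
  rw [hmap k]
  conv_rhs => rw [← h1]
  simp only [Subgroup.map_map]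
  refine congrArg (fun f : K →* G => Subgroup.map f (P : Subgroup K)) (MonoidHom.ext fun x => ?_)
  simp [mul_assoc]

/-- An invariant `p`-subgroup lies in an invariant Sylow subgroup. -/
theorem exists_invariant_sylow_ge (A K : Subgroup G) (hAK : A ≤ Subgroup.normalizer (K : Set G))
    (hcop : (Nat.card A).Coprime (Nat.card K)) (hsolv : Group.IsSolvable A ∨ Group.IsSolvable K)
    (p : ℕ) [Fact p.Prime] (U : Subgroup G) (hUK : U ≤ K) (hU : IsPGroup p U)
    (hUA : A ≤ Subgroup.normalizer (U : Set G)) :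
    ∃ P : Sylow p K, U ≤ (P : Subgroup K).map K.subtype ∧
      A ≤ Subgroup.normalizer ((P : Subgroup K).map K.subtype : Set G) := by
  induction hc : Nat.card G - Nat.card U using Nat.strong_induction_on generalizing U with
  | _ c IH =>
  let L := K ⊓ Subgroup.normalizer (U : Set G)
  have hL : A ≤ Subgroup.normalizer (L : Set G) :=
    le_normalizer_inf hAK (le_normalizer_normalizer hUA)
  obtain ⟨Q, hQ⟩ := exists_invariant_sylow A L hL
    (hcop.coprime_dvd_right (Subgroup.card_dvd_of_le inf_le_left))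
    (hsolv.imp_right (solvable_of_le inf_le_left)) p
  let V := (Q : Subgroup L).map L.subtype
  have hUV : U ≤ V := fun u hu => by
    have hUL : U ≤ L := le_inf hUK Subgroup.le_normalizer
    have hn : (U.subgroupOf L).Normal :=
      ⟨fun n hn g => (conj_mem_of_mem_normalizer (g := (g : G)) g.2.2 (show (n : G) ∈ U from hn) : _)⟩
    obtain ⟨R, hR⟩ := (hU.of_equiv (Subgroup.subgroupOfEquivOfLe hUL).symm :
      IsPGroup p (U.subgroupOf L)).exists_le_sylow
    obtain ⟨g, rfl⟩ := MulAction.exists_smul_eq L R Q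
    refine ⟨⟨u, hUL hu⟩, ?_, rfl⟩
    refine Subgroup.mem_map.mpr ⟨g⁻¹ * ⟨u, hUL hu⟩ * g, hR ?_, by
      show g * (g⁻¹ * ⟨u, hUL hu⟩ * g) * g⁻¹ = _
      group⟩
    simpa using hn.conj_mem ⟨u, hUL hu⟩ hu g⁻¹
  rcases eq_or_lt_of_le hUV with heq | hlt
  · obtain ⟨R, hR⟩ := (hU.of_equiv (Subgroup.subgroupOfEquivOfLe hUK).symm :
      IsPGroup p (U.subgroupOf K)).exists_le_sylow
    have hfin : U.subgroupOf K = (R : Subgroup K) := by
      by_contra hne
      have hlt' : (U.subgroupOf K).subgroupOf (R : Subgroup K) < ⊤ := by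
        refine lt_top_iff_ne_top.mpr fun h => hne (le_antisymm hR ?_)
        exact Subgroup.subgroupOf_eq_top.mp h
      haveI := R.isPGroup'.isNilpotent
      obtain ⟨x, hxn, hxU⟩ := SetLike.exists_of_lt (Group.normalizerCondition_of_isNilpotent _ hlt')
      have hxN : ((x : K) : G) ∈ Subgroup.normalizer (U : Set G) := by
        refine mem_normalizer_of_le_iff (fun u hu => ?_) (fun u hu => ?_)
        · exact conj_mem_of_mem_normalizer hxn
            (x := (⟨⟨u, hUK hu⟩, hR hu⟩ : (R : Subgroup K))) hu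
        · exact conj_mem_of_mem_normalizer' hxn
            (x := (⟨⟨u, hUK hu⟩, hR hu⟩ : (R : Subgroup K))) hu
      let W : Subgroup L := ((R : Subgroup K).map K.subtype).subgroupOf L
      have hW : IsPGroup p W := (R.isPGroup'.map K.subtype).comap_of_injective _ L.subtype_injective
      have hQW : (Q : Subgroup L) ≤ W := fun y hy => by
        have hyU : (y : G) ∈ U := by rw [heq]; exact ⟨y, hy, rfl⟩
        exact ⟨⟨y, hUK hyU⟩, hR hyU, rfl⟩
      have hxQ : (⟨((x : K) : G), ⟨(x : K).2, hxN⟩⟩ : L) ∈ (Q : Subgroup L) := by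
        rw [← Q.is_maximal' hW hQW]
        exact ⟨x, x.2, rfl⟩
      apply hxU
      show ((x : K) : G) ∈ U
      rw [heq]
      exact ⟨_, hxQ, rfl⟩
    have hmap : (R : Subgroup K).map K.subtype = U := by
      rw [← hfin, Subgroup.map_subgroupOf_eq_of_le hUK]
    exact ⟨R, hmap.ge, hmap.symm ▸ hUA⟩
  · have h1 : Nat.card V ≤ Nat.card G := Subgroup.card_le_card_group _
    have h2 : Nat.card U < Nat.card V := by
      refine lt_of_le_of_ne (Subgroup.card_le_of_le hUV) fun he => hlt.ne ?_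
      exact Subgroup.eq_of_le_of_card_ge hUV he.ge
    obtain ⟨P, hP1, hP2⟩ := IH _ (by omega) V ((Subgroup.map_subtype_le _).trans inf_le_left)
      (Q.isPGroup'.map _) hQ rfl
    exact ⟨P, hUV.trans hP1, hP2⟩

omit [Finite G] in
/-- `K` normalises `⁅K, A⁆`. -/
theorem le_normalizer_commutator_left (A K : Subgroup G) :
    K ≤ Subgroup.normalizer ((⁅K, A⁆ : Subgroup G) : Set G) :=
  le_normalizer_of_conj_mem fun k hk x hx => by
    refine ((Subgroup.commutator_le.mpr fun k₁ hk₁ a ha => ?_) :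
      ⁅K, A⁆ ≤ (⁅K, A⁆).comap ((MulAut.conj k : G ≃* G) : G →* G)) hx
    show k * ⁅k₁, a⁆ * k⁻¹ ∈ ⁅K, A⁆
    have := mul_mem (Subgroup.commutator_mem_commutator (mul_mem hk hk₁) ha)
      (inv_mem (Subgroup.commutator_mem_commutator hk ha))
    simpa [commutatorElement_def, mul_assoc] using this

omit [Finite G] in
theorem le_normalizer_commutator_right (A K : Subgroup G) :
    A ≤ Subgroup.normalizer ((⁅K, A⁆ : Subgroup G) : Set G) := by
  rw [Subgroup.commutator_comm]; exact le_normalizer_commutator_left K A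

omit [Finite G] in
theorem commutator_le_of_le_normalizer {A K : Subgroup G}
    (hAK : A ≤ Subgroup.normalizer (K : Set G)) : ⁅K, A⁆ ≤ K :=
  Subgroup.commutator_le.mpr fun k hk a ha => by
    have := mul_mem hk (conj_mem_of_mem_normalizer (hAK ha) (inv_mem hk))
    simpa [commutatorElement_def, mul_assoc] using this

/-- `K = ⁅K, A⁆ C_K(A)`, elementwise. -/
theorem exists_commutator_mul_centralizer (A K : Subgroup G)
    (hAK : A ≤ Subgroup.normalizer (K : Set G))
    (hcop : (Nat.card A).Coprime (Nat.card K)) (hsolv : Group.IsSolvable A ∨ Group.IsSolvable K)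
    (k : G) (hk : k ∈ K) :
    ∃ x ∈ ⁅K, A⁆, ∃ c ∈ K ⊓ Subgroup.centralizer (A : Set G), k = x * c := by
  have hle := commutator_le_of_le_normalizer hAK
  obtain ⟨n, hn, hc⟩ := exists_fixed_in_coset_of_normal A ⁅K, A⁆
    (le_normalizer_commutator_right A K) (hcop.coprime_dvd_right (Subgroup.card_dvd_of_le hle))
    (hsolv.imp_right (solvable_of_le hle)) k (le_normalizer_commutator_left A K hk)
    (fun a ha => by
      rw [Subgroup.commutator_comm]
      exact Subgroup.commutator_mem_commutator ha hk)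
  refine ⟨k * n⁻¹ * k⁻¹, conj_mem_of_mem_normalizer (le_normalizer_commutator_left A K hk)
    (inv_mem hn), k * n, ⟨mul_mem hk (hle hn), hc⟩, ?_⟩
  group

/-- `K = ⁅K, A⁆ C_K(A)`. -/
theorem commutator_sup_centralizer (A K : Subgroup G) (hAK : A ≤ Subgroup.normalizer (K : Set G))
    (hcop : (Nat.card A).Coprime (Nat.card K)) (hsolv : Group.IsSolvable A ∨ Group.IsSolvable K) :
    ⁅K, A⁆ ⊔ (K ⊓ Subgroup.centralizer (A : Set G)) = K := by
  refine le_antisymm (sup_le (commutator_le_of_le_normalizer hAK) inf_le_left) fun k hk => ?_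
  obtain ⟨x, hx, c, hc, rfl⟩ := exists_commutator_mul_centralizer A K hAK hcop hsolv k hk
  exact Subgroup.mul_mem_sup hx hc

/-- `⁅⁅K, A⁆, A⁆ = ⁅K, A⁆`. -/
theorem commutator_commutator_eq (A K : Subgroup G) (hAK : A ≤ Subgroup.normalizer (K : Set G))
    (hcop : (Nat.card A).Coprime (Nat.card K)) (hsolv : Group.IsSolvable A ∨ Group.IsSolvable K) :
    ⁅⁅K, A⁆, A⁆ = ⁅K, A⁆ := by
  refine le_antisymm (Subgroup.commutator_mono (commutator_le_of_le_normalizer hAK) le_rfl) ?_
  refine Subgroup.commutator_le.mpr fun k hk a ha => ?_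
  obtain ⟨x, hx, c, hc, rfl⟩ := exists_commutator_mul_centralizer A K hAK hcop hsolv k hk
  have hcomm : a * c = c * a := Subgroup.mem_centralizer_iff.mp hc.2 a ha
  have : ⁅x * c, a⁆ = ⁅x, a⁆ := by
    calc ⁅x * c, a⁆ = x * (c * a * c⁻¹) * x⁻¹ * a⁻¹ := by
          simp [commutatorElement_def, mul_assoc]
      _ = ⁅x, a⁆ := by rw [← hcomm]; simp [commutatorElement_def, mul_assoc]
  rw [this]
  exact Subgroup.commutator_mem_commutator hx ha

theorem isSolvable_of_isNilpotent' {H : Type*} [Group H] (h : Group.IsNilpotent H) :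
    Group.IsSolvable H := by
  haveI := h
  infer_instance

/-- An action trivial on the Frattini quotient, coprime on the Frattini subgroup, is trivial. -/
theorem le_centralizer_of_frattini (A K : Subgroup G) (hAK : A ≤ Subgroup.normalizer (K : Set G))
    (hcop : (Nat.card A).Coprime (Nat.card (frattini K)))
    (htriv : ∀ a ∈ A, ∀ k ∈ K, a * k * a⁻¹ * k⁻¹ ∈ (frattini K).map K.subtype) :
    A ≤ Subgroup.centralizer (K : Set G) := by
  let Φ := (frattini K).map K.subtype
  have hKΦ : K ≤ Subgroup.normalizer (Φ : Set G) := le_normalizer_of_conj_mem fun k hk => by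
    rintro _ ⟨x, hx, rfl⟩
    exact ⟨_, (inferInstance : (frattini K).Normal).conj_mem x hx ⟨k, hk⟩, rfl⟩
  have hAΦ : A ≤ Subgroup.normalizer (Φ : Set G) := le_normalizer_of_conj_mem fun a ha => by
    rintro _ ⟨x, hx, rfl⟩
    show a * (x : G) * a⁻¹ ∈ Φ
    have h1 : a * (x : G) * a⁻¹ * (x : G)⁻¹ * (x : G) ∈ Φ :=
      mul_mem (htriv a ha x x.2) (Subgroup.mem_map_of_mem K.subtype hx)
    simpa only [inv_mul_cancel_right] using h1
  have hΦc : Nat.card Φ = Nat.card (frattini K) :=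
    (Nat.card_congr (Subgroup.equivMapOfInjective _ _ K.subtype_injective).toEquiv).symm
  have hsolv : Group.IsSolvable Φ :=
    haveI := isSolvable_of_isNilpotent' (frattini_nilpotent (G := K))
    Group.isSolvable_of_surjective
      (f := ((frattini K).equivMapOfInjective _ K.subtype_injective).toMonoidHom)
      ((frattini K).equivMapOfInjective _ K.subtype_injective).surjective
  have htop : (Subgroup.centralizer (A : Set G)).subgroupOf K = ⊤ := by
    apply frattini_nongenerating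
    refine eq_top_iff.mpr fun x _ => ?_
    obtain ⟨n, hn, hc⟩ := exists_fixed_in_coset_of_normal A Φ hAΦ (hΦc ▸ hcop) (Or.inr hsolv)
      x (hKΦ x.2) (fun a ha => htriv a ha x x.2)
    obtain ⟨n', hn', rfl⟩ := hn
    have : x = (x * n') * n'⁻¹ := by group
    rw [this]
    exact Subgroup.mul_mem_sup hc (inv_mem hn')
  intro a ha
  refine Subgroup.mem_centralizer_iff.mpr fun k hk => ?_
  have := Subgroup.subgroupOf_eq_top.mp htop hk
  exact (Subgroup.mem_centralizer_iff.mp this a ha).symm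

/-- Fixed points of a product of invariant subgroups factor. -/
theorem exists_mul_fixed (A X Y : Subgroup G) (hXA : A ≤ Subgroup.normalizer (X : Set G))
    (hYA : A ≤ Subgroup.normalizer (Y : Set G))
    (hcop : (Nat.card A).Coprime (Nat.card (X ⊓ Y : Subgroup G)))
    (hsolv : Group.IsSolvable A ∨ Group.IsSolvable (X ⊓ Y : Subgroup G))
    (x y : G) (hx : x ∈ X) (hy : y ∈ Y) (hfix : x * y ∈ Subgroup.centralizer (A : Set G)) :
    ∃ x' ∈ X ⊓ Subgroup.centralizer (A : Set G), ∃ y' ∈ Y ⊓ Subgroup.centralizer (A : Set G),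
      x * y = x' * y' := by
  have hcond : ∀ a ∈ A, x⁻¹ * (a * x * a⁻¹) ∈ X ⊓ Y := by
    intro a ha
    refine Subgroup.mem_inf.mpr ⟨mul_mem (inv_mem hx) (conj_mem_of_mem_normalizer (hXA ha) hx), ?_⟩
    have h1 : a * (x * y) = x * y * a := Subgroup.mem_centralizer_iff.mp hfix a ha
    have h2 : x⁻¹ * (a * x * a⁻¹) = y * (a * y⁻¹ * a⁻¹) := by
      calc x⁻¹ * (a * x * a⁻¹) = x⁻¹ * (a * (x * y)) * (y⁻¹ * a⁻¹) := by group
        _ = x⁻¹ * (x * y * a) * (y⁻¹ * a⁻¹) := by rw [h1]
        _ = y * (a * y⁻¹ * a⁻¹) := by group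
    rw [h2]
    exact mul_mem hy (conj_mem_of_mem_normalizer (hYA ha) (inv_mem hy))
  obtain ⟨n, hn, hc⟩ := exists_fixed_in_coset A (X ⊓ Y) (le_normalizer_inf hXA hYA) hcop hsolv x
    hcond
  refine ⟨x * n, ⟨mul_mem hx hn.1, hc⟩, n⁻¹ * y, ⟨Y.mul_mem (Y.inv_mem hn.2) hy, ?_⟩, by group⟩
  have := mul_mem (inv_mem hc) hfix
  simpa [mul_assoc] using this

theorem eq_bot_of_le_commutator (M : Subgroup G) (hM : Group.IsNilpotent M) {U : Subgroup G}
    (hUM : U ≤ M) (h : U ≤ ⁅U, M⁆) : U = ⊥ := by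
  haveI := hM
  have key : ∀ n, U ≤ ((⊤ : Subgroup M).lowerCentralSeries n).map M.subtype := by
    intro n
    induction n with
    | zero => simpa [← MonoidHom.range_eq_map] using hUM
    | succ n ih =>
      refine h.trans ((Subgroup.commutator_mono ih le_rfl).trans ?_)
      rw [Subgroup.lowerCentralSeries_succ, Subgroup.map_commutator]
      simp [← MonoidHom.range_eq_map]
  obtain ⟨n, hn⟩ := Subgroup.nilpotent_iff_lowerCentralSeries.mp hM
  simpa [hn] using key n

/-- Thompson's `P × Q` lemma. -/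
theorem thompson_pxq (p : ℕ) [Fact p.Prime] (P Q U : Subgroup G) (hP : IsPGroup p P)
    (hQ : (Nat.card Q).Coprime p) (hU : IsPGroup p U)
    (hPQ : P ≤ Subgroup.centralizer (Q : Set G))
    (hPU : P ≤ Subgroup.normalizer (U : Set G)) (hQU : Q ≤ Subgroup.normalizer (U : Set G))
    (hC : U ⊓ Subgroup.centralizer (P : Set G) ≤ Subgroup.centralizer (Q : Set G)) :
    Q ≤ Subgroup.centralizer (U : Set G) := by
  induction hc : Nat.card U using Nat.strong_induction_on generalizing U with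
  | _ c IH =>
  rcases eq_or_ne U ⊥ with rfl | hne
  · intro q _
    exact Subgroup.mem_centralizer_iff.mpr fun x hx => by simp [Subgroup.mem_bot.mp hx]
  have hcop : (Nat.card Q).Coprime (Nat.card U) := by
    obtain ⟨n, hn⟩ := IsPGroup.iff_card.mp hU
    rw [hn]; exact hQ.pow_right n
  have hsol : Group.IsSolvable U := isSolvable_of_isNilpotent' hU.isNilpotent
  let V := ⁅U, P⁆
  have hVU : V ≤ U := commutator_le_of_le_normalizer hPU
  have hQP : Q ≤ Subgroup.normalizer (P : Set G) := le_normalizer_of_conj_mem fun q hq x hx => by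
    have := Subgroup.mem_centralizer_iff.mp (hPQ hx) q hq
    rw [this]; simpa using hx
  have hVne : V ≠ U := fun he => hne <| by
    refine eq_bot_of_le_commutator (U ⊔ P) (IsPGroup.isNilpotent (p := p)
      (hU.to_sup_of_normal_left' hP hPU)) le_sup_left ?_
    exact he.ge.trans (Subgroup.commutator_mono le_rfl le_sup_right)
  have hVc : Nat.card V < c := by
    rw [← hc]
    refine lt_of_le_of_ne (Subgroup.card_le_of_le hVU) fun he => hVne ?_
    exact Subgroup.eq_of_le_of_card_ge hVU he.ge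
  have hQV : Q ≤ Subgroup.normalizer (V : Set G) := le_normalizer_of_conj_mem fun q hq x hx => by
    refine ((Subgroup.commutator_le.mpr fun u hu y hy => ?_) :
      V ≤ V.comap ((MulAut.conj q : G ≃* G) : G →* G)) hx
    show q * ⁅u, y⁆ * q⁻¹ ∈ V
    have := Subgroup.commutator_mem_commutator (conj_mem_of_mem_normalizer (hQU hq) hu)
      (conj_mem_of_mem_normalizer (hQP hq) hy)
    simpa [commutatorElement_def, mul_assoc] using this
  have h1 : Q ≤ Subgroup.centralizer (V : Set G) := IH _ hVc V (hU.to_le hVU)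
    (le_normalizer_commutator_right P U) hQV
    ((inf_le_inf_right _ hVU).trans hC) rfl
  have h2 : ⁅⁅P, Q⁆, U⁆ = ⊥ := by
    have h : ⁅P, Q⁆ = ⊥ := Subgroup.commutator_eq_bot_iff_le_centralizer.mpr hPQ
    rw [h, Subgroup.commutator_bot_left]
  have h3 : ⁅⁅U, P⁆, Q⁆ = ⊥ :=
    Subgroup.commutator_eq_bot_iff_le_centralizer.mpr (Subgroup.le_centralizer_iff.mp h1)
  have h4 : ⁅⁅Q, U⁆, P⁆ = ⊥ := Subgroup.commutator_commutator_eq_bot_of_rotate h3 h2
  have h5 : ⁅Q, U⁆ ≤ U ⊓ Subgroup.centralizer (P : Set G) :=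
    le_inf (by rw [Subgroup.commutator_comm]; exact commutator_le_of_le_normalizer hQU)
      (Subgroup.commutator_eq_bot_iff_le_centralizer.mp h4)
  have h6 : ⁅⁅U, Q⁆, Q⁆ = ⊥ := Subgroup.commutator_eq_bot_iff_le_centralizer.mpr
    (by rw [Subgroup.commutator_comm]; exact h5.trans hC)
  rw [commutator_commutator_eq Q U hQU hcop (Or.inr hsol), Subgroup.commutator_comm] at h6
  exact Subgroup.commutator_eq_bot_iff_le_centralizer.mp h6

end Cfsg.Agent.Coprime
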