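import Cfsg.Agent.Lib.Coprime.Action
import Mathlib.GroupTheory.SpecificGroups.Cyclic
import Mathlib.Data.ZMod.Basic
import Mathlib.Algebra.Field.ZMod

/-!
Generation by centralisers under the coprime action of a noncyclic abelian group.
-/

set_option autoImplicit false

namespace Cfsg.Agent.Coprime

variable {G : Type*} [Group G]

theorem pow_val_add {n : ℕ} [NeZero n] {u : G} (hu : u ^ n = 1) (j k : ZMod n) :
    u ^ (j + k).val = u ^ j.val * u ^ k.val := by
  rw [ZMod.val_add, ← pow_eq_pow_mod _ hu, pow_add]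

/-- A finite noncyclic abelian group has two independent elements of the same prime order. -/
theorem exists_independent_of_not_isCyclic (A : Subgroup G) [IsMulCommutative A] [Finite A]
    (hA : ¬ IsCyclic A) :
    ∃ r, r.Prime ∧ r ∣ Nat.card A ∧ ∃ a ∈ A, ∃ b ∈ A, a ^ r = 1 ∧ b ^ r = 1 ∧ a ≠ 1 ∧
      b ∉ Subgroup.zpowers a := by
  classical
  cases nonempty_fintype A
  by_contra hno
  push Not at hno
  let S : ℕ → Finset A := fun n => Finset.univ.filter fun x => x ^ n = 1
  have hprime : ∀ r, r.Prime → (S r).card ≤ r := by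
    intro r hr
    by_cases htriv : ∀ x ∈ S r, x = 1
    · calc (S r).card ≤ ({1} : Finset A).card :=
            Finset.card_le_card fun x hx => Finset.mem_singleton.mpr (htriv x hx)
        _ ≤ r := by simpa using hr.one_le
    push Not at htriv
    obtain ⟨a, ha, ha1⟩ := htriv
    have har : a ^ r = 1 := (Finset.mem_filter.mp ha).2
    haveI : Fact r.Prime := ⟨hr⟩
    have hord : orderOf a = r := orderOf_eq_prime har ha1
    have hdvd : r ∣ Nat.card A := hord ▸ orderOf_dvd_natCard a
    have hsub : S r ⊆ (Finset.range r).image (a ^ ·) := by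
      intro x hx
      have h := hno r hr hdvd a a.2 x x.2 (by exact_mod_cast congrArg Subtype.val har)
        (by exact_mod_cast congrArg Subtype.val (Finset.mem_filter.mp hx).2)
        (fun h => ha1 (Subtype.ext h))
      obtain ⟨i, hi⟩ := Subgroup.mem_zpowers_iff.mp h
      refine Finset.mem_image.mpr ?_
      have hi' : a ^ i = x := Subtype.ext (by simpa using hi)
      have hx' : x ∈ Subgroup.zpowers a := ⟨i, hi'⟩
      rw [mem_zpowers_iff_mem_range_orderOf, hord] at hx'
      exact Finset.mem_image.mp hx'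
    exact (Finset.card_le_card hsub).trans (Finset.card_image_le.trans (by simp))
  have hall : ∀ n, 0 < n → (S n).card ≤ n := by
    intro n
    induction n using Nat.strong_induction_on with
    | _ n IH =>
    intro hn
    rcases eq_or_ne n 1 with rfl | hn1
    · simp [S, Finset.filter_eq']
    obtain ⟨r, hr, m, rfl⟩ := Nat.exists_prime_and_dvd hn1
    have hm : 0 < m := Nat.pos_of_mul_pos_left hn
    have hmlt : m < r * m := lt_mul_of_one_lt_left hm hr.one_lt
    have hfib : ∀ y ∈ (S (r * m)).image (fun x => x ^ r),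
        ((S (r * m)).filter fun x => x ^ r = y).card ≤ r := by
      intro y hy
      obtain ⟨x₀, -, rfl⟩ := Finset.mem_image.mp hy
      refine le_trans (Finset.card_le_card_of_injOn (fun x => x * x₀⁻¹) ?_ ?_) (hprime r hr)
      · intro x hx
        simp only [Finset.coe_filter, Set.mem_setOf_eq] at hx
        have hc : Commute x x₀⁻¹ := mul_comm' x x₀⁻¹
        simp [S, hc.mul_pow, hx.2]
      · intro x _ y _ h
        exact mul_right_cancel h
    calc (S (r * m)).card ≤ r * ((S (r * m)).image (fun x => x ^ r)).card :=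
          Finset.card_le_mul_card_image _ r hfib
      _ ≤ r * m := by
          refine Nat.mul_le_mul_left r (le_trans (Finset.card_le_card ?_) (IH m hmlt hm))
          intro y hy
          obtain ⟨x, hx, rfl⟩ := Finset.mem_image.mp hy
          simp only [S, Finset.mem_filter, Finset.mem_univ, true_and] at hx ⊢
          rw [← pow_mul, hx]
  exact hA (isCyclic_of_card_pow_eq_one_le fun n hn => hall n hn)

section

variable [Finite G]

set_option maxHeartbeats 1000000 in
/-- The abelian layer: if `N ◁ K` is invariant and `K / N` is abelian, then `K` lies in any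
subgroup containing `N` and the fixed points of the nonidentity elements of `A`. -/
theorem le_of_centralizer_le_layer (A K H N : Subgroup G) [IsMulCommutative A]
    (hAK : A ≤ Subgroup.normalizer (K : Set G)) (hAN : A ≤ Subgroup.normalizer (N : Set G))
    (hNK : N ≤ K) (hKN : K ≤ Subgroup.normalizer (N : Set G))
    (hab : ∀ x ∈ K, ∀ y ∈ K, x * y * x⁻¹ * y⁻¹ ∈ N)
    (hcop : (Nat.card A).Coprime (Nat.card K)) (hNH : N ≤ H)
    {r : ℕ} [hr : Fact r.Prime] (hrA : r ∣ Nat.card A) {a b : G} (ha : a ∈ A) (hb : b ∈ A)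
    (har : a ^ r = 1) (hbr : b ^ r = 1) (ha1 : a ≠ 1) (hba : b ∉ Subgroup.zpowers a)
    (hC : ∀ e ∈ A, e ≠ 1 → K ⊓ Subgroup.centralizer {e} ≤ H) : K ≤ H := by
  classical
  haveI : (N.subgroupOf K).Normal :=
    ⟨fun n hn g => (conj_mem_of_mem_normalizer (hKN g.2) (show (n : G) ∈ N from hn) : _)⟩
  let q := QuotientGroup.mk' (N.subgroupOf K)
  letI : CommGroup (K ⧸ N.subgroupOf K) :=
    { (inferInstance : Group (K ⧸ N.subgroupOf K)) with
      mul_comm := fun u v => by
        refine QuotientGroup.induction_on u fun x => ?_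
        refine QuotientGroup.induction_on v fun y => ?_
        refine QuotientGroup.eq.mpr ?_
        have h := hab (y : G)⁻¹ (inv_mem y.2) (x : G)⁻¹ (inv_mem x.2)
        show ((x : G) * y)⁻¹ * ((y : G) * x) ∈ N
        simpa [mul_assoc] using h }
  let σ : A → K →* K := fun e =>
    { toFun := fun x => ⟨(e : G) * x * (e : G)⁻¹, conj_mem_of_mem_normalizer (hAK e.2) x.2⟩
      map_one' := by ext; simp
      map_mul' := fun x y => by ext; simp [mul_assoc] }
  let τ : A → (K ⧸ N.subgroupOf K) →* (K ⧸ N.subgroupOf K) := fun e =>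
    QuotientGroup.map _ _ (σ e) fun x hx =>
      (conj_mem_of_mem_normalizer (hAN e.2) (show (x : G) ∈ N from hx) : _)
  have hτ : ∀ (e : A) (x : K), τ e (q x) = q (σ e x) := fun _ _ => rfl
  have hστ : ∀ (e e' : A) (x : K), σ e (σ e' x) = σ (e * e') x := fun e e' x => by
    ext; simp [σ, mul_assoc]
  let Q : Subgroup (K ⧸ N.subgroupOf K) := (H.subgroupOf K).map q
  have hfix : ∀ (e : A), (e : G) ≠ 1 → ∀ u, τ e u = u → u ∈ Q := by
    intro e he u
    refine QuotientGroup.induction_on u fun x hx => ?_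
    have hx1 : (e : G) * x * (e : G)⁻¹ * (x : G)⁻¹ ∈ N := by
      have h1 : ((σ e x)⁻¹ * x : K) ∈ N.subgroupOf K :=
        QuotientGroup.eq.mp ((hτ e x).symm.trans hx)
      have h2 : (x : G) * ((σ e x : K) : G)⁻¹ ∈ N := by
        have := conj_mem_of_mem_normalizer (hKN (σ e x).2)
          (show ((σ e x : K) : G)⁻¹ * x ∈ N from h1)
        simpa [mul_assoc] using this
      simpa [σ, mul_assoc] using inv_mem h2
    have hpow : ∀ k : ℕ, (e : G) ^ k * x * ((e : G) ^ k)⁻¹ * (x : G)⁻¹ ∈ N := by
      intro k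
      induction k with
      | zero => simp
      | succ k ih =>
        have h3 := mul_mem (conj_mem_of_mem_normalizer (hAN e.2) ih) hx1
        rw [pow_succ']
        simpa [mul_assoc] using h3
    obtain ⟨n, hn, hc⟩ := exists_fixed_in_coset_of_normal (Subgroup.zpowers (e : G)) N
      ((Subgroup.zpowers_le.mpr e.2).trans hAN)
      ((hcop.coprime_dvd_left (Subgroup.card_dvd_of_le (Subgroup.zpowers_le.mpr e.2))
        ).coprime_dvd_right (Subgroup.card_dvd_of_le hNK))
      (Or.inl (Group.isSolvable_of_comm fun a b => mul_comm' a b)) x (hKN x.2)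
      (fun y hy => by
        obtain ⟨k, rfl⟩ := (mem_powers_iff_mem_zpowers (x := (e : G))).mpr hy
        exact hpow k)
    have hxn : (x : G) * n ∈ H := hC e e.2 he ⟨mul_mem x.2 (hNK hn),
      Subgroup.mem_centralizer_iff.mpr fun y hy => Subgroup.mem_centralizer_iff.mp hc y (by
        rw [Set.mem_singleton_iff.mp hy]; exact Subgroup.mem_zpowers _)⟩
    refine ⟨x, ?_, rfl⟩
    show (x : G) ∈ H
    simpa using mul_mem hxn (inv_mem (hNH hn))
  intro x hx
  let a' : A := ⟨a, ha⟩
  let b' : A := ⟨b, hb⟩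
  have har' : a' ^ r = 1 := Subtype.ext (by simpa using har)
  have hbr' : b' ^ r = 1 := Subtype.ext (by simpa using hbr)
  let f : ZMod r → ZMod r → K ⧸ N.subgroupOf K := fun j k =>
    q (σ (a' ^ j.val * b' ^ k.val) ⟨x, hx⟩)
  have hshift : ∀ s t j k : ZMod r, τ (a' ^ s.val * b' ^ t.val) (f j k) = f (s + j) (t + k) := by
    intro s t j k
    simp only [f, hτ, hστ, pow_val_add har', pow_val_add hbr']
    rw [show a' ^ s.val * b' ^ t.val * (a' ^ j.val * b' ^ k.val) =
      a' ^ s.val * a' ^ j.val * (b' ^ t.val * b' ^ k.val) by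
        rw [mul_assoc, ← mul_assoc (b' ^ t.val), mul_comm' (b' ^ t.val) (a' ^ j.val)]
        simp [mul_assoc]]
  have h1v : (1 : ZMod r).val = 1 := by rw [ZMod.val_one]
  have hU : ∀ i : ZMod r, (∏ j, f j (i * j)) ∈ Q := by
    intro i
    refine hfix (a' ^ (1 : ZMod r).val * b' ^ i.val) ?_ _ ?_
    · intro h
      rw [h1v, pow_one] at h
      have h' : a * b ^ i.val = 1 := h
      rcases Nat.eq_zero_or_pos i.val with h0 | h0
      · rw [h0, pow_zero, mul_one] at h'
        exact ha1 h'
      · apply hba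
        have hbi : b ^ i.val ∈ Subgroup.zpowers a := by
          rw [eq_inv_of_mul_eq_one_right h']
          exact inv_mem (Subgroup.mem_zpowers a)
        have hcop' : (i.val).Coprime r :=
          ((hr.out.coprime_iff_not_dvd).mpr (Nat.not_dvd_of_pos_of_lt h0 (ZMod.val_lt i))).symm
        obtain ⟨m, hm⟩ := Nat.exists_mul_mod_eq_one_of_coprime hcop' hr.out.one_lt
        have : b = (b ^ i.val) ^ m := by
          rw [← pow_mul, pow_eq_pow_mod (i.val * m) hbr, hm.2, pow_one]
        rw [this]
        exact pow_mem hbi m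
    · rw [map_prod]
      refine Fintype.prod_equiv (Equiv.addLeft 1) _ _ fun j => ?_
      rw [hshift]
      simp [mul_add]
  have hV : (∏ k, f 0 k) ∈ Q := by
    refine hfix (a' ^ (0 : ZMod r).val * b' ^ (1 : ZMod r).val) ?_ _ ?_
    · intro h
      rw [ZMod.val_zero, h1v, pow_zero, one_mul, pow_one] at h
      exact hba (by rw [show b = 1 from h]; exact one_mem _)
    · rw [map_prod]
      refine Fintype.prod_equiv (Equiv.addLeft 1) _ _ fun j => ?_
      rw [hshift]
      simp
  have hT : (∏ j, ∏ k, f j k) ∈ Q := by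
    refine hfix (a' ^ (0 : ZMod r).val * b' ^ (1 : ZMod r).val) ?_ _ ?_
    · intro h
      rw [ZMod.val_zero, h1v, pow_zero, one_mul, pow_one] at h
      exact hba (by rw [show b = 1 from h]; exact one_mem _)
    · rw [map_prod]
      refine Finset.prod_congr rfl fun j _ => ?_
      rw [map_prod]
      refine Fintype.prod_equiv (Equiv.addLeft 1) _ _ fun k => ?_
      rw [hshift]
      simp
  have hkey : (∏ i, ∏ j, f j (i * j)) * ∏ k, f 0 k = q ⟨x, hx⟩ ^ r * ∏ j, ∏ k, f j k := by
    rw [Finset.prod_comm, ← Finset.mul_prod_erase _ _ (Finset.mem_univ (0 : ZMod r)),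
      ← Finset.mul_prod_erase _ (fun j => ∏ k, f j k) (Finset.mem_univ (0 : ZMod r))]
    have h0 : (∏ i : ZMod r, f 0 (i * 0)) = q ⟨x, hx⟩ ^ r := by
      have h00 : σ 1 ⟨x, hx⟩ = ⟨x, hx⟩ := by ext; simp [σ]
      simp [f, h00]
    have hne : (∏ j ∈ Finset.univ.erase (0 : ZMod r), ∏ i, f j (i * j)) =
        ∏ j ∈ Finset.univ.erase (0 : ZMod r), ∏ k, f j k :=
      Finset.prod_congr rfl fun j hj => Fintype.prod_equiv
        (Equiv.mulRight₀ j (Finset.ne_of_mem_erase hj)) _ _ fun i => rfl
    rw [h0, hne, mul_assoc, mul_comm (∏ k, f 0 k)]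
  have hpow : q ⟨x, hx⟩ ^ r ∈ Q := by
    have h2 : (∏ i, ∏ j, f j (i * j)) * ∏ k, f 0 k ∈ Q :=
      mul_mem (prod_mem fun i _ => hU i) hV
    rw [hkey] at h2
    simpa using mul_mem h2 (inv_mem hT)
  have hcopr : (Nat.card (K ⧸ N.subgroupOf K)).Coprime r :=
    (hcop.coprime_dvd_left hrA).symm.coprime_dvd_left (Subgroup.card_quotient_dvd_card _)
  obtain ⟨m, hm⟩ := exists_pow_eq_self_of_coprime
    ((hcopr.symm).coprime_dvd_right (orderOf_dvd_natCard (q ⟨x, hx⟩)))
  have hqx : q ⟨x, hx⟩ ∈ Q := hm ▸ pow_mem hpow m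
  obtain ⟨y, hy, hyx⟩ := hqx
  have h5 : (y : G)⁻¹ * x ∈ N := (QuotientGroup.eq.mp hyx : _)
  simpa using mul_mem (show (y : G) ∈ H from hy) (hNH h5)

/-- For solvable `K`. -/
theorem le_of_centralizer_le_solvable (A K H : Subgroup G) [IsMulCommutative A] (hA : ¬ IsCyclic A)
    (hAK : A ≤ Subgroup.normalizer (K : Set G)) (hcop : (Nat.card A).Coprime (Nat.card K))
    (hsolv : Group.IsSolvable K)
    (hC : ∀ e ∈ A, e ≠ 1 → K ⊓ Subgroup.centralizer {e} ≤ H) : K ≤ H := by
  induction hc : Nat.card K using Nat.strong_induction_on generalizing K with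
  | _ c IH =>
  rcases eq_or_ne K ⊥ with rfl | hne
  · exact bot_le
  obtain ⟨r, hr, hrA, a, ha, b, hb, har, hbr, ha1, hba⟩ := exists_independent_of_not_isCyclic A hA
  haveI := Fact.mk hr
  let N := ⁅K, K⁆
  have hNK : N ≤ K := Subgroup.commutator_le_self K
  have hAN : A ≤ Subgroup.normalizer (N : Set G) := le_normalizer_of_conj_mem fun e he x hx => by
    refine ((Subgroup.commutator_le.mpr fun u hu v hv => ?_) :
      N ≤ N.comap ((MulAut.conj e : G ≃* G) : G →* G)) hx
    show e * (u * v * u⁻¹ * v⁻¹) * e⁻¹ ∈ N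
    have := Subgroup.commutator_mem_commutator (conj_mem_of_mem_normalizer (hAK he) hu)
      (conj_mem_of_mem_normalizer (hAK he) hv)
    simpa [N, commutatorElement_def, mul_assoc] using this
  have hlt : N ≠ K := by
    intro h
    haveI := hsolv
    have hne' : (⊤ : Subgroup K) ≠ ⊥ := by
      intro h'
      apply hne
      simpa [← MonoidHom.range_eq_map] using congrArg (Subgroup.map K.subtype) h'
    refine (Group.IsSolvable.commutator_lt_of_ne_bot hne').ne ?_
    apply Subgroup.map_injective K.subtype_injective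
    rw [Subgroup.map_commutator]
    simpa [N, ← MonoidHom.range_eq_map] using h
  have hNc : Nat.card N < c := by
    rw [← hc]
    refine lt_of_le_of_ne (Subgroup.card_le_of_le hNK) fun he => hlt ?_
    exact Subgroup.eq_of_le_of_card_ge hNK he.ge
  have hNH : N ≤ H := IH _ hNc N hAN (hcop.coprime_dvd_right (Subgroup.card_dvd_of_le hNK))
    (solvable_of_le hNK hsolv) (fun e he he1 => (inf_le_inf_right _ hNK).trans (hC e he he1)) rfl
  refine le_of_centralizer_le_layer A K H N hAK hAN hNK ?_ ?_ hcop hNH hrA ha hb har hbr ha1 hba hC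
  · exact le_normalizer_commutator_left K K
  · intro x hx y hy
    have := Subgroup.commutator_mem_commutator hx hy
    simpa [N, commutatorElement_def] using this

/-- A subgroup containing the fixed points of all nonidentity elements of a noncyclic abelian `A`
contains `K`, for coprime orders; `K` is arbitrary. -/
theorem le_of_centralizer_le (A K H : Subgroup G) [IsMulCommutative A] (hA : ¬ IsCyclic A)
    (hAK : A ≤ Subgroup.normalizer (K : Set G)) (hcop : (Nat.card A).Coprime (Nat.card K))
    (hC : ∀ e ∈ A, e ≠ 1 → K ⊓ Subgroup.centralizer {e} ≤ H) : K ≤ H := by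
  have hsolA : Group.IsSolvable A := Group.isSolvable_of_comm fun a b => mul_comm' a b
  have hdvd : Nat.card K ∣ Nat.card (H ⊓ K : Subgroup G) := by
    refine (Nat.factorization_prime_le_iff_dvd Nat.card_pos.ne' Nat.card_pos.ne').mp fun p hp => ?_
    haveI := Fact.mk hp
    obtain ⟨P, hP⟩ := exists_invariant_sylow A K hAK hcop (Or.inl hsolA) p
    let P' := (P : Subgroup K).map K.subtype
    have hPK : P' ≤ K := Subgroup.map_subtype_le _
    have hPH : P' ≤ H := le_of_centralizer_le_solvable A P' H hA hP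
      (hcop.coprime_dvd_right (Subgroup.card_dvd_of_le hPK))
      (isSolvable_of_isNilpotent' (P.isPGroup'.map K.subtype).isNilpotent)
      (fun e he he1 => (inf_le_inf_right _ hPK).trans (hC e he he1))
    have hc : Nat.card P' = p ^ (Nat.card K).factorization p := by
      rw [← P.card_eq_multiplicity]
      exact (Nat.card_congr ((P : Subgroup K).equivMapOfInjective _ K.subtype_injective).toEquiv).symm
    exact (hp.pow_dvd_iff_le_factorization Nat.card_pos.ne').mp
      (hc ▸ Subgroup.card_dvd_of_le (le_inf hPH hPK))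
  have := Subgroup.eq_of_le_of_card_ge (inf_le_right : H ⊓ K ≤ K) (Nat.le_of_dvd Nat.card_pos hdvd)
  exact this ▸ inf_le_left

/-- `K = ⟨C_K(a) : a ∈ A, a ≠ 1⟩`. -/
theorem iSup_centralizer_eq (A K : Subgroup G) [IsMulCommutative A] (hA : ¬ IsCyclic A)
    (hAK : A ≤ Subgroup.normalizer (K : Set G)) (hcop : (Nat.card A).Coprime (Nat.card K)) :
    (⨆ a ∈ {a : G | a ∈ A ∧ a ≠ 1}, K ⊓ Subgroup.centralizer {a}) = K :=
  le_antisymm (iSup₂_le fun _ _ => inf_le_left)
    (le_of_centralizer_le A K _ hA hAK hcop fun a ha ha1 =>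
      le_biSup (fun a => K ⊓ Subgroup.centralizer {a}) (show a ∈ {a : G | a ∈ A ∧ a ≠ 1} from ⟨ha, ha1⟩))

end

end Cfsg.Agent.Coprime
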