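import Cfsg.Agent.Lib.Coprime.Action

/-!
Coprime action on an abelian group: `K = ⁅K, A⁆ × C_K(A)`.
-/

set_option autoImplicit false

namespace Cfsg.Agent.Coprime

open scoped IsMulCommutative commutatorElement

variable {G : Type*} [Group G] [Finite G]

/-- For abelian `K` under coprime action, `⁅K, A⁆` has no nontrivial fixed points. -/
theorem commutator_inf_centralizer_eq_bot (A K : Subgroup G) [IsMulCommutative K]
    (hAK : A ≤ Subgroup.normalizer (K : Set G)) (hcop : (Nat.card A).Coprime (Nat.card K)) :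
    ⁅K, A⁆ ⊓ Subgroup.centralizer (A : Set G) = ⊥ := by
  cases nonempty_fintype A
  let σ : A → K →* K := fun e =>
    { toFun := fun x => ⟨(e : G) * x * (e : G)⁻¹, conj_mem_of_mem_normalizer (hAK e.2) x.2⟩
      map_one' := by ext; simp
      map_mul' := fun x y => by ext; simp [mul_assoc] }
  let ν : K →* K := ∏ e : A, σ e
  have hν : ∀ x : K, ν x = ∏ e : A, σ e x := fun x => MonoidHom.finsetProd_apply _ _ _
  have hinv : ∀ (e₀ : A) (x : K), ν (σ e₀ x) = ν x := fun e₀ x => by
    rw [hν, hν]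
    exact Fintype.prod_equiv (Equiv.mulRight e₀) _ _ fun e => by ext; simp [σ, mul_assoc]
  have hker : ⁅K, A⁆ ≤ ν.ker.map K.subtype := Subgroup.commutator_le.mpr fun k hk a ha => by
    refine ⟨⟨k, hk⟩ * σ ⟨a, ha⟩ ⟨k, hk⟩⁻¹, ?_, ?_⟩
    · show ν (⟨k, hk⟩ * σ ⟨a, ha⟩ ⟨k, hk⟩⁻¹) = 1
      rw [map_mul, hinv, map_inv, mul_inv_cancel]
    · simp [σ, commutatorElement_def, mul_assoc]
  refine eq_bot_iff.mpr fun x hx => ?_
  obtain ⟨y, hy, rfl⟩ := hker hx.1
  have hfix : ∀ e : A, σ e y = y := fun e => Subtype.ext (by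
    show (e : G) * (y : G) * (e : G)⁻¹ = y
    have h : (e : G) * y = y * e := Subgroup.mem_centralizer_iff.mp hx.2 e e.2
    rw [h]
    simp)
  have hpow : y ^ Nat.card A = 1 := by
    rw [← show ν y = 1 from hy, hν]
    simp [hfix]
  have : y = 1 := (powCoprime hcop.symm).injective (by simpa using hpow)
  simp [this]

end Cfsg.Agent.Coprime
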