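import Cfsg.Agent.Lib.Coprime.Action
import Cfsg.Agent.Lib.Solvable.HallPi
import Cfsg.Agent.Lib.Fitting.Minimal

/-!
Invariant Hall `π`-subgroups under coprime action on a solvable group.
-/

set_option autoImplicit false

universe u

namespace Cfsg.Agent.Coprime

open Subgroup

variable {X : Type u} [Group X]

/-- A conjugation map. -/
abbrev conjHom (g : X) : X →* X := (MulAut.conj g).toMonoidHom

theorem card_map_conj (g : X) (H : Subgroup X) : Nat.card (H.map (conjHom g)) = Nat.card H :=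
  (Nat.card_congr (H.equivMapOfInjective _ (MulAut.conj g).injective).toEquiv).symm

theorem map_conj_eq_self {G : Subgroup X} {g : X} (hg : g ∈ normalizer (G : Set X)) :
    G.map (conjHom g) = G := (mem_normalizer_iff_map_conj_eq).mp hg

theorem relIndex_map_conj (g : X) (H K : Subgroup X) :
    (H.map (conjHom g)).relIndex (K.map (conjHom g)) = H.relIndex K := by
  rw [← relIndex_comap, comap_map_eq_self_of_injective (MulAut.conj g).injective]

theorem isPiHallOf_map_conj {π : Set ℕ} {H G : Subgroup X} {g : X} (hg : g ∈ normalizer (G : Set X))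
    (hH : Cfsg.IsPiHallOf π H G) : Cfsg.IsPiHallOf π (H.map (conjHom g)) G := by
  refine ⟨?_, ?_, ?_⟩
  · calc H.map (conjHom g) ≤ G.map (conjHom g) := map_mono hH.1
      _ = G := map_conj_eq_self hg
  · rw [card_map_conj]; exact hH.2.1
  · have h := relIndex_map_conj g H G
    rw [map_conj_eq_self hg] at h
    rw [h]; exact hH.2.2

theorem isPiHall_subgroupOf {π : Set ℕ} {H G : Subgroup X} (hH : Cfsg.IsPiHallOf π H G) :
    Cfsg.IsPiHall π (H.subgroupOf G) :=
  ⟨by rw [Nat.card_congr (subgroupOfEquivOfLe hH.1).toEquiv]; exact hH.2.1, hH.2.2⟩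

theorem isPiHallOf_map_subtype {π : Set ℕ} {G : Subgroup X} {H : Subgroup G}
    (hH : Cfsg.IsPiHall π H) : Cfsg.IsPiHallOf π (H.map G.subtype) G := by
  refine ⟨map_subtype_le H, ?_, ?_⟩
  · rw [(Nat.card_congr (H.equivMapOfInjective _ G.subtype_injective).toEquiv).symm]
    exact hH.1
  · show ∀ p : ℕ, p.Prime → p ∈ π → ¬ p ∣ ((H.map G.subtype).subgroupOf G).index
    rw [subgroupOf, comap_map_eq_self_of_injective G.subtype_injective]
    exact hH.2

/-- `[U ⊔ V : V] = [U : U ⊓ V]` when `U` normalises `V`. -/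
theorem relIndex_sup_of_le_normalizer {U V : Subgroup X} (h : U ≤ normalizer (V : Set X)) :
    V.relIndex (U ⊔ V) = V.relIndex U := by
  symm
  refine Nat.card_eq_of_bijective (Quotient.map' (inclusion (le_sup_left : U ≤ U ⊔ V))
    fun a b hab => ?_) ⟨?_, ?_⟩
  · rw [QuotientGroup.leftRel_apply] at hab ⊢
    exact hab
  · rintro ⟨a⟩ ⟨b⟩ hab
    exact Quotient.sound (QuotientGroup.leftRel_apply.mpr
      (QuotientGroup.leftRel_apply.mp (Quotient.exact hab) :))
  · rintro ⟨⟨w, hw⟩⟩
    obtain ⟨v, hv, u, hu, rfl⟩ := exists_mul_of_mem_sup h (sup_comm U V ▸ hw)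
    refine ⟨QuotientGroup.mk ⟨u, hu⟩, QuotientGroup.eq.mpr ?_⟩
    show u⁻¹ * (v * u) ∈ V
    simpa [mul_assoc] using conj_mem_of_mem_normalizer' (h hu) hv

variable [Finite X]

theorem exists_isPiHallOf_conj {π : Set ℕ} {G H K : Subgroup X} (hsolv : Group.IsSolvable G)
    (hH : Cfsg.IsPiHallOf π H G) (hK : Cfsg.IsPiHallOf π K G) :
    ∃ g ∈ G, H.map (conjHom g) = K := by
  haveI := hsolv
  obtain ⟨g, hg⟩ := Solvable.isPiHall_conj (isPiHall_subgroupOf hH) (isPiHall_subgroupOf hK)
  refine ⟨g, g.2, ?_⟩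
  have h1 := congrArg (Subgroup.map G.subtype) hg
  rw [map_subgroupOf_eq_of_le hK.1] at h1
  rw [← h1]
  have e : G.subtype.comp (MulAut.conj g).toMonoidHom = (conjHom (g : X)).comp G.subtype := by
    ext x; simp
  show _ = ((H.subgroupOf G).map (MulAut.conj g).toMonoidHom).map G.subtype
  rw [Subgroup.map_map, e, ← Subgroup.map_map, map_subgroupOf_eq_of_le hH.1]

/-- An invariant Hall `π`-subgroup exists. -/
theorem exists_invariant_hall (A G : Subgroup X) (hAG : A ≤ normalizer (G : Set X))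
    (hcop : (Nat.card A).Coprime (Nat.card G)) (hsolv : Group.IsSolvable G) (π : Set ℕ) :
    ∃ H : Subgroup X, Cfsg.IsPiHallOf π H G ∧ A ≤ normalizer (H : Set X) := by
  haveI := hsolv
  obtain ⟨H₀, hH₀⟩ := Solvable.exists_isPiHall (G := G) π
  let H := H₀.map G.subtype
  have hH : Cfsg.IsPiHallOf π H G := isPiHallOf_map_subtype hH₀
  let S : Subgroup X := normalizer (G : Set X) ⊓ normalizer (H : Set X)
  have hle : A ≤ G ⊔ S := fun a ha => by
    obtain ⟨g, hg, he⟩ := exists_isPiHallOf_conj hsolv (isPiHallOf_map_conj (hAG ha) hH) hH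
    have hga : g * a ∈ normalizer (H : Set X) := by
      refine mem_normalizer_iff_map_conj_eq.mpr ?_
      show H.map (conjHom (g * a)) = H
      conv_rhs => rw [← he, Subgroup.map_map]
      exact congrArg (fun f : X →* X => H.map f) (MonoidHom.ext fun x => by simp [mul_assoc])
    have : a = g⁻¹ * (g * a) := by simp
    rw [this]
    exact mul_mem_sup (inv_mem hg) ⟨mul_mem (le_normalizer hg) (hAG ha), hga⟩
  obtain ⟨k, hk, h⟩ := exists_conj_le_of_le_sup A G S hAG inf_le_left hcop (Or.inr hsolv) hle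
  refine ⟨H.map (conjHom k⁻¹), isPiHallOf_map_conj (inv_mem (le_normalizer hk)) hH,
    le_normalizer_of_conj_mem fun a ha => ?_⟩
  rintro _ ⟨y, hy, rfl⟩
  exact ⟨_, conj_mem_of_mem_normalizer (h a ha).2 hy, by simp [mul_assoc]⟩

/-- Invariant Hall `π`-subgroups are conjugate under the fixed points. -/
theorem exists_invariant_hall_conj (A G : Subgroup X) (hAG : A ≤ normalizer (G : Set X))
    (hcop : (Nat.card A).Coprime (Nat.card G)) (hsolv : Group.IsSolvable G) {π : Set ℕ}
    {H₁ H₂ : Subgroup X} (h₁ : Cfsg.IsPiHallOf π H₁ G) (hA₁ : A ≤ normalizer (H₁ : Set X))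
    (h₂ : Cfsg.IsPiHallOf π H₂ G) (hA₂ : A ≤ normalizer (H₂ : Set X)) :
    ∃ c ∈ G ⊓ centralizer (A : Set X), H₁.map (conjHom c) = H₂ := by
  obtain ⟨g, hg, he⟩ := exists_isPiHallOf_conj hsolv h₁ h₂
  have hcond : ∀ a ∈ A, g * a * g⁻¹ ∈ normalizer (H₂ : Set X) := fun a ha => by
    refine mem_normalizer_iff_map_conj_eq.mpr ?_
    show H₂.map (conjHom (g * a * g⁻¹)) = H₂
    rw [← he, Subgroup.map_map]
    calc H₁.map ((conjHom (g * a * g⁻¹)).comp (conjHom g))
        = (H₁.map (conjHom a)).map (conjHom g) := by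
          rw [Subgroup.map_map]
          exact congrArg (fun f : X →* X => H₁.map f) (MonoidHom.ext fun x => by simp [mul_assoc])
      _ = H₁.map (conjHom g) := by rw [map_conj_eq_self (hA₁ ha)]
  obtain ⟨s, hs, hc⟩ := exists_centralizing_mul A G (normalizer (H₂ : Set X)) hAG hA₂ hcop
    (Or.inr hsolv) g hg hcond
  refine ⟨s * g, ⟨mul_mem hs.1 hg, hc⟩, ?_⟩
  calc H₁.map (conjHom (s * g)) = (H₁.map (conjHom g)).map (conjHom s) := by
        rw [Subgroup.map_map]
        exact congrArg (fun f : X →* X => H₁.map f) (MonoidHom.ext fun x => by simp [mul_assoc])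
    _ = H₂ := by rw [he, map_conj_eq_self hs.2]

omit [Finite X] in
/-- The image of a characteristic subgroup of `G` is normalised by `N(G)`. -/
theorem normalizer_le_normalizer_map (G : Subgroup X) (K : Subgroup G) [K.Characteristic] :
    normalizer (G : Set X) ≤ normalizer (K.map G.subtype : Set X) :=
  le_normalizer_of_conj_mem fun g hg => by
    rintro _ ⟨y, hy, rfl⟩
    let e : MulAut G :=
      { toFun := fun x => ⟨g * x * g⁻¹, conj_mem_of_mem_normalizer hg x.2⟩
        invFun := fun x => ⟨g⁻¹ * x * g, conj_mem_of_mem_normalizer' hg x.2⟩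
        left_inv := fun x => by ext; simp [mul_assoc]
        right_inv := fun x => by ext; simp [mul_assoc]
        map_mul' := fun x y => by ext; simp [mul_assoc] }
    refine ⟨e y, ?_, rfl⟩
    rw [← (characteristic_iff_map_eq.mp ‹K.Characteristic› e)]
    exact mem_map_of_mem _ hy

/-- An invariant `π`-subgroup lies in an invariant Hall `π`-subgroup. -/
theorem exists_invariant_hall_ge (n : ℕ) : ∀ (X : Type u) [Group X] [Finite X] (A G U : Subgroup X),
    A ≤ normalizer (G : Set X) → (Nat.card A).Coprime (Nat.card G) → Group.IsSolvable G →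
    Nat.card G = n → U ≤ G → A ≤ normalizer (U : Set X) → ∀ π : Set ℕ,
    (∀ p : ℕ, p.Prime → p ∣ Nat.card U → p ∈ π) →
    ∃ H : Subgroup X, Cfsg.IsPiHallOf π H G ∧ A ≤ normalizer (H : Set X) ∧ U ≤ H := by
  induction n using Nat.strong_induction_on with
  | _ n IH =>
  intro X _ _ A G U hAG hcop hsolv hn hUG hAU π hU
  rcases eq_or_ne G ⊥ with rfl | hne
  · refine ⟨⊥, ⟨le_rfl, fun p hp h => absurd (by simpa using h) hp.not_dvd_one, fun p hp _ h => ?_⟩,
      le_normalizer_of_conj_mem fun a _ x hx => by simp [mem_bot.mp hx], hUG⟩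
    rw [relIndex_self] at h
    exact hp.not_dvd_one h
  haveI := hsolv
  haveI := (nontrivial_iff_ne_bot G).mpr hne
  obtain ⟨N, p, hNn, hNne, -, hp, hNp, -⟩ := Solvable.exists_minimal_normal_elementary G
  haveI := Fact.mk hp
  let V := (Cfsg.pCore p G).map G.subtype
  have hVne : V ≠ ⊥ := fun h => hNne (le_bot_iff.mp ((Fitting.le_pCore hNn hNp).trans
    ((map_eq_bot_iff_of_injective _ G.subtype_injective).mp h).le))
  have hVG : V ≤ G := map_subtype_le _
  have hVp : IsPGroup p V := (Fitting.pCore_isPGroup p).map _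
  let M := normalizer (V : Set X)
  have hGM : G ≤ M := le_normalizer.trans (normalizer_le_normalizer_map G _)
  have hAM : A ≤ M := hAG.trans (normalizer_le_normalizer_map G _)
  let q : M →* M ⧸ V.subgroupOf M := QuotientGroup.mk' (V.subgroupOf M)
  let img : Subgroup X → Subgroup (M ⧸ V.subgroupOf M) := fun S => (S.subgroupOf M).map q
  have himg : ∀ S : Subgroup X, S ≤ M → Nat.card (img S) ∣ Nat.card S := fun S hS =>
    (card_map_dvd _ _).trans (Nat.card_congr (subgroupOfEquivOfLe hS).toEquiv).dvd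
  have hnimg : ∀ S : Subgroup X, A ≤ normalizer (S : Set X) →
      img A ≤ normalizer (img S : Set (M ⧸ V.subgroupOf M)) := fun S hS =>
    le_normalizer_of_conj_mem fun a ha x hx => by
      obtain ⟨a, ha, rfl⟩ := ha
      obtain ⟨x, hx, rfl⟩ := hx
      exact ⟨a * x * a⁻¹, (conj_mem_of_mem_normalizer (hS ha) (show (x : X) ∈ S from hx) : _), by simp⟩
  have hker : q.ker = V.subgroupOf M := QuotientGroup.ker_mk' _
  have hVker : ∀ S : Subgroup X, V ≤ S → ((img S).comap q) = S.subgroupOf M := fun S hS => by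
    rw [comap_map_eq, hker, sup_eq_left.mpr (fun x hx => hS hx)]
  have hlt : Nat.card (img G) < n := by
    have h1 : Nat.card (img G) * Nat.card (V.subgroupOf M) = Nat.card (G.subgroupOf M) := by
      rw [← hVker G hVG]; exact (Solvable.card_comap_mk' _ _).symm
    rw [Nat.card_congr (subgroupOfEquivOfLe hGM).toEquiv,
      Nat.card_congr (subgroupOfEquivOfLe (le_normalizer : V ≤ M)).toEquiv] at h1
    rw [← hn, ← h1]
    exact lt_mul_of_one_lt_right Nat.card_pos (V.one_lt_card_iff_ne_bot.mpr hVne)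
  obtain ⟨H', hH', hAH', hUH'⟩ := IH _ hlt (M ⧸ V.subgroupOf M) (img A) (img G) (img U) (hnimg G hAG)
    ((hcop.coprime_dvd_left (himg A hAM)).coprime_dvd_right (himg G hGM))
    (haveI : Group.IsSolvable (G.subgroupOf M) :=
      Group.isSolvable_of_surjective (f := (subgroupOfEquivOfLe hGM).symm.toMonoidHom)
        (subgroupOfEquivOfLe hGM).symm.surjective
     Group.isSolvable_of_surjective (q.subgroupMap_surjective _))
    rfl (map_mono (comap_mono hUG)) (hnimg U hAU) π
    (fun r hr h => hU r hr (h.trans (himg U (hUG.trans hGM))))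
  -- the preimage of the Hall subgroup of the quotient
  let L : Subgroup X := (H'.comap q).map M.subtype
  have hLM : L ≤ M := map_subtype_le _
  have hVL : V ≤ L := fun x hx =>
    ⟨⟨x, le_normalizer hx⟩, by
      show q _ ∈ H'
      rw [show q (⟨x, le_normalizer hx⟩ : M) = 1 from (QuotientGroup.eq_one_iff _).mpr hx]
      exact one_mem _, rfl⟩
  have hLG : L ≤ G := by
    rintro _ ⟨y, hy, rfl⟩
    have : y ∈ (img G).comap q := hH'.1 hy
    rw [hVker G hVG] at this
    exact this
  have hUL : U ≤ L := fun x hx =>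
    ⟨⟨x, hGM (hUG hx)⟩, hUH' ⟨⟨x, hGM (hUG hx)⟩, hx, rfl⟩, rfl⟩
  have hAL : A ≤ normalizer (L : Set X) := le_normalizer_of_conj_mem fun a ha => by
    rintro _ ⟨y, hy, rfl⟩
    refine ⟨⟨a, hAM ha⟩ * y * (⟨a, hAM ha⟩)⁻¹, ?_, by simp⟩
    show q _ ∈ H'
    rw [map_mul, map_mul, map_inv]
    exact conj_mem_of_mem_normalizer (hAH' ⟨⟨a, hAM ha⟩, ha, rfl⟩) hy
  have hLc : Nat.card L = Nat.card H' * Nat.card V := by
    rw [← Nat.card_congr ((H'.comap q).equivMapOfInjective _ M.subtype_injective).toEquiv,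
      Solvable.card_comap_mk', Nat.card_congr (subgroupOfEquivOfLe (le_normalizer : V ≤ M)).toEquiv]
  have hLidx : L.relIndex G = H'.relIndex (img G) := by
    have h1 : (H'.comap q).relIndex (G.subgroupOf M) = H'.relIndex (img G) := relIndex_comap ..
    rw [← h1, ← relIndex_map_map_of_injective _ _ M.subtype_injective, map_subgroupOf_eq_of_le hGM]
  by_cases hpπ : p ∈ π
  · refine ⟨L, ⟨hLG, fun r hr h => ?_, ?_⟩, hAL, hUL⟩
    · rw [hLc] at h
      rcases hr.dvd_mul.mp h with h | h
      · exact hH'.2.1 r hr h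
      · obtain ⟨k, hk⟩ := IsPGroup.iff_card.mp hVp
        rw [hk] at h
        rw [(Nat.prime_dvd_prime_iff_eq hr hp).mp (hr.dvd_of_dvd_pow h)]
        exact hpπ
    · rw [hLidx]; exact hH'.2.2
  rcases eq_or_lt_of_le hLG with hLeq | hLlt
  · obtain ⟨H, hH, hAH⟩ := exists_invariant_hall A G hAG hcop hsolv π
    let W := V ⊔ U
    have hWG : W ≤ G := sup_le hVG hUG
    have hUW : U ≤ W := le_sup_right
    have hAW : A ≤ normalizer (W : Set X) := le_normalizer_sup (hAG.trans
      (normalizer_le_normalizer_map G _)) hAU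
    have hUV : U ≤ normalizer (V : Set X) := hUG.trans hGM
    obtain ⟨k, hk⟩ := IsPGroup.iff_card.mp hVp
    have hpow : ∀ m, m ∣ Nat.card V → ∀ r : ℕ, r.Prime → r ∈ π → ¬ r ∣ m := fun m hm r hr hrπ h => by
      have := h.trans hm
      rw [hk] at this
      exact hpπ ((Nat.prime_dvd_prime_iff_eq hr hp).mp (hr.dvd_of_dvd_pow this) ▸ hrπ)
    have hUHall : Cfsg.IsPiHallOf π U W := by
      refine ⟨hUW, hU, ?_⟩
      refine hpow _ ?_
      have h1 : Nat.card U * U.relIndex W = Nat.card W := Solvable.card_mul_relIndex hUW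
      have h2 : Nat.card W ∣ Nat.card V * Nat.card U := by
        have h3 : Nat.card W = Nat.card V * V.relIndex W := (Solvable.card_mul_relIndex le_sup_left).symm
        rw [h3]
        refine Nat.mul_dvd_mul_left _ ?_
        have h4 : V.relIndex U ∣ Nat.card U := index_dvd_card _
        rwa [show V.relIndex W = V.relIndex U from by
          show V.relIndex (V ⊔ U) = _
          rw [sup_comm]
          exact relIndex_sup_of_le_normalizer hUV]
      rw [← h1, mul_comm (Nat.card V)] at h2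
      exact (Nat.mul_dvd_mul_iff_left Nat.card_pos).mp h2
    have hGV : ∀ x ∈ G, ∃ v ∈ V, ∃ h ∈ H, x = v * h := by
      have hVH : G ≤ V ⊔ H := by
        have hVHG : V ⊔ H ≤ G := sup_le hVG hH.1
        refine (eq_of_le_of_card_ge hVHG (Nat.le_of_dvd Nat.card_pos ?_)).ge
        rw [← hLeq, hLc]
        refine Nat.Coprime.mul_dvd_of_dvd_of_dvd (Nat.coprime_of_dvd fun r hr a b =>
          hpow _ dvd_rfl r hr (hH'.2.1 r hr a) b) ?_ (card_dvd_of_le le_sup_left)
        refine dvd_trans ?_ (card_dvd_of_le (le_sup_right : H ≤ V ⊔ H))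
        refine (Nat.coprime_of_dvd fun r hr a b => ?_).dvd_of_dvd_mul_right
          (?_ : Nat.card H' ∣ Nat.card H * H.relIndex G)
        · exact hH.2.2 r hr (hH'.2.1 r hr a) b
        · rw [Solvable.card_mul_relIndex hH.1, ← hLeq, hLc]
          exact dvd_mul_right _ _
      exact fun x hx => exists_mul_of_mem_sup (hH.1.trans hGM) (hVH hx)
    have hHW : Cfsg.IsPiHallOf π (H ⊓ W) W := by
      refine ⟨inf_le_right, fun r hr h => hH.2.1 r hr (h.trans (card_dvd_of_le inf_le_left)), ?_⟩
      refine hpow _ ?_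
      have : (H ⊓ W).relIndex W = (H ⊓ W).relIndex V := by
        symm
        refine Nat.card_eq_of_bijective (Quotient.map' (inclusion (le_sup_left : V ≤ W))
          fun a b hab => ?_) ⟨?_, ?_⟩
        · rw [QuotientGroup.leftRel_apply] at hab ⊢
          exact hab
        · rintro ⟨a⟩ ⟨b⟩ hab
          exact Quotient.sound (QuotientGroup.leftRel_apply.mpr
            (QuotientGroup.leftRel_apply.mp (Quotient.exact hab) :))
        · rintro ⟨⟨w, hw⟩⟩
          obtain ⟨v, hv, h, hh, rfl⟩ := hGV w (hWG hw)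
          refine ⟨QuotientGroup.mk ⟨v, hv⟩, QuotientGroup.eq.mpr ?_⟩
          show v⁻¹ * (v * h) ∈ H ⊓ W
          refine mem_inf.mpr ⟨by simpa using hh, ?_⟩
          exact mul_mem (inv_mem (mem_sup_left hv)) hw
      rw [this]
      exact index_dvd_card _
    obtain ⟨c, hc, he⟩ := exists_invariant_hall_conj A W hAW
      (hcop.coprime_dvd_right (card_dvd_of_le hWG)) (solvable_of_le hWG hsolv) hHW
      (le_normalizer_inf hAH hAW) hUHall hAU
    have hcA : A ≤ normalizer (H.map (conjHom c) : Set X) := le_normalizer_of_conj_mem fun a ha => by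
      rintro _ ⟨y, hy, rfl⟩
      refine ⟨a * y * a⁻¹, conj_mem_of_mem_normalizer (hAH ha) hy, ?_⟩
      have hca : a * c = c * a := mem_centralizer_iff.mp hc.2 a ha
      show c * (a * y * a⁻¹) * c⁻¹ = a * (c * y * c⁻¹) * a⁻¹
      calc c * (a * y * a⁻¹) * c⁻¹ = (c * a) * y * (c * a)⁻¹ := by group
        _ = a * (c * y * c⁻¹) * a⁻¹ := by rw [← hca]; group
    refine ⟨_, isPiHallOf_map_conj (le_normalizer (hWG hc.1)) hH, hcA, ?_⟩
    rw [← he]
    exact map_mono inf_le_left
  · have hLn : Nat.card L < n := by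
      rw [← hn]
      refine lt_of_le_of_ne (card_le_of_le hLG) fun he => hLlt.ne ?_
      exact eq_of_le_of_card_ge hLG he.ge
    obtain ⟨H, hH, hAH, hUH⟩ := IH _ hLn X A L U hAL (hcop.coprime_dvd_right (card_dvd_of_le hLG))
      (solvable_of_le hLG hsolv) rfl hUL hAU π hU
    refine ⟨H, ⟨hH.1.trans hLG, hH.2.1, fun r hr hrπ h => ?_⟩, hAH, hUH⟩
    rw [← relIndex_mul_relIndex H L G hH.1 hLG, hLidx] at h
    exact (hr.dvd_mul.mp h).elim (hH.2.2 r hr hrπ) (hH'.2.2 r hr hrπ)

end Cfsg.Agent.Coprime
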