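import Mathlib.GroupTheory.SchurZassenhaus
import Mathlib.GroupTheory.Solvable
import Mathlib.GroupTheory.Commutator.Basic
import Mathlib.GroupTheory.Sylow

/-!
Conjugacy half of the Schur-Zassenhaus theorem, stated relatively: `N` need not be normal in the
whole group, only normalised by the two subgroups that are compared.
-/

set_option autoImplicit false

namespace Cfsg.Agent.Coprime

open scoped commutatorElement

variable {G : Type*} [Group G]

theorem conj_smul_eq_map (g : G) (H : Subgroup G) :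
    H.map (MulAut.conj g).toMonoidHom = H.map ((MulAut.conj g : G ≃* G) : G →* G) := rfl

/-- Product decomposition in `N ⊔ H` when `H` normalises `N`. -/
theorem exists_mul_of_mem_sup {N H : Subgroup G} (hH : H ≤ Subgroup.normalizer (N : Set G))
    {x : G} (hx : x ∈ N ⊔ H) : ∃ n ∈ N, ∃ h ∈ H, x = n * h := by
  have : x ∈ ((N ⊔ H : Subgroup G) : Set G) := hx
  rw [Subgroup.coe_mul_of_right_le_normalizer_left N H hH] at this
  obtain ⟨n, hn, h, hh, rfl⟩ := Set.mem_mul.mp this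
  exact ⟨n, hn, h, hh, rfl⟩

theorem conj_mem_of_mem_normalizer {N : Subgroup G} {g x : G}
    (hg : g ∈ Subgroup.normalizer (N : Set G)) (hx : x ∈ N) : g * x * g⁻¹ ∈ N :=
  (Subgroup.mem_normalizer_iff.mp hg x).mp hx

theorem conj_mem_of_mem_normalizer' {N : Subgroup G} {g x : G}
    (hg : g ∈ Subgroup.normalizer (N : Set G)) (hx : x ∈ N) : g⁻¹ * x * g ∈ N := by
  simpa using conj_mem_of_mem_normalizer (inv_mem hg) hx

theorem inf_eq_bot_of_coprime' {H K : Subgroup G}
    (h : (Nat.card H).Coprime (Nat.card K)) {x : G} (hH : x ∈ H) (hK : x ∈ K) : x = 1 := by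
  have := (disjoint_iff.mp (Subgroup.disjoint_of_coprime_natCard h))
  exact Subgroup.mem_bot.mp (this ▸ Subgroup.mem_inf.mpr ⟨hH, hK⟩)

section
open scoped IsMulCommutative

variable [Finite G]

/-- Schur's conjugacy theorem for abelian `N`. -/
theorem exists_conj_le_of_comm (N H K : Subgroup G) [IsMulCommutative N]
    (hH : H ≤ Subgroup.normalizer (N : Set G)) (hK : K ≤ Subgroup.normalizer (N : Set G))
    (hle : H ≤ N ⊔ K) (hcH : (Nat.card H).Coprime (Nat.card N))
    (hcK : (Nat.card K).Coprime (Nat.card N)) :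
    ∃ n ∈ N, ∀ h ∈ H, n * h * n⁻¹ ∈ K := by
  cases nonempty_fintype H
  have hex : ∀ h : H, ∃ n : N, (n : G) * h ∈ K := fun h => by
    obtain ⟨n, hn, k, hk, e⟩ := exists_mul_of_mem_sup hK (hle h.2)
    exact ⟨⟨n⁻¹, inv_mem hn⟩, by simpa [e] using hk⟩
  choose f hf using hex
  let c : H → N →* N := fun h =>
    { toFun := fun n => ⟨(h : G) * n * (h : G)⁻¹, conj_mem_of_mem_normalizer (hH h.2) n.2⟩
      map_one' := by ext; simp
      map_mul' := fun a b => by ext; simp [mul_assoc] }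
  have hcoc : ∀ h₁ h₂ : H, f (h₁ * h₂) = f h₁ * c h₁ (f h₂) := fun h₁ h₂ => by
    have h1 : ((f h₁ * c h₁ (f h₂) : N) : G) * ((h₁ * h₂ : H) : G) ∈ K := by
      have := mul_mem (hf h₁) (hf h₂)
      simpa [c, mul_assoc] using this
    have h2 := mul_mem (hf (h₁ * h₂)) (inv_mem h1)
    have h3 : ((f (h₁ * h₂) : N) : G) * ((f h₁ * c h₁ (f h₂) : N) : G)⁻¹ ∈ K := by
      simpa [mul_assoc] using h2
    exact Subtype.ext (mul_inv_eq_one.mp
      (inf_eq_bot_of_coprime' hcK h3 (mul_mem (SetLike.coe_mem _) (inv_mem (SetLike.coe_mem _)))))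
  let m : N := ∏ h : H, f h
  have hm : ∀ h₁ : H, m = f h₁ ^ Nat.card H * c h₁ m := fun h₁ => by
    calc m = ∏ h : H, f (h₁ * h) :=
          (Fintype.prod_equiv (Equiv.mulLeft h₁) _ _ (fun h => rfl)).symm
      _ = ∏ h : H, (f h₁ * c h₁ (f h)) := Finset.prod_congr rfl (fun h _ => hcoc h₁ h)
      _ = f h₁ ^ Nat.card H * c h₁ m := by
          rw [Finset.prod_mul_distrib, Finset.prod_const, Finset.card_univ,
            Nat.card_eq_fintype_card, map_prod]
  let a : N := (powCoprime hcH.symm).symm m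
  have ha : a ^ Nat.card H = m := (powCoprime hcH.symm).apply_symm_apply m
  refine ⟨a, a.2, fun h hh => ?_⟩
  have key : f ⟨h, hh⟩ * c ⟨h, hh⟩ a = a := by
    apply (powCoprime hcH.symm).injective
    simp only [powCoprime_apply, mul_pow, ← map_pow, ha]
    exact (hm _).symm
  have := hf ⟨h, hh⟩
  rw [eq_mul_inv_of_mul_eq key] at this
  simpa [c, mul_assoc] using this

end

variable [Finite G]

/-- Conjugacy for solvable normal `N`. -/
theorem exists_conj_le_of_normal_solvable (N H K : Subgroup G) (hN : N.Normal)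
    (hsolv : Group.IsSolvable N) (hle : H ≤ N ⊔ K) (hcH : (Nat.card H).Coprime (Nat.card N))
    (hcK : (Nat.card K).Coprime (Nat.card N)) :
    ∃ n ∈ N, ∀ h ∈ H, n * h * n⁻¹ ∈ K := by
  induction hc : Nat.card N using Nat.strong_induction_on generalizing N H with
  | _ c IH =>
  rcases eq_or_ne N ⊥ with rfl | hne
  · exact ⟨1, one_mem _, fun h hh => by simpa using hle hh⟩
  let N1 : Subgroup G := ⁅N, N⁆
  have hN1n : N1.Normal := Subgroup.commutator_normal N N
  have hlt : N1 < N := by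
    have hne' : (⊤ : Subgroup N) ≠ ⊥ := by
      intro h
      apply hne
      have := congrArg (Subgroup.map N.subtype) h
      simpa [← MonoidHom.range_eq_map] using this
    have h1 : ⁅(⊤ : Subgroup N), ⊤⁆ < ⊤ := hsolv.commutator_lt_of_ne_bot hne'
    have h2 : N1 = Subgroup.map N.subtype ⁅(⊤ : Subgroup N), (⊤ : Subgroup N)⁆ := by
      simp [N1, Subgroup.map_commutator, ← MonoidHom.range_eq_map]
    refine lt_of_le_of_ne (Subgroup.commutator_le_self N) fun h => h1.ne ?_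
    apply Subgroup.map_injective N.subtype_injective
    rw [← h2, h, ← MonoidHom.range_eq_map, Subgroup.range_subtype]
  let q := QuotientGroup.mk' N1
  have hqs : Function.Surjective q := QuotientGroup.mk'_surjective N1
  have hnorm : (N.map q).Normal := hN.map q hqs
  have hcomm : IsMulCommutative (N.map q) := by
    refine ⟨⟨?_⟩⟩
    rintro ⟨_, x, hx, rfl⟩ ⟨_, y, hy, rfl⟩
    apply Subtype.ext
    show q x * q y = q y * q x
    rw [← map_mul, ← map_mul]
    refine (QuotientGroup.eq.mpr ?_)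
    have : ⁅(y⁻¹ : G), (x⁻¹ : G)⁆ ∈ N1 := Subgroup.commutator_mem_commutator (inv_mem hy) (inv_mem hx)
    simpa [commutatorElement_def, mul_assoc] using this
  have hdvd : ∀ S : Subgroup G, Nat.card (S.map q) ∣ Nat.card S := fun S => Subgroup.card_map_dvd (H := S) q
  obtain ⟨_, ⟨n, hn, rfl⟩, hconj⟩ := exists_conj_le_of_comm (N.map q) (H.map q) (K.map q)
    Subgroup.le_normalizer_of_normal Subgroup.le_normalizer_of_normal
    ((Subgroup.map_mono hle).trans (Subgroup.map_sup N K q).le)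
    ((hcH.coprime_dvd_left (hdvd H)).coprime_dvd_right (hdvd N))
    ((hcK.coprime_dvd_left (hdvd K)).coprime_dvd_right (hdvd N))
  let H' : Subgroup G := H.map ((MulAut.conj n : G ≃* G) : G →* G)
  have hH' : H' ≤ N1 ⊔ K := by
    rintro _ ⟨h, hh, rfl⟩
    obtain ⟨k, hk, e⟩ := hconj (q h) (Subgroup.mem_map_of_mem q hh)
    have e' : q k = q (n * h * n⁻¹) := by simpa using e
    have hmem : n * h * n⁻¹ * k⁻¹ ∈ N1 := by
      rw [← QuotientGroup.eq_one_iff]
      show q (n * h * n⁻¹ * k⁻¹) = 1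
      rw [map_mul, ← e']; simp
    have := Subgroup.mul_mem_sup hmem hk
    simpa using this
  have hcard : Nat.card N1 < c := by
    rw [← hc]
    refine lt_of_le_of_ne (Subgroup.card_le_of_le hlt.le) fun he => hlt.ne ?_
    exact Subgroup.eq_of_le_of_card_ge hlt.le he.ge
  have hd1 : Nat.card N1 ∣ Nat.card N := Subgroup.card_dvd_of_le hlt.le
  obtain ⟨m, hm, hmem⟩ := IH _ hcard N1 H' hN1n
    (Group.isSolvable_of_isSolvable_injective (Subgroup.inclusion_injective hlt.le)) hH'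
    ((hcH.coprime_dvd_left (Subgroup.card_map_dvd (H := H) _)).coprime_dvd_right hd1)
    (hcK.coprime_dvd_right hd1) rfl
  refine ⟨m * n, mul_mem (hlt.le hm) hn, fun h hh => ?_⟩
  simpa [mul_assoc] using hmem (n * h * n⁻¹) ⟨h, hh, rfl⟩

/-- Conjugacy for solvable `N`, relative version. -/
theorem exists_conj_le_of_solvable (N H K : Subgroup G)
    (hH : H ≤ Subgroup.normalizer (N : Set G)) (hK : K ≤ Subgroup.normalizer (N : Set G))
    (hsolv : Group.IsSolvable N) (hle : H ≤ N ⊔ K) (hcH : (Nat.card H).Coprime (Nat.card N))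
    (hcK : (Nat.card K).Coprime (Nat.card N)) :
    ∃ n ∈ N, ∀ h ∈ H, n * h * n⁻¹ ∈ K := by
  let M := Subgroup.normalizer (N : Set G)
  have hNM : N ≤ M := Subgroup.le_normalizer
  have cd : ∀ S : Subgroup G, S ≤ M → Nat.card (S.subgroupOf M) = Nat.card S :=
    fun S hS => Nat.card_congr (Subgroup.subgroupOfEquivOfLe hS).toEquiv
  obtain ⟨n, hn, hmem⟩ := exists_conj_le_of_normal_solvable (N.subgroupOf M) (H.subgroupOf M)
    (K.subgroupOf M) inferInstance
    (haveI := hsolv; Group.isSolvable_of_isSolvable_injective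
      (f := (Subgroup.subgroupOfEquivOfLe hNM).toMonoidHom)
      (Subgroup.subgroupOfEquivOfLe hNM).injective)
    (by
      rw [← Subgroup.subgroupOf_sup hNM hK]
      intro x hx
      exact hle hx)
    (by rwa [cd H hH, cd N hNM]) (by rwa [cd K hK, cd N hNM])
  exact ⟨(n : G), hn, fun h hh => hmem ⟨h, hH hh⟩ hh⟩

/-- If `N₀` is normalised by `K` and of coprime order, a Sylow subgroup of `K` is one of `N₀ ⊔ K`. -/
theorem exists_conj_pgroup_le (N K P : Subgroup G) (p : ℕ) [Fact p.Prime]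
    (hK : K ≤ Subgroup.normalizer (N : Set G)) (hP : IsPGroup p P) (hle : P ≤ N ⊔ K)
    (hp : ¬ p ∣ Nat.card N) (hcK : (Nat.card K).Coprime (Nat.card N)) :
    ∃ n ∈ N, ∀ x ∈ P, n * x * n⁻¹ ∈ K := by
  let M := N ⊔ K
  obtain ⟨Q⟩ := (inferInstance : Nonempty (Sylow p K))
  let Q' : Subgroup G := (Q : Subgroup K).map K.subtype
  have hQK : Q' ≤ K := Subgroup.map_subtype_le _
  have hQM : Q' ≤ M := hQK.trans le_sup_right
  have hKN : K.relIndex M = Nat.card N := by
    symm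
    refine Nat.card_eq_of_bijective (fun n : N =>
      (QuotientGroup.mk (⟨n, (le_sup_left : N ≤ M) n.2⟩ : M) : M ⧸ K.subgroupOf M)) ⟨?_, ?_⟩
    · intro a b hab
      have : (a : G)⁻¹ * b ∈ K := (QuotientGroup.eq.mp hab : _)
      exact Subtype.ext (inv_mul_eq_one.mp
        (inf_eq_bot_of_coprime' hcK this (mul_mem (inv_mem a.2) b.2)))
    · rintro ⟨⟨x, hx⟩⟩
      obtain ⟨n, hn, k, hk, rfl⟩ := exists_mul_of_mem_sup hK hx
      refine ⟨⟨n, hn⟩, QuotientGroup.eq.mpr ?_⟩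
      simpa [Subgroup.mem_subgroupOf] using hk
  have hQp : IsPGroup p (Q'.subgroupOf M) :=
    (Q.isPGroup'.map K.subtype).of_equiv (Subgroup.subgroupOfEquivOfLe hQM).symm
  have hidx : ¬ p ∣ (Q'.subgroupOf M).index := by
    show ¬ p ∣ Q'.relIndex M
    rw [← Subgroup.relIndex_mul_relIndex Q' K M hQK le_sup_right, hKN,
      (Fact.out : p.Prime).dvd_mul, not_or]
    refine ⟨?_, hp⟩
    show ¬ p ∣ (((Q : Subgroup K).map K.subtype).subgroupOf K).index
    rw [Subgroup.subgroupOf, Subgroup.comap_map_eq_self_of_injective K.subtype_injective]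
    exact Q.not_dvd_index
  let QS : Sylow p M := hQp.toSylow hidx
  obtain ⟨R, hR⟩ := (hP.of_equiv (Subgroup.subgroupOfEquivOfLe hle).symm :
    IsPGroup p (P.subgroupOf M)).exists_le_sylow
  obtain ⟨g, hg⟩ := MulAction.exists_smul_eq M R QS
  obtain ⟨n, hn, k, hk, hnk⟩ := exists_mul_of_mem_sup hK g.2
  -- `g = n * k = k * n'`
  refine ⟨k⁻¹ * n * k, conj_mem_of_mem_normalizer' (hK hk) hn, fun x hx => ?_⟩
  have h1 : g * (⟨x, hle hx⟩ : M) * g⁻¹ ∈ (QS : Subgroup M) := by
    rw [← hg]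
    exact Subgroup.mem_map.mpr ⟨_, hR hx, rfl⟩
  have h2 : (g : G) * x * (g : G)⁻¹ ∈ K := hQK h1
  have := mul_mem (mul_mem (inv_mem hk) h2) hk
  rw [hnk] at this
  simpa [mul_assoc] using this

/-- Conjugacy for solvable `H`. -/
theorem exists_conj_le_of_solvable' (N H K : Subgroup G)
    (hH : H ≤ Subgroup.normalizer (N : Set G)) (hK : K ≤ Subgroup.normalizer (N : Set G))
    (hsolv : Group.IsSolvable H) (hle : H ≤ N ⊔ K) (hcH : (Nat.card H).Coprime (Nat.card N))
    (hcK : (Nat.card K).Coprime (Nat.card N)) :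
    ∃ n ∈ N, ∀ h ∈ H, n * h * n⁻¹ ∈ K := by
  induction hc : Nat.card H using Nat.strong_induction_on generalizing H with
  | _ c IH =>
  rcases eq_or_ne H ⊥ with rfl | hne
  · exact ⟨1, one_mem _, fun h hh => by simp [Subgroup.mem_bot.mp hh]⟩
  have hne' : (⊤ : Subgroup H) ≠ ⊥ := by
    intro h
    apply hne
    have := congrArg (Subgroup.map H.subtype) h
    simpa [← MonoidHom.range_eq_map] using this
  have hlt : ⁅(⊤ : Subgroup H), ⊤⁆ < ⊤ := hsolv.commutator_lt_of_ne_bot hne'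
  obtain ⟨R₀, hR₀, hR₀le⟩ := (eq_top_or_exists_le_coatom _).resolve_left hlt.ne
  have hR₀n : R₀.Normal := ⟨fun r hr g => by
    have := mul_mem (hR₀le (Subgroup.commutator_mem_commutator (Subgroup.mem_top g)
      (Subgroup.mem_top r))) hr
    simpa [commutatorElement_def, mul_assoc] using this⟩
  obtain ⟨p, hp, hpdvd⟩ := Nat.exists_prime_and_dvd
    (fun h => hR₀.1 (Subgroup.index_eq_one.mp h))
  have : Fact p.Prime := ⟨hp⟩
  obtain ⟨P⟩ := (inferInstance : Nonempty (Sylow p H))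
  have hPR : ¬ (P : Subgroup H) ≤ R₀ := fun h =>
    P.not_dvd_index (hpdvd.trans (Subgroup.index_dvd_of_le h))
  have hgen : R₀ ⊔ (P : Subgroup H) = ⊤ :=
    hR₀.2 _ (lt_of_le_of_ne le_sup_left (fun h => hPR (h ▸ le_sup_right)))
  have hpN : ¬ p ∣ Nat.card N := fun h => by
    have : p ∣ Nat.card H := hpdvd.trans R₀.index_dvd_card
    exact hp.not_dvd_one (hcH ▸ Nat.dvd_gcd this h)
  let R₁ := R₀.map H.subtype
  have hR₁H : R₁ ≤ H := Subgroup.map_subtype_le _
  have hR₁c : Nat.card R₁ < c := by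
    rw [← hc]
    refine lt_of_le_of_ne (Subgroup.card_le_of_le hR₁H) fun he => hR₀.1 ?_
    apply Subgroup.map_injective H.subtype_injective
    rw [← MonoidHom.range_eq_map, Subgroup.range_subtype]
    exact Subgroup.eq_of_le_of_card_ge hR₁H he.ge
  obtain ⟨n₀, hn₀, hn₀mem⟩ := IH _ hR₁c R₁ (hR₁H.trans hH)
    (haveI := hsolv; Group.isSolvable_of_isSolvable_injective (Subgroup.inclusion_injective hR₁H)) (hR₁H.trans hle)
    (hcH.coprime_dvd_left (Subgroup.card_dvd_of_le hR₁H)) rfl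
  let φ : G →* G := ((MulAut.conj n₀ : G ≃* G) : G →* G)
  let H' := H.map φ
  let R := R₁.map φ
  let P' := ((P : Subgroup H).map H.subtype).map φ
  have hRK : R ≤ K := by
    rintro _ ⟨r, hr, rfl⟩
    exact hn₀mem r hr
  have hn₀norm : n₀ ∈ Subgroup.normalizer (N : Set G) := Subgroup.le_normalizer hn₀
  have hH'norm : H' ≤ Subgroup.normalizer (N : Set G) := by
    rintro _ ⟨h, hh, rfl⟩
    exact mul_mem (mul_mem hn₀norm (hH hh)) (inv_mem hn₀norm)
  have hH'le : H' ≤ N ⊔ K := by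
    rintro _ ⟨h, hh, rfl⟩
    exact mul_mem (mul_mem (Subgroup.mem_sup_left hn₀) (hle hh))
      (inv_mem (Subgroup.mem_sup_left hn₀))
  have hRH' : ∀ x ∈ H', ∀ r ∈ R, x * r * x⁻¹ ∈ R := by
    rintro _ ⟨h, hh, rfl⟩ _ ⟨_, ⟨r, hr, rfl⟩, rfl⟩
    refine ⟨_, ⟨(⟨h, hh⟩ : H) * r * (⟨h, hh⟩ : H)⁻¹, hR₀n.conj_mem r hr _, rfl⟩, ?_⟩
    simp
  let K' := K ⊓ (N ⊔ H')
  have hK'R : ∀ k ∈ K', ∀ r ∈ R, k * r * k⁻¹ ∈ R := by
    rintro k ⟨hk, hk'⟩ r hr
    obtain ⟨n, hn, h, hh, rfl⟩ := exists_mul_of_mem_sup hH'norm hk'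
    have hr' : h * r * h⁻¹ ∈ R := hRH' h hh r hr
    have hK1 : (n * h) * r * (n * h)⁻¹ * (h * r * h⁻¹)⁻¹ ∈ K :=
      mul_mem (mul_mem (mul_mem hk (hRK hr)) (inv_mem hk)) (inv_mem (hRK hr'))
    have hN1 : (n * h) * r * (n * h)⁻¹ * (h * r * h⁻¹)⁻¹ ∈ N := by
      have h3 : n * ((h * r * h⁻¹) * n⁻¹ * (h * r * h⁻¹)⁻¹) ∈ N :=
        mul_mem hn (conj_mem_of_mem_normalizer (hK (hRK hr')) (inv_mem hn))
      simpa [mul_assoc] using h3
    rw [mul_inv_eq_one.mp (inf_eq_bot_of_coprime' hcK hK1 hN1)]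
    exact hr'
  let S : Subgroup G := Subgroup.normalizer (R : Set G)
  have toS : ∀ {L : Subgroup G}, (∀ x ∈ L, ∀ r ∈ R, x * r * x⁻¹ ∈ R) → L ≤ S := fun hL x hx =>
    Subgroup.mem_normalizer_iff.mpr fun r => ⟨fun hr => hL x hx r hr, fun hr => by
      simpa [mul_assoc] using hL x⁻¹ (inv_mem hx) _ hr⟩
  have hH'S : H' ≤ S := toS hRH'
  have hK'S : K' ≤ S := toS hK'R
  let N' := N ⊓ S
  have hle' : H' ≤ N' ⊔ K' := by
    intro h hh
    obtain ⟨n, hn, k, hk, rfl⟩ := exists_mul_of_mem_sup hK (hH'le hh)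
    have hk' : k ∈ K' := ⟨hk, by
      simpa using mul_mem (Subgroup.mem_sup_left (T := H') (inv_mem hn))
        (Subgroup.mem_sup_right (S := N) hh)⟩
    have hnS : n ∈ S := by simpa using mul_mem (hH'S hh) (inv_mem (hK'S hk'))
    exact Subgroup.mul_mem_sup ⟨hn, hnS⟩ hk'
  have hK'N' : K' ≤ Subgroup.normalizer (N' : Set G) := fun k hk =>
    Subgroup.mem_normalizer_iff.mpr fun x => by
      simp only [N', Subgroup.mem_inf]
      exact and_congr (Subgroup.mem_normalizer_iff.mp (hK hk.1) x)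
        ⟨fun hx => mul_mem (mul_mem (hK'S hk) hx) (inv_mem (hK'S hk)), fun hx => by
          simpa [mul_assoc] using mul_mem (mul_mem (inv_mem (hK'S hk)) hx) (hK'S hk)⟩
  have hP'H' : P' ≤ H' := Subgroup.map_mono (Subgroup.map_subtype_le _)
  obtain ⟨n, hn, hnP⟩ := exists_conj_pgroup_le N' K' P' p hK'N'
    ((P.isPGroup'.map H.subtype).map φ) (hP'H'.trans hle')
    (fun h => hpN (h.trans (Subgroup.card_dvd_of_le inf_le_left)))
    ((hcK.coprime_dvd_left (Subgroup.card_dvd_of_le inf_le_left)).coprime_dvd_right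
      (Subgroup.card_dvd_of_le inf_le_left))
  refine ⟨n * n₀, mul_mem hn.1 hn₀, ?_⟩
  have hsup : H' ≤ R ⊔ P' := by
    have := congrArg (fun L => (Subgroup.map H.subtype L).map φ) hgen
    simpa [Subgroup.map_sup, ← MonoidHom.range_eq_map, R, R₁, P', H'] using this.ge
  have : R ⊔ P' ≤ K.comap ((MulAut.conj n : G ≃* G) : G →* G) :=
    sup_le (fun r hr => hRK (conj_mem_of_mem_normalizer hn.2 hr)) (fun x hx => (hnP x hx).1)
  intro h hh
  have h4 : n * (n₀ * h * n₀⁻¹) * n⁻¹ ∈ K := this (hsup ⟨h, hh, rfl⟩)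
  simpa [mul_assoc] using h4

/-- Schur-Zassenhaus conjugacy, relative version. -/
theorem exists_conj_le (N H K : Subgroup G)
    (hH : H ≤ Subgroup.normalizer (N : Set G)) (hK : K ≤ Subgroup.normalizer (N : Set G))
    (hle : H ≤ N ⊔ K) (hcH : (Nat.card H).Coprime (Nat.card N))
    (hcK : (Nat.card K).Coprime (Nat.card N))
    (hsolv : Group.IsSolvable H ∨ Group.IsSolvable N) :
    ∃ n ∈ N, ∀ h ∈ H, n * h * n⁻¹ ∈ K :=
  hsolv.elim (fun h => exists_conj_le_of_solvable' N H K hH hK h hle hcH hcK)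
    (fun h => exists_conj_le_of_solvable N H K hH hK h hle hcH hcK)

end Cfsg.Agent.Coprime
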