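import Cfsg.Agent.Lib.Coprime.Generation
import Mathlib.GroupTheory.SemidirectProduct

/-!
Coprime action, external form: `A` acts on `K` through `φ : A →* MulAut K`.
-/

set_option autoImplicit false

namespace Cfsg.Agent.Coprime

variable {A K : Type*} [Group A] [Group K] (φ : A →* MulAut K)

/-- The image of `A` in `K ⋊ A`. -/
abbrev inrRange : Subgroup (K ⋊[φ] A) := (SemidirectProduct.inr).range

/-- The image of `K` in `K ⋊ A`. -/
abbrev inlRange : Subgroup (K ⋊[φ] A) := (SemidirectProduct.inl).range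

theorem inr_mul_inl_mul_inv (a : A) (k : K) :
    (SemidirectProduct.inr a : K ⋊[φ] A) * SemidirectProduct.inl k *
      (SemidirectProduct.inr a)⁻¹ = SemidirectProduct.inl (φ a k) := by
  rw [SemidirectProduct.inl_aut, map_inv]

theorem inrRange_le_normalizer :
    inrRange φ ≤ Subgroup.normalizer (inlRange φ : Set (K ⋊[φ] A)) :=
  le_normalizer_of_conj_mem fun x hx y hy => by
    obtain ⟨a, rfl⟩ := hx
    obtain ⟨k, rfl⟩ := hy
    exact ⟨φ a k, (inr_mul_inl_mul_inv φ a k).symm⟩

theorem card_inrRange : Nat.card (inrRange φ) = Nat.card A :=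
  (Nat.card_congr (MonoidHom.ofInjective SemidirectProduct.inr_injective).toEquiv).symm

theorem card_inlRange : Nat.card (inlRange φ) = Nat.card K :=
  (Nat.card_congr (MonoidHom.ofInjective SemidirectProduct.inl_injective).toEquiv).symm

theorem card_map_inl (S : Subgroup K) :
    Nat.card (S.map (SemidirectProduct.inl : K →* K ⋊[φ] A)) = Nat.card S :=
  (Nat.card_congr (S.equivMapOfInjective _ SemidirectProduct.inl_injective).toEquiv).symm

theorem inrRange_le_normalizer_map {S : Subgroup K} (hS : ∀ a, ∀ x ∈ S, φ a x ∈ S) :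
    inrRange φ ≤ Subgroup.normalizer
      ((S.map (SemidirectProduct.inl : K →* K ⋊[φ] A)) : Set (K ⋊[φ] A)) :=
  le_normalizer_of_conj_mem fun x hx y hy => by
    obtain ⟨a, rfl⟩ := hx
    obtain ⟨k, hk, rfl⟩ := hy
    exact ⟨φ a k, hS a k hk, (inr_mul_inl_mul_inv φ a k).symm⟩

theorem mem_centralizer_inrRange_iff (k : K) :
    (SemidirectProduct.inl k : K ⋊[φ] A) ∈ Subgroup.centralizer (inrRange φ : Set (K ⋊[φ] A)) ↔
      ∀ a, φ a k = k := by
  refine ⟨fun h a => ?_, fun h => Subgroup.mem_centralizer_iff.mpr ?_⟩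
  · apply SemidirectProduct.inl_injective (φ := φ)
    rw [← inr_mul_inl_mul_inv φ a k, Subgroup.mem_centralizer_iff.mp h _ ⟨a, rfl⟩]
    simp
  · rintro _ ⟨a, rfl⟩
    have := inr_mul_inl_mul_inv φ a k
    rw [h a] at this
    exact mul_inv_eq_iff_eq_mul.mp this

theorem isSolvable_range {H L : Type*} [Group H] [Group L] (f : H →* L)
    (h : Group.IsSolvable H) : Group.IsSolvable f.range :=
  haveI := h
  Group.isSolvable_of_surjective f.rangeRestrict_surjective

section

variable [Finite A] [Finite K]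

theorem finite_semidirect : Finite (K ⋊[φ] A) :=
  Finite.of_equiv _ SemidirectProduct.equivProd.symm

/-- A fixed coset contains a fixed point; `x` need not normalise `N`. -/
theorem exists_fixed_in_coset_hom (N : Subgroup K) (hN : ∀ a, ∀ x ∈ N, φ a x ∈ N)
    (hcop : (Nat.card A).Coprime (Nat.card N)) (hsolv : Group.IsSolvable A ∨ Group.IsSolvable N)
    (x : K) (hx : ∀ a, x⁻¹ * φ a x ∈ N) : ∃ n ∈ N, ∀ a, φ a (x * n) = x * n := by
  haveI := finite_semidirect φ
  obtain ⟨m, hm, hc⟩ := exists_fixed_in_coset (inrRange φ) (N.map SemidirectProduct.inl)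
    (inrRange_le_normalizer_map φ hN) (by rwa [card_inrRange, card_map_inl])
    (hsolv.imp (isSolvable_range _) fun (h : Group.IsSolvable N) => by
      haveI := h
      exact Group.isSolvable_of_surjective
        (f := (N.equivMapOfInjective _ (SemidirectProduct.inl_injective (φ := φ))).toMonoidHom)
        (N.equivMapOfInjective _ SemidirectProduct.inl_injective).surjective)
    (SemidirectProduct.inl x) (by
      rintro _ ⟨a, rfl⟩
      exact ⟨_, hx a, by rw [map_mul, map_inv, inr_mul_inl_mul_inv]⟩)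
  obtain ⟨n, hn, rfl⟩ := hm
  rw [← map_mul] at hc
  exact ⟨n, hn, (mem_centralizer_inrRange_iff φ _).mp hc⟩

/-- An invariant Sylow subgroup exists. -/
theorem exists_invariant_sylow_hom (hcop : (Nat.card A).Coprime (Nat.card K))
    (hsolv : Group.IsSolvable A ∨ Group.IsSolvable K) (p : ℕ) [Fact p.Prime] :
    ∃ P : Sylow p K, ∀ a, ∀ x ∈ (P : Subgroup K), φ a x ∈ (P : Subgroup K) := by
  haveI := finite_semidirect φ
  obtain ⟨P, hP⟩ := exists_invariant_sylow (inrRange φ) (inlRange φ) (inrRange_le_normalizer φ)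
    (by rwa [card_inrRange, card_inlRange]) (hsolv.imp (isSolvable_range _) (isSolvable_range _)) p
  let e : K ≃* inlRange φ := MonoidHom.ofInjective SemidirectProduct.inl_injective
  refine ⟨P.comapOfInjective e.toMonoidHom e.injective (fun y _ => e.surjective y), ?_⟩
  intro a x hx
  have hx' : e x ∈ (P : Subgroup (inlRange φ)) := hx
  obtain ⟨y, hy, hye⟩ := conj_mem_of_mem_normalizer
    (hP (⟨a, rfl⟩ : SemidirectProduct.inr a ∈ inrRange φ)) ⟨e x, hx', rfl⟩
  show e (φ a x) ∈ (P : Subgroup (inlRange φ))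
  have : y = e (φ a x) := Subtype.ext (hye.trans (inr_mul_inl_mul_inv φ a x))
  exact this ▸ hy

/-- A subgroup containing the fixed points of all nonidentity elements of a noncyclic abelian
group of coprime automorphisms is everything. -/
theorem eq_top_of_fixed_le_hom [IsMulCommutative A] (hA : ¬ IsCyclic A)
    (hcop : (Nat.card A).Coprime (Nat.card K)) (H : Subgroup K)
    (hC : ∀ a, a ≠ 1 → ∀ x, φ a x = x → x ∈ H) : H = ⊤ := by
  haveI := finite_semidirect φ
  let e : A ≃* inrRange φ := MonoidHom.ofInjective SemidirectProduct.inr_injective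
  haveI : IsMulCommutative (inrRange φ) := ⟨⟨fun u v => by
    obtain ⟨a, rfl⟩ := e.surjective u
    obtain ⟨b, rfl⟩ := e.surjective v
    rw [← map_mul, ← map_mul, mul_comm' a b]⟩⟩
  have hA' : ¬ IsCyclic (inrRange φ) := fun h => hA (e.isCyclic.mpr h)
  have h := le_of_centralizer_le (inrRange φ) (inlRange φ) (H.map SemidirectProduct.inl) hA'
    (inrRange_le_normalizer φ) (by rwa [card_inrRange, card_inlRange]) (by
      intro y hy hy1 z hz
      obtain ⟨a, rfl⟩ := hy
      obtain ⟨x, rfl⟩ := hz.1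
      refine ⟨x, hC a (fun h => hy1 (by rw [h, map_one])) x ?_, rfl⟩
      apply SemidirectProduct.inl_injective (φ := φ)
      rw [← inr_mul_inl_mul_inv φ a x, Subgroup.mem_centralizer_iff.mp hz.2 _ rfl]
      simp)
  refine eq_top_iff.mpr fun x _ => ?_
  obtain ⟨y, hy, hyx⟩ := h (⟨x, rfl⟩ : SemidirectProduct.inl x ∈ inlRange φ)
  exact SemidirectProduct.inl_injective hyx ▸ hy

end

end Cfsg.Agent.Coprime
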