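import Cfsg.Agent.Lib.Coprime.Hom
import Cfsg.Agent.Lib.Coprime.SchurZassenhaus

/-!
# Glauberman's lemma on coprime actions
-/

set_option autoImplicit false

namespace Cfsg.Agent.Coprime

/-- Glauberman's lemma: a coprime group of operators on a transitive `K`-set fixes a point. -/
theorem exists_fixed_of_transitive {A K X : Type*} [Group A] [Group K] [Finite A] [Finite K]
    [MulAction K X] [MulAction A X] (φ : A →* MulAut K)
    (hcompat : ∀ (a : A) (k : K) (x : X), a • k • x = φ a k • a • x)
    (htrans : MulAction.IsPretransitive K X) (x₀ : X)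
    (hcop : (Nat.card A).Coprime (Nat.card K))
    (hsolv : Group.IsSolvable A ∨ Group.IsSolvable K) : ∃ x : X, ∀ a : A, a • x = x := by
  let f : K ⋊[φ] A →* Equiv.Perm X :=
    SemidirectProduct.lift (MulAction.toPermHom K X) (MulAction.toPermHom A X) fun a =>
      MonoidHom.ext fun k => Equiv.ext fun x => by
        show φ a k • x = a • k • (MulAction.toPermHom A X a)⁻¹ x
        rw [hcompat, ← map_inv]
        show φ a k • x = φ a k • a • a⁻¹ • x
        rw [smul_inv_smul]
  letI : MulAction (K ⋊[φ] A) X := MulAction.compHom X f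
  haveI := finite_semidirect φ
  have hinl : ∀ (k : K) (x : X), (SemidirectProduct.inl k : K ⋊[φ] A) • x = k • x := fun k x => by
    show f (SemidirectProduct.inl k) x = k • x
    rw [SemidirectProduct.lift_inl]; rfl
  have hinr : ∀ (a : A) (x : X), (SemidirectProduct.inr a : K ⋊[φ] A) • x = a • x := fun a x => by
    show f (SemidirectProduct.inr a) x = a • x
    rw [SemidirectProduct.lift_inr]; rfl
  set L : Subgroup (K ⋊[φ] A) := inlRange φ with hL
  haveI hLn : L.Normal := by
    rw [hL, inlRange, SemidirectProduct.range_inl_eq_ker_rightHom]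
    infer_instance
  set T : Subgroup (K ⋊[φ] A) := MulAction.stabilizer (K ⋊[φ] A) x₀ with hT
  have htop : T ⊔ L = ⊤ := by
    rw [eq_top_iff]
    intro g _
    obtain ⟨k, hk⟩ := htrans.exists_smul_eq x₀ (g • x₀)
    have hmem : (SemidirectProduct.inl k)⁻¹ * g ∈ T := by
      rw [hT, MulAction.mem_stabilizer_iff, mul_smul, ← hk, ← hinl, inv_smul_smul]
    rw [← mul_inv_cancel_left (SemidirectProduct.inl k : K ⋊[φ] A) g]
    exact mul_mem (Subgroup.mem_sup_right ⟨k, rfl⟩) (Subgroup.mem_sup_left hmem)
  have hLidx : L.index = Nat.card A := by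
    refine Nat.eq_of_mul_eq_mul_left (Nat.card_pos (α := L)) ?_
    rw [Subgroup.card_mul_index, SemidirectProduct.card, card_inlRange φ]
  set M := L.subgroupOf T with hM
  have hMidx : M.index = Nat.card A := by
    show L.relIndex T = Nat.card A
    rw [← Subgroup.relIndex_sup_right, htop, Subgroup.relIndex_top_right, hLidx]
  have hMcard : Nat.card M ∣ Nat.card K := by
    rw [← card_inlRange φ]
    exact Subgroup.card_dvd_of_injective ((T.subtype.comp M.subtype).codRestrict L fun x => x.2)
      fun a b h => Subtype.ext (Subtype.ext (congrArg Subtype.val h :))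
  obtain ⟨C, hC⟩ := Subgroup.exists_right_complement'_of_coprime (N := M)
    (by rw [hMidx]; exact (hcop.coprime_dvd_right hMcard).symm)
  have hCcard : Nat.card (C.map T.subtype) = Nat.card A := by
    rw [Nat.card_congr (C.equivMapOfInjective _ T.subtype_injective).toEquiv.symm, ← hMidx,
      ← hC.symm.index_eq_card]
  have hLC : Subgroup.IsComplement' L (C.map T.subtype) := by
    refine Subgroup.isComplement'_of_coprime ?_ ?_
    · rw [hCcard, card_inlRange φ, SemidirectProduct.card]
    · rw [hCcard, card_inlRange φ]; exact hcop.symm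
  obtain ⟨n, -, hn⟩ := exists_conj_le L (inrRange φ) (C.map T.subtype)
    (inrRange_le_normalizer φ) (Subgroup.normalizer_eq_top_iff.mpr hLn ▸ le_top)
    (hLC.sup_eq_top ▸ le_top)
    (by rw [card_inrRange φ, card_inlRange φ]; exact hcop)
    (by rw [hCcard, card_inlRange φ]; exact hcop)
    (hsolv.imp (fun h => isSolvable_range _ h) (fun h => isSolvable_range _ h))
  refine ⟨n⁻¹ • x₀, fun a => ?_⟩
  have hmem : n * SemidirectProduct.inr a * n⁻¹ ∈ T :=
    Subgroup.map_subtype_le _ (hn _ ⟨a, rfl⟩)
  rw [hT, MulAction.mem_stabilizer_iff, mul_smul, mul_smul] at hmem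
  rw [← hinr, eq_inv_smul_iff]
  exact hmem

end Cfsg.Agent.Coprime
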