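import Mathlib.GroupTheory.Solvable
import Mathlib.GroupTheory.Sylow
import Cfsg.Agent.Lib.Solvable.Basic

/-!
Wielandt's three-subgroup solvability criterion.
-/

set_option autoImplicit false

universe u

namespace Cfsg.Agent.Coprime

variable {G : Type u} [Group G]

/-- If `G = H K` then `[H : H ∩ K] = [G : K]`. -/
theorem relIndex_eq_index_of_mul {H K : Subgroup G} (h : ∀ g : G, ∃ x ∈ H, ∃ y ∈ K, g = x * y) :
    K.relIndex H = K.index := by
  refine Nat.card_eq_of_bijective (Quotient.map' (Subtype.val : H → G) fun a b hab => ?_) ⟨?_, ?_⟩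
  · rw [QuotientGroup.leftRel_apply] at hab ⊢
    exact hab
  · rintro ⟨a⟩ ⟨b⟩ hab
    exact Quotient.sound (QuotientGroup.leftRel_apply.mpr
      (QuotientGroup.leftRel_apply.mp (Quotient.exact hab) :))
  · rintro ⟨g⟩
    obtain ⟨x, hx, y, hy, rfl⟩ := h g
    exact ⟨QuotientGroup.mk ⟨x, hx⟩, QuotientGroup.eq.mpr (by simpa using hy)⟩

theorem exists_normal_le_of_mul [Finite G] {H K : Subgroup G} (N : Subgroup H) [N.Normal]
    (hN : N ≠ ⊥) {p : ℕ} [Fact p.Prime] (hp : IsPGroup p N) (hK : ¬ p ∣ K.index)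
    (h : ∀ g : G, ∃ x ∈ H, ∃ y ∈ K, g = x * y) :
    ∃ M : Subgroup G, M.Normal ∧ M ≠ ⊥ ∧ M ≤ K := by
  obtain ⟨S⟩ := (inferInstance : Nonempty (Sylow p (K.subgroupOf H)))
  let S' : Subgroup H := (S : Subgroup _).map (K.subgroupOf H).subtype
  have hidx : ¬ p ∣ S'.index := by
    rw [Subgroup.index_map_subtype, (Fact.out : p.Prime).dvd_mul, not_or]
    refine ⟨S.not_dvd_index, ?_⟩
    show ¬ p ∣ K.relIndex H
    rwa [relIndex_eq_index_of_mul h]
  let P : Sylow p H := (S.isPGroup'.map _).toSylow hidx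
  have hNP : N ≤ (P : Subgroup H) := by
    have hle : (P : Subgroup H) ≤ (P : Subgroup H) ⊔ N := le_sup_left
    exact le_sup_right.trans (P.is_maximal' (P.isPGroup'.to_sup_of_normal_right hp) hle).le
  have hNK : ∀ x ∈ N, (x : G) ∈ K := fun x hx => by
    obtain ⟨y, -, rfl⟩ := hNP hx
    exact y.2
  refine ⟨Subgroup.normalClosure (N.map H.subtype : Set G), inferInstance, fun hbot => hN ?_, ?_⟩
  · have h1 : N.map H.subtype ≤ ⊥ := hbot ▸ Subgroup.le_normalClosure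
    exact (Subgroup.map_eq_bot_iff_of_injective _ H.subtype_injective).mp (le_bot_iff.mp h1)
  · refine (Subgroup.closure_le K).mpr fun z hz => ?_
    obtain ⟨n, ⟨x, hx, rfl⟩, hconj⟩ := Group.mem_conjugatesOfSet_iff.mp hz
    obtain ⟨g, rfl⟩ := isConj_iff.mp hconj
    obtain ⟨a, ha, b, hb, hab⟩ := h g⁻¹
    have hg : g = b⁻¹ * a⁻¹ := by rw [← inv_inv g, hab, mul_inv_rev]
    have hx' : a⁻¹ * (x : G) * a ∈ K :=
      hNK (⟨a, ha⟩⁻¹ * x * ⟨a, ha⟩) (by simpa using Subgroup.Normal.conj_mem ‹_› x hx ⟨a, ha⟩⁻¹)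
    simpa [hg, mul_assoc] using mul_mem (mul_mem (inv_mem hb) hx') hb

/-- Wielandt: if `G = H₁H₂ = H₁H₃` with solvable factors and coprime indices of `H₂`, `H₃`, then
`G` is solvable. -/
theorem isSolvable_of_three (n : ℕ) : ∀ (G : Type u) [Group G] [Finite G], Nat.card G = n →
    ∀ (H₁ H₂ H₃ : Subgroup G), Group.IsSolvable H₁ → Group.IsSolvable H₂ → Group.IsSolvable H₃ →
    (∀ g : G, ∃ x ∈ H₁, ∃ y ∈ H₂, g = x * y) → (∀ g : G, ∃ x ∈ H₁, ∃ y ∈ H₃, g = x * y) →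
    H₂.index.Coprime H₃.index → Group.IsSolvable G := by
  induction n using Nat.strong_induction_on with
  | _ n IH =>
  intro G _ _ hn H₁ H₂ H₃ h₁ h₂ h₃ h12 h13 hcop
  rcases eq_or_ne H₁ ⊥ with rfl | hne
  · haveI := h₂
    refine Group.isSolvable_of_surjective (f := H₂.subtype) fun g => ?_
    obtain ⟨x, hx, y, hy, rfl⟩ := h12 g
    exact ⟨⟨y, hy⟩, by simp [Subgroup.mem_bot.mp hx]⟩
  haveI := (Subgroup.nontrivial_iff_ne_bot H₁).mpr hne
  haveI := h₁
  obtain ⟨N, p, hNn, hNne, -, hp, hNp, -⟩ := Solvable.exists_minimal_normal_elementary H₁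
  haveI := Fact.mk hp
  haveI := hNn
  obtain ⟨M, hMn, hMne, hMsolv⟩ : ∃ M : Subgroup G, M.Normal ∧ M ≠ ⊥ ∧ Group.IsSolvable M := by
    by_cases hp2 : p ∣ H₂.index
    · have hp3 : ¬ p ∣ H₃.index := fun hd => hp.not_dvd_one (hcop ▸ Nat.dvd_gcd hp2 hd)
      obtain ⟨M, hM, hM', hle⟩ := exists_normal_le_of_mul N hNne hNp hp3 h13
      haveI := h₃
      exact ⟨M, hM, hM', Group.isSolvable_of_isSolvable_injective (Subgroup.inclusion_injective hle)⟩
    · obtain ⟨M, hM, hM', hle⟩ := exists_normal_le_of_mul N hNne hNp hp2 h12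
      haveI := h₂
      exact ⟨M, hM, hM', Group.isSolvable_of_isSolvable_injective (Subgroup.inclusion_injective hle)⟩
  haveI := hMn
  have hlt : Nat.card (G ⧸ M) < n := by
    rw [← hn, ← M.index_mul_card]
    exact lt_mul_of_one_lt_right (Nat.pos_of_ne_zero Subgroup.index_ne_zero_of_finite)
      (M.one_lt_card_iff_ne_bot.mpr hMne)
  let q := QuotientGroup.mk' M
  have hqs : Function.Surjective q := QuotientGroup.mk'_surjective M
  have hs : ∀ H : Subgroup G, Group.IsSolvable H → Group.IsSolvable (H.map q) := fun H hH =>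
    haveI := hH
    Group.isSolvable_of_surjective (q.subgroupMap_surjective H)
  have hprod : ∀ K : Subgroup G, (∀ g : G, ∃ x ∈ H₁, ∃ y ∈ K, g = x * y) →
      ∀ g : G ⧸ M, ∃ x ∈ H₁.map q, ∃ y ∈ K.map q, g = x * y := fun K hK g => by
    obtain ⟨g, rfl⟩ := hqs g
    obtain ⟨x, hx, y, hy, rfl⟩ := hK g
    exact ⟨q x, ⟨x, hx, rfl⟩, q y, ⟨y, hy, rfl⟩, map_mul q x y⟩
  haveI hQ : Group.IsSolvable (G ⧸ M) := IH _ hlt (G ⧸ M) rfl (H₁.map q) (H₂.map q) (H₃.map q)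
    (hs _ h₁) (hs _ h₂) (hs _ h₃) (hprod _ h12) (hprod _ h13)
    ((hcop.coprime_dvd_left (Subgroup.index_map_dvd _ hqs)).coprime_dvd_right
      (Subgroup.index_map_dvd _ hqs))
  exact (Group.isSolvable_iff_subgroup_quotient M).mpr ⟨hMsolv, hQ⟩

end Cfsg.Agent.Coprime
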