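import Cfsg.Agent.Lib.Coprime.HallHigman

/-!
Weights of an abelian subgroup as plain functions, their stabilizers, and the projection of sums
of translates of a weight vector.
-/

set_option autoImplicit false

namespace Cfsg.Agent.LinAct

open scoped commutatorElement
open Subgroup

variable {Γ : Type*} [Group Γ] {L : Type*} [Field L] {W : Type*} [AddCommGroup W] [Module L W]

/-- The vectors on which the elements of `Z` act by the scalars `χ`. -/
def wspace (ρ : Γ →* Module.End L W) (Z : Subgroup Γ) (χ : Γ → L) : Submodule L W where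
  carrier := {w | ∀ z ∈ Z, ρ z w = χ z • w}
  zero_mem' := fun z _ => by simp
  add_mem' := fun {x y} hx hy z hz => by rw [map_add, hx z hz, hy z hz, smul_add]
  smul_mem' := fun c x hx z hz => by rw [map_smul, hx z hz, smul_comm]

/-- The elements normalizing `Z` and fixing the function `χ` on it. -/
def wstab (Z : Subgroup Γ) (χ : Γ → L) : Subgroup Γ where
  carrier := {g | g ∈ normalizer (Z : Set Γ) ∧ ∀ z ∈ Z, χ (g⁻¹ * z * g) = χ z}
  one_mem' := ⟨one_mem _, fun z _ => by rw [inv_one, one_mul, mul_one]⟩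
  mul_mem' := fun {g h} hg hh => ⟨mul_mem hg.1 hh.1, fun z hz => by
    have hz' : g⁻¹ * z * g ∈ Z := Coprime.conj_mem_of_mem_normalizer' hg.1 hz
    rw [show (g * h)⁻¹ * z * (g * h) = h⁻¹ * (g⁻¹ * z * g) * h by group, hh.2 _ hz', hg.2 z hz]⟩
  inv_mem' := fun {g} hg => ⟨inv_mem hg.1, fun z hz => by
    have h := hg.2 (g * z * g⁻¹) (Coprime.conj_mem_of_mem_normalizer hg.1 hz)
    rw [show g⁻¹ * (g * z * g⁻¹) * g = z by group] at h
    rw [inv_inv, h]⟩

theorem wstab_le_normalizer (Z : Subgroup Γ) (χ : Γ → L) :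
    wstab Z χ ≤ normalizer (Z : Set Γ) := fun _ hg => hg.1

theorem mem_wstab_of_commute {Z : Subgroup Γ} {χ : Γ → L} {g : Γ}
    (hg : ∀ z ∈ Z, g * z = z * g) : g ∈ wstab Z χ := by
  have hn : g ∈ normalizer (Z : Set Γ) := Coprime.mem_normalizer_of_le_iff
    (fun z hz => by rwa [hg z hz, mul_inv_cancel_right])
    (fun z hz => by rwa [mul_assoc, ← hg z hz, inv_mul_cancel_left])
  exact ⟨hn, fun z hz => by rw [mul_assoc, ← hg z hz, inv_mul_cancel_left]⟩

theorem map_mem_wspace (ρ : Γ →* Module.End L W) {Z : Subgroup Γ} {χ : Γ → L} {g : Γ}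
    (hg : g ∈ normalizer (Z : Set Γ)) {v : W} (hv : v ∈ wspace ρ Z χ) :
    ρ g v ∈ wspace ρ Z (fun z => χ (g⁻¹ * z * g)) := fun z hz => by
  rw [← rho_mul, show z * g = g * (g⁻¹ * z * g) by group, rho_mul,
    hv _ (Coprime.conj_mem_of_mem_normalizer' hg hz), map_smul]

theorem wstab_le_stab [Finite Γ] (ρ : Γ →* Module.End L W) (Z : Subgroup Γ) (χ : Γ → L) :
    wstab Z χ ≤ stab ρ (wspace ρ Z χ) := fun g hg w hw z hz => by
  rw [map_mem_wspace ρ hg.1 hw z hz]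
  exact congrArg (· • ρ g w) (hg.2 z hz)

section weight

variable (ρ : Γ →* Module.End L W) {Z : Subgroup Γ} {χ : Γ → L} {v : W}
  (hv : v ∈ wspace ρ Z χ) (hv0 : v ≠ 0)

include hv hv0

theorem weight_mul {x y : Γ} (hx : x ∈ Z) (hy : y ∈ Z) : χ (x * y) = χ x * χ y := by
  refine smul_left_injective L hv0 ?_
  show χ (x * y) • v = (χ x * χ y) • v
  rw [← hv _ (mul_mem hx hy), rho_mul, hv y hy, map_smul, hv x hx, smul_smul, mul_comm]

theorem weight_one : χ 1 = 1 := by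
  refine smul_left_injective L hv0 ?_
  show χ 1 • v = (1 : L) • v
  rw [← hv 1 (one_mem _), rho_one, one_smul]

theorem weight_pow {x : Γ} (hx : x ∈ Z) (n : ℕ) : χ (x ^ n) = χ x ^ n := by
  induction n with
  | zero => rw [pow_zero, pow_zero, weight_one ρ hv hv0]
  | succ n ih => rw [pow_succ, pow_succ, weight_mul ρ hv hv0 (pow_mem hx n) hx, ih]

end weight

/-- An invariant submodule contains a weight vector. -/
theorem exists_weight_vector [IsAlgClosed L] [FiniteDimensional L W] (ρ : Γ →* Module.End L W)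
    (Z : Subgroup Γ) (hZ : ∀ a ∈ Z, ∀ b ∈ Z, a * b = b * a) (U : Submodule L W) (hU : U ≠ ⊥)
    (hUZ : ∀ a ∈ Z, ∀ w ∈ U, ρ a w ∈ U) :
    ∃ (χ : Γ → L) (v : W), v ∈ U ∧ v ≠ 0 ∧ v ∈ wspace ρ Z χ := by
  classical
  obtain ⟨χ, v, hv, hv0, hχ⟩ := exists_weight ρ Z hZ U hU hUZ
  refine ⟨fun g => if h : g ∈ Z then χ ⟨g, h⟩ else 0, v, hv, hv0, fun z hz => ?_⟩
  simp only [dif_pos hz]
  exact hχ ⟨z, hz⟩

/-- A vector in the range of `ρ y - 1`, of a weight trivial at `y`, is zero. -/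
theorem eq_zero_of_weight (ρ : Γ →* Module.End L W) {Z : Subgroup Γ} {χ : Γ → L} {y : Γ} {n : ℕ}
    (hn : y ^ n = 1) (hn0 : (n : L) ≠ 0) (hy : y ∈ Z) {v : W} (hv : v ∈ wspace ρ Z χ)
    (hU : v ∈ LinearMap.range (ρ y - 1)) (hχ : χ y = 1) : v = 0 := by
  obtain ⟨u, hu⟩ := hU
  exact eq_zero_of_range ρ hn hn0 ((hv y hy).trans (by rw [hχ, one_smul])) hu

/-- An element killed by all weights of `Z` acts trivially. -/
theorem eq_one_of_weights [IsAlgClosed L] [FiniteDimensional L W] (ρ : Γ →* Module.End L W)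
    (Z : Subgroup Γ) (hZ : ∀ a ∈ Z, ∀ b ∈ Z, a * b = b * a) {z : Γ} (hz : z ∈ Z) {n : ℕ}
    (hn : z ^ n = 1) (hn0 : (n : L) ≠ 0)
    (h : ∀ (χ : Γ → L) (v : W), v ≠ 0 → v ∈ wspace ρ Z χ → χ z = 1) : ρ z = 1 := by
  by_contra hne
  have hU : LinearMap.range (ρ z - 1) ≠ ⊥ := fun h' =>
    hne (by rwa [LinearMap.range_eq_bot, sub_eq_zero] at h')
  obtain ⟨χ, v, hvU, hv0, hv⟩ := exists_weight_vector ρ Z hZ _ hU (by
    rintro a ha _ ⟨u, rfl⟩
    exact ⟨ρ a u, by simp only [LinearMap.sub_apply, Module.End.one_apply, map_sub, ← rho_mul,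
      hZ z hz a ha]⟩)
  exact hv0 (eq_zero_of_weight ρ hn hn0 hz hv hvU (h χ v hv0 hv))

/-- The weight projection, up to the factor `card Z`. -/
def wproj (ρ : Γ →* Module.End L W) (Z : Subgroup Γ) [Fintype Z] (χ : Γ → L) : Module.End L W :=
  ∑ z : Z, χ ((z : Γ)⁻¹) • ρ (z : Γ)

theorem wproj_apply (ρ : Γ →* Module.End L W) (Z : Subgroup Γ) [Fintype Z] (χ : Γ → L) (w : W) :
    wproj ρ Z χ w = ∑ z : Z, χ ((z : Γ)⁻¹) • ρ (z : Γ) w := by
  simp [wproj, LinearMap.sum_apply]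

theorem wproj_weight [Finite Γ] (ρ : Γ →* Module.End L W) (Z : Subgroup Γ) [Fintype Z]
    {χ μ : Γ → L} {v u : W} (hv : v ∈ wspace ρ Z χ) (hv0 : v ≠ 0) (hu : u ∈ wspace ρ Z μ) :
    ((∀ z ∈ Z, χ z = μ z) → wproj ρ Z χ u = (Nat.card Z : L) • u) ∧
      ((¬ ∀ z ∈ Z, χ z = μ z) → wproj ρ Z χ u = 0) := by
  by_cases hu0 : u = 0
  · subst hu0; simp
  let F : (Γ → L) → W → Prop := fun φ w => w ∈ wspace ρ Z φ ∧ w ≠ 0
  have mk : ∀ φ w, F φ w → ∃ c : Z →* L, ∀ z : Z, c z = φ (z : Γ) := fun φ w h =>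
    ⟨{ toFun := fun z => φ (z : Γ), map_one' := weight_one ρ h.1 h.2,
       map_mul' := fun a b => weight_mul ρ h.1 h.2 a.2 b.2 }, fun _ => rfl⟩
  obtain ⟨c, hc⟩ := mk χ v ⟨hv, hv0⟩
  obtain ⟨d, hd⟩ := mk μ u ⟨hu, hu0⟩
  have h := proj_weight ρ c d (u := u) fun a => by rw [hd]; exact hu a a.2
  have heq : wproj ρ Z χ u = ∑ a : Z, c a⁻¹ • ρ (a : Γ) u := by
    rw [wproj_apply]
    refine Finset.sum_congr rfl fun a _ => ?_
    rw [hc, Subgroup.coe_inv]
  refine ⟨fun hall => ?_, fun hne => ?_⟩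
  · rw [heq, h.1 (MonoidHom.ext fun z => by rw [hc, hd, hall z z.2])]
  · rw [heq, h.2 fun hcd => hne fun z hz => ?_]
    rw [← hc ⟨z, hz⟩, hcd, hd]

/-- Projection of a sum of translates of a weight vector. -/
theorem wproj_sum [Finite Γ] (ρ : Γ →* Module.End L W) (Z : Subgroup Γ) [Fintype Z] {χ : Γ → L}
    {v : W} (hv : v ∈ wspace ρ Z χ) (hv0 : v ≠ 0) {ι : Type*} (s : Finset ι) (g : ι → Γ)
    (hg : ∀ i ∈ s, g i ∈ normalizer (Z : Set Γ)) [DecidablePred fun i => g i ∈ wstab Z χ] :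
    wproj ρ Z χ (∑ i ∈ s, ρ (g i) v) =
      (Nat.card Z : L) • ∑ i ∈ s.filter (fun i => g i ∈ wstab Z χ), ρ (g i) v := by
  rw [map_sum, Finset.sum_filter, Finset.smul_sum]
  refine Finset.sum_congr rfl fun i hi => ?_
  have h := wproj_weight ρ Z hv hv0 (map_mem_wspace ρ (hg i hi) hv)
  split_ifs with hm
  · exact h.1 fun z hz => (hm.2 z hz).symm
  · rw [h.2 fun hall => hm ⟨hg i hi, fun z hz => (hall z hz).symm⟩, smul_zero]

/-- `wproj` commutes with the elements centralizing `Z`. -/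
theorem wproj_comm (ρ : Γ →* Module.End L W) (Z : Subgroup Γ) [Fintype Z] (χ : Γ → L) {y : Γ}
    (hy : ∀ z ∈ Z, y * z = z * y) (w : W) :
    ρ y (wproj ρ Z χ w) = wproj ρ Z χ (ρ y w) := by
  rw [wproj_apply, wproj_apply, map_sum]
  refine Finset.sum_congr rfl fun z _ => ?_
  rw [map_smul, ← rho_mul, hy z z.2, rho_mul]

/-- If a translate sum over `F` is fixed by `y`, only the identity of `F` fixing the weight, then
`y` fixes the vector. -/
theorem fixed_of_free_orbit [Finite Γ] (ρ : Γ →* Module.End L W) (Z : Subgroup Γ)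
    (hZ0 : (Nat.card Z : L) ≠ 0) {χ : Γ → L} {v : W} (hv : v ∈ wspace ρ Z χ) (F : Subgroup Γ)
    [Fintype F] (hFZ : F ≤ normalizer (Z : Set Γ)) (hfree : F ⊓ wstab Z χ = ⊥) {y : Γ}
    (hy : ∀ z ∈ Z, y * z = z * y)
    (hfix : ρ y (∑ g : F, ρ (g : Γ) v) = ∑ g : F, ρ (g : Γ) v) : ρ y v = v := by
  classical
  by_cases hv0 : v = 0
  · subst hv0; simp
  cases nonempty_fintype Z
  have hp : wproj ρ Z χ (∑ g : F, ρ (g : Γ) v) = (Nat.card Z : L) • v := by
    rw [wproj_sum ρ Z hv hv0 Finset.univ (fun g : F => (g : Γ)) fun g _ => hFZ g.2,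
      Finset.sum_filter, Finset.sum_eq_single (1 : F)]
    · rw [OneMemClass.coe_one, if_pos (one_mem (wstab Z χ)), rho_one]
    · intro g _ hg
      refine if_neg fun hgs => hg (Subtype.ext ?_)
      have : (g : Γ) ∈ F ⊓ wstab Z χ := ⟨g.2, hgs⟩
      rwa [hfree, mem_bot] at this
    · exact fun h => absurd (Finset.mem_univ _) h
  have h := congrArg (ρ y) hp
  rw [wproj_comm ρ Z χ hy, hfix, hp, map_smul] at h
  exact (smul_right_injective W hZ0 h).symm

/-- The sum over a subgroup is fixed by the elements normalizing it and fixing the vector, and by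
its own elements. -/
theorem sum_subgroup_fixed (ρ : Γ →* Module.End L W) (F : Subgroup Γ) [Fintype F] (v : W) {g : Γ}
    (hg : g ∈ F ∨ (g ∈ normalizer (F : Set Γ) ∧ ρ g v = v)) :
    ρ g (∑ x : F, ρ (x : Γ) v) = ∑ x : F, ρ (x : Γ) v := by
  rw [map_sum]
  rcases hg with hg | ⟨hg, hv⟩
  · simp only [← rho_mul]
    exact Equiv.sum_comp (Equiv.mulLeft (⟨g, hg⟩ : F)) (fun x : F => ρ (x : Γ) v)
  · refine Fintype.sum_equiv (F.normalizerMonoidHom ⟨g, hg⟩).toEquiv _ _ fun x => ?_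
    show ρ g (ρ (x : Γ) v) = ρ ((F.normalizerMonoidHom ⟨g, hg⟩ x : F) : Γ) v
    rw [show ((F.normalizerMonoidHom ⟨g, hg⟩ x : F) : Γ) = g * x * g⁻¹ by simp,
      rho_mul, rho_mul]
    have hv' : ρ g⁻¹ v = v := by
      have h := rho_inv_apply ρ g v
      rwa [hv] at h
    rw [hv']

end Cfsg.Agent.LinAct
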