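import Cfsg.Agent.Lib.Coprime.LinAct

/-!
An operator of prime order without fixed vectors: the Hall–Higman–Shult theorem (BG 2.5).
-/

set_option autoImplicit false

namespace Cfsg.Agent.LinAct

open scoped commutatorElement
open Subgroup

variable {Γ : Type*} [Group Γ] {L : Type*} [Field L] {W : Type*} [AddCommGroup W] [Module L W]

/-- The elements preserving a submodule. -/
def stab [Finite Γ] (ρ : Γ →* Module.End L W) (U : Submodule L W) : Subgroup Γ where
  carrier := {g | ∀ w ∈ U, ρ g w ∈ U}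
  one_mem' := fun w hw => by rwa [rho_one]
  mul_mem' := fun {g h} hg hh w hw => by rw [rho_mul]; exact hg _ (hh w hw)
  inv_mem' := fun {g} hg w hw => by
    obtain ⟨n, hn⟩ : ∃ n : ℕ, g ^ n = g⁻¹ :=
      mem_powers_iff_mem_zpowers.mpr (inv_mem (mem_zpowers g))
    rw [← hn]
    clear hn
    induction n with
    | zero => rwa [pow_zero, rho_one]
    | succ n ih => rw [pow_succ', rho_mul]; exact hg _ ih

/-- The action on an invariant submodule. -/
def resOn [Finite Γ] (ρ : Γ →* Module.End L W) (U : Submodule L W) : stab ρ U →* Module.End L U where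
  toFun g := (ρ (g : Γ)).restrict g.2
  map_one' := LinearMap.ext fun w => Subtype.ext (rho_one ρ w)
  map_mul' g h := LinearMap.ext fun w => Subtype.ext (rho_mul ρ g h w)

@[simp] theorem resOn_apply [Finite Γ] (ρ : Γ →* Module.End L W) (U : Submodule L W) (g : stab ρ U)
    (w : U) : ((resOn ρ U g w : U) : W) = ρ (g : Γ) w := rfl

/-- The faithful case. -/
theorem commutator_eq_bot_of_injective [Finite Γ] [IsAlgClosed L] [FiniteDimensional L W]
    (ρ : Γ →* Module.End L W) (hinj : Function.Injective ρ) {s p : ℕ} [hs : Fact s.Prime]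
    (hp : p.Prime) (hsp : s ≠ p) (hs0 : (s : L) ≠ 0) (hp0 : (p : L) ≠ 0) (a : Γ) (ha : a ^ p = 1)
    (hU : ∀ w, ρ a w = w → w = 0) (P : Subgroup Γ) (hP : IsPGroup s P)
    (haP : a ∈ normalizer (P : Set Γ))
    (hexc : s = 2 → (∃ m, p = 2 ^ m + 1) → ∀ x ∈ P, ∀ y ∈ P, x * y = y * x) :
    ⁅P, zpowers a⁆ = ⊥ := by
  induction hn : Nat.card P using Nat.strong_induction_on generalizing P with | _ n ih => ?_
  subst hn
  set A := zpowers a with hA
  have hAP : A ≤ normalizer (P : Set Γ) := zpowers_le.mpr haP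
  have hmin : ∀ V : Subgroup Γ, V < P → A ≤ normalizer (V : Set Γ) → ⁅V, A⁆ = ⊥ := fun V hV hVA =>
    ih _ (Set.Finite.card_lt_card (Set.toFinite _) hV) V (hP.to_le hV.le) (hVA (mem_zpowers a))
      (fun h1 h2 x hx y hy => hexc h1 h2 x (hV.le hx) y (hV.le hy)) rfl
  by_contra hnt
  have hcopA : (Nat.card A).Coprime s := by
    rw [hA, Nat.card_zpowers]
    exact ((Nat.coprime_primes hp hs.out).mpr (Ne.symm hsp)).coprime_dvd_left
      (orderOf_dvd_of_pow_eq_one ha)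
  obtain ⟨k, hk⟩ := IsPGroup.iff_card.mp hP
  have hPL : (Nat.card P : L) ≠ 0 := by rw [hk, Nat.cast_pow]; exact pow_ne_zero k hs0
  obtain ⟨h1, -, h3, h4, h5⟩ := FG72.minimal_action A A P hP hAP le_rfl le_normalizer hcopA hnt hmin
  set Z := ⁅P, P⁆ with hZ
  have hZP : Z ≤ P := h3 ▸ inf_le_left
  have hZc : ∀ z ∈ Z, ∀ y ∈ P, y * z = z * y := fun z hz y hy =>
    mem_centralizer_iff.mp (commutator_eq_bot_iff_le_centralizer.mp h4 hz) y hy
  have hZa : ∀ z ∈ Z, a * z = z * a := fun z hz =>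
    mem_centralizer_iff.mp ((h3.ge hz).2) a (mem_zpowers a)
  have hmemZ : ∀ x ∈ P, a * x = x * a → x ∈ Z := fun x hx hax => h3.le ⟨hx, by
    show x ∈ centralizer (A : Set Γ)
    rw [hA, zpowers_eq_closure, centralizer_closure, mem_centralizer_singleton_iff]
    exact hax.symm⟩
  rcases eq_or_ne Z ⊥ with hZb | hZb
  · refine hnt ?_
    have htriv : ∀ x ∈ P, x = 1 := fun x hx => hinj (by
      rw [map_one]
      exact LinearMap.ext fun w => trivial_of_fpf ρ P a hp ha haP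
        (fun y hy hay => mem_bot.mp (hZb ▸ hmemZ y hy hay)) hPL ⊤ (fun _ _ _ _ => trivial)
        (fun _ _ => trivial) (fun w _ => hU w) hx (Submodule.mem_top (x := w)))
    rw [(eq_bot_iff_forall P).mpr htriv, commutator_bot_left]
  obtain ⟨z0, hz0, hz01⟩ := (bot_or_exists_ne_one Z).resolve_left hZb
  set U := LinearMap.range (ρ z0 - 1) with hUdef
  have hU0 : U ≠ ⊥ := fun h => hz01 (hinj (by
    rw [hUdef, LinearMap.range_eq_bot, sub_eq_zero] at h
    rw [h, map_one]))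
  have hUZ : ∀ z ∈ Z, ∀ w ∈ U, ρ z w ∈ U := by
    rintro z hz _ ⟨u, rfl⟩
    refine ⟨ρ z u, ?_⟩
    simp only [LinearMap.sub_apply, Module.End.one_apply, map_sub, ← rho_mul,
      hZc z hz z0 (hZP hz0)]
  obtain ⟨χ, v, ⟨u, hu⟩, hv0, hχ⟩ :=
    exists_weight ρ Z (fun x hx y hy => hZc y hy x (hZP hx)) U hU0 hUZ
  have hz0s : z0 ^ s = 1 := h5 z0 hz0
  have hχz0 : χ ⟨z0, hz0⟩ ≠ 1 := fun h => hv0 (eq_zero_of_range ρ hz0s hs0
    ((hχ ⟨z0, hz0⟩).trans (by rw [h, one_smul])) (by simpa using hu))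
  let E : Submodule L W :=
    { carrier := {w | ∀ z : Z, ρ (z : Γ) w = χ z • w}
      zero_mem' := fun z => by simp
      add_mem' := fun {x y} hx hy z => by rw [map_add, hx z, hy z, smul_add]
      smul_mem' := fun c x hx z => by rw [map_smul, hx z, smul_comm] }
  have hcommE : ∀ g : Γ, (∀ z ∈ Z, g * z = z * g) → g ∈ stab ρ E := fun g hg w hw z => by
    rw [← rho_mul, ← hg z z.2, rho_mul, hw z, map_smul]
  have hPE : P ≤ stab ρ E := fun y hy => hcommE y fun z hz => hZc z hz y hy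
  have haE : a ∈ stab ρ E := hcommE a hZa
  have hEne : Nontrivial E := ⟨⟨⟨v, hχ⟩, 0, fun h => hv0 (congrArg Subtype.val h)⟩⟩
  let ρP : ↥P →* Module.End L E := (resOn ρ E).comp (inclusion hPE)
  have hρP : ∀ (y : P) (w : E), ((ρP y w : E) : W) = ρ (y : Γ) w := fun y w => rfl
  have hρZ : ∀ y : P, ∀ hy : (y : Γ) ∈ Z, ρP y = χ ⟨y, hy⟩ • 1 := fun y hy =>
    LinearMap.ext fun w => Subtype.ext (by rw [hρP, w.2 ⟨y, hy⟩]; rfl)
  set P0 := ρP.ker with hP0
  let σP : MulAut P := P.normalizerMonoidHom ⟨a, haP⟩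
  have hσ : ∀ y : P, ((σP y : P) : Γ) = a * y * a⁻¹ := fun y => by simp [σP]
  let T : Module.End L E := resOn ρ E ⟨a, haE⟩
  have hTP : ∀ y : P, T * ρP y = ρP (σP y) * T := fun y => LinearMap.ext fun w => Subtype.ext (by
    show ρ a (ρ (y : Γ) w) = ρ (σP y : Γ) (ρ a w)
    rw [hσ, ← rho_mul, ← rho_mul, inv_mul_cancel_right])
  have hker : ∀ y : P, y ∈ P0 ↔ ∀ w ∈ E, ρ (y : Γ) w = w := fun y =>
    ⟨fun h w hw => (hρP y ⟨w, hw⟩).symm.trans (congrArg Subtype.val (LinearMap.congr_fun h ⟨w, hw⟩)),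
      fun h => LinearMap.ext fun w => Subtype.ext ((hρP y w).trans (h w w.2))⟩
  have hconjE : ∀ g ∈ stab ρ E, ∀ k : Γ, (∀ w ∈ E, ρ k w = w) →
      ∀ w ∈ E, ρ (g * k * g⁻¹) w = w := fun g hg k hk w hw => by
    rw [rho_mul, rho_mul, hk _ ((inv_mem hg : g⁻¹ ∈ stab ρ E) w hw), ← rho_mul, mul_inv_cancel,
      rho_one]
  have hP0σ : ∀ y, σP y ∈ P0 ↔ y ∈ P0 := fun y => by
    rw [hker, hker, hσ]
    refine ⟨fun h w hw => ?_, hconjE a haE _⟩
    have h' := hconjE a⁻¹ (inv_mem haE) _ h w hw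
    rwa [show a⁻¹ * (a * (y : Γ) * a⁻¹) * a⁻¹⁻¹ = y by group] at h'
  let σ : MulAut (↥P ⧸ P0) := QuotientGroup.congr P0 P0 σP (by
    ext y
    constructor
    · rintro ⟨x, hx, rfl⟩; exact (hP0σ x).mpr hx
    · intro hy
      exact ⟨σP.symm y, (hP0σ _).mp (by rwa [MulEquiv.apply_symm_apply]), σP.apply_symm_apply y⟩)
  let ρQ : (↥P ⧸ P0) →* Module.End L E := QuotientGroup.lift P0 ρP le_rfl
  have hz0P0 : (⟨z0, hZP hz0⟩ : P) ∉ P0 := fun h => by
    obtain ⟨w, hw0⟩ := exists_ne (0 : E)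
    have h' := LinearMap.congr_fun (show ρP ⟨z0, hZP hz0⟩ = 1 from h) w
    rw [hρZ _ hz0] at h'
    have h'' : (χ ⟨z0, hz0⟩ - 1) • w = 0 := by
      rw [sub_smul, one_smul, sub_eq_zero]; simpa using h'
    exact hχz0 (sub_eq_zero.mp ((smul_eq_zero.mp h'').resolve_right hw0))
  have hcentral : ∀ y : P, (y : Γ) ∈ Z → (QuotientGroup.mk y : (↥P ⧸ P0)) ∈ center (↥P ⧸ P0) := fun y hy => by
    rw [mem_center_iff]
    rintro ⟨x⟩
    show (QuotientGroup.mk (x * y) : (↥P ⧸ P0)) = QuotientGroup.mk (y * x)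
    rw [show x * y = y * x from Subtype.ext (hZc y hy x x.2)]
  set C := ((center (↥P ⧸ P0)).comap (QuotientGroup.mk' P0)).map P.subtype with hC
  have hCP : C ≤ P := map_subtype_le _
  have hCne : C ≠ P := fun h => by
    have hle : Z ≤ P0.map P.subtype := by
      rw [hZ, commutator_le]
      intro x hx y hy
      obtain ⟨x', hx', hxx⟩ := h.ge hx
      refine ⟨⁅x', ⟨y, hy⟩⁆, (QuotientGroup.eq_one_iff _).mp ?_, by simp [← hxx, commutatorElement_def]⟩
      rw [← QuotientGroup.mk'_apply, map_commutatorElement, commutatorElement_eq_one_iff_mul_comm]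
      exact (mem_center_iff.mp hx' _).symm
    obtain ⟨z', hz', he⟩ := hle hz0
    exact hz0P0 ((Subtype.ext he : z' = ⟨z0, hZP hz0⟩) ▸ hz')
  have hCa : A ≤ normalizer (C : Set Γ) := zpowers_le.mpr (by
    have hmap : C.map (MulAut.conj a).toMonoidHom = C := by
      refine eq_of_le_of_card_ge ?_ (card_map_of_injective (MulAut.conj a).injective).ge
      rintro _ ⟨_, ⟨y, hy, rfl⟩, rfl⟩
      refine ⟨σP y, ?_, hσ y⟩
      show (σ (QuotientGroup.mk y : (↥P ⧸ P0))) ∈ center (↥P ⧸ P0)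
      have hy' : (QuotientGroup.mk y : (↥P ⧸ P0)) ∈ center (↥P ⧸ P0) := hy
      rw [mem_center_iff] at hy' ⊢
      intro g
      obtain ⟨g, rfl⟩ := σ.surjective g
      rw [← map_mul, ← map_mul, hy' g]
    rw [mem_normalizer_iff]
    intro x
    constructor
    · exact fun hx => hmap.le ⟨x, hx, rfl⟩
    · intro hx
      obtain ⟨x', hx', he⟩ := hmap.ge hx
      exact (MulAut.conj a).injective he ▸ hx')
  have hCZ : C ≤ Z := fun x hx => hmemZ x (hCP hx)
    (mem_centralizer_iff.mp (commutator_eq_bot_iff_le_centralizer.mp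
      (hmin C (lt_of_le_of_ne hCP hCne) hCa) hx) a (mem_zpowers a))
  have hcZ : ∀ y : P, (QuotientGroup.mk y : (↥P ⧸ P0)) ∈ center (↥P ⧸ P0) → (y : Γ) ∈ Z := fun y hy =>
    hCZ ⟨y, hy, rfl⟩
  have hroot : ∀ z : Z, χ z ^ s = 1 := fun z => by
    rw [← map_pow, show z ^ s = 1 from Subtype.ext (h5 z z.2), map_one]
  have : NeZero s := ⟨hs.out.ne_zero⟩
  have hprim : IsPrimitiveRoot (χ ⟨z0, hz0⟩) s := by
    rw [← orderOf_eq_prime (hroot _) hχz0]
    exact IsPrimitiveRoot.orderOf _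
  have hTw : OddLocal43.TwistedRep ρQ s (QuotientGroup.mk ⟨z0, hZP hz0⟩ : (↥P ⧸ P0)) (χ ⟨z0, hz0⟩) := by
    refine ⟨?_, ?_, ?_, hρZ ⟨z0, hZP hz0⟩ hz0, hprim.eq_orderOf.symm⟩
    · rintro ⟨y⟩
      constructor
      · intro hy
        have hyZ := hcZ y hy
        obtain ⟨i, -, hi⟩ := hprim.eq_pow_of_pow_eq_one (hroot ⟨y, hyZ⟩)
        refine ⟨i, ((zpow_natCast _ i).trans (QuotientGroup.mk_pow P0 _ i).symm).trans ?_⟩
        refine QuotientGroup.eq.mpr (MonoidHom.mem_ker.mpr ?_)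
        rw [map_mul, hρZ y hyZ, ← hi, ← one_pow (M := Module.End L E) i, ← smul_pow,
          ← hρZ ⟨z0, hZP hz0⟩ hz0, ← map_pow, ← map_mul, inv_mul_cancel, map_one, one_pow]
      · exact fun h => (zpowers_le.mpr (hcentral ⟨z0, hZP hz0⟩ hz0)) h
    · rintro ⟨x⟩ ⟨y⟩
      show (QuotientGroup.mk ⁅x, y⁆ : (↥P ⧸ P0)) ∈ _
      exact hcentral _ (commutator_mem_commutator x.2 y.2)
    · refine orderOf_eq_prime ?_ fun h => hz0P0 ((QuotientGroup.eq_one_iff _).mp h)
      rw [← QuotientGroup.mk_pow, show (⟨z0, hZP hz0⟩ : P) ^ s = 1 from Subtype.ext hz0s]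
      rfl
  have hσpow : ∀ (i : ℕ) (y : P), ((σP ^ i) y : Γ) = a ^ i * y * (a ^ i)⁻¹ := by
    intro i
    induction i with
    | zero => simp
    | succ i ih =>
      intro y
      rw [pow_succ', MulAut.mul_apply, hσ, ih, pow_succ']
      group
  have hσp : σ ^ p = 1 := by
    have hb : ∀ (i : ℕ) (y : P), (σ ^ i) (QuotientGroup.mk y) = QuotientGroup.mk ((σP ^ i) y) := by
      intro i
      induction i with
      | zero => simp
      | succ i ih => intro y; rw [pow_succ', pow_succ', MulAut.mul_apply, MulAut.mul_apply, ih]; rfl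
    refine MulEquiv.ext ?_
    rintro ⟨y⟩
    show (σ ^ p) (QuotientGroup.mk y) = QuotientGroup.mk y
    rw [hb]
    congr 1
    exact Subtype.ext (by rw [hσpow, ha]; simp)
  have hσfix : ∀ u : (↥P ⧸ P0), u⁻¹ * σ u ∈ center (↥P ⧸ P0) → u ∈ center (↥P ⧸ P0) := by
    rintro ⟨y⟩ hy
    have hcz : (y⁻¹ * σP y : P).1 ∈ Z := hcZ _ hy
    set c : Γ := (y : Γ)⁻¹ * (a * y * a⁻¹) with hc
    have hcZ' : c ∈ Z := by simpa [hc, hσ] using hcz
    have hac : a * c = c * a := hZa c hcZ'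
    have hpow : ∀ i : ℕ, a ^ i * y * (a ^ i)⁻¹ = y * c ^ i := by
      intro i
      induction i with
      | zero => simp
      | succ i ih =>
        have : Commute a (c ^ i) := (show Commute a c from hac).pow_right i
        calc a ^ (i + 1) * y * (a ^ (i + 1))⁻¹ = a * (a ^ i * y * (a ^ i)⁻¹) * a⁻¹ := by
              rw [pow_succ']; group
          _ = a * y * a⁻¹ * (a * c ^ i * a⁻¹) := by rw [ih]; group
          _ = y * c ^ (i + 1) := by
              have hyc : (y : Γ) * c = a * y * a⁻¹ := by rw [hc]; group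
              rw [this.eq, mul_inv_cancel_right, pow_succ', ← mul_assoc, hyc]
    have h' := hpow p
    rw [ha, one_mul, inv_one, mul_one, left_eq_mul] at h'
    have hc1 : c = 1 := orderOf_eq_one_iff.mp (Nat.eq_one_of_dvd_coprimes
      ((Nat.coprime_primes hs.out hp).mpr hsp) (orderOf_dvd_of_pow_eq_one (h5 c hcZ'))
      (orderOf_dvd_of_pow_eq_one h'))
    refine hcentral y (hmemZ y y.2 ?_)
    have h'' : (y : Γ) = a * y * a⁻¹ := inv_mul_eq_one.mp (hc ▸ hc1)
    conv_rhs => rw [h'']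
    group
  have hTpow : ∀ (i : ℕ) (w : E), (((T ^ i) w : E) : W) = ρ (a ^ i) w := by
    intro i
    induction i with
    | zero => intro w; simp [rho_one]
    | succ i ih => intro w; rw [pow_succ', Module.End.mul_apply, pow_succ', rho_mul, ← ih w]; rfl
  have hTp : T ^ p = 1 := LinearMap.ext fun w => Subtype.ext (by
    rw [hTpow, ha, rho_one]; rfl)
  have hTsum : ∑ i ∈ Finset.range p, T ^ i = 0 := LinearMap.ext fun w => Subtype.ext (by
    rw [LinearMap.sum_apply, Submodule.coe_sum, Finset.sum_congr rfl fun i _ => hTpow i w]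
    exact hU _ (sum_pow_fixed ρ ha _))
  have hQ0 : (Nat.card (↥P ⧸ P0) : L) ≠ 0 := by
    obtain ⟨j, hj⟩ := IsPGroup.iff_card.mp (hP.to_quotient P0)
    rw [hj, Nat.cast_pow]; exact pow_ne_zero j hs0
  have hne : center (↥P ⧸ P0) ≠ ⊤ := fun h => hCne (le_antisymm hCP fun x hx =>
    ⟨⟨x, hx⟩, by show (QuotientGroup.mk' P0 _ : (↥P ⧸ P0)) ∈ center (↥P ⧸ P0); rw [h]; exact mem_top _, rfl⟩)
  obtain ⟨hs2, m, hm, -⟩ := OddLocal43.fermat_prime_of_twistedRep hp hp0 hQ0 hTw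
    (hP.to_quotient P0) hne σ hσp hσfix T hTp (by rintro ⟨y⟩; exact hTP y) hTsum
  refine hZb (le_bot_iff.mp ?_)
  rw [hZ, commutator_le]
  intro x hx y hy
  rw [mem_bot, commutatorElement_eq_one_iff_mul_comm]
  exact hexc hs2 ⟨m, hm⟩ x hx y hy

/-- **Hall–Higman–Shult**: an element `a` of prime order `p` without fixed vectors on an invariant
submodule `U` centralizes there every `a`-invariant `s`-group, apart from the Fermat case. -/
theorem commutator_fixed [Finite Γ] [IsAlgClosed L] [FiniteDimensional L W]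
    (ρ : Γ →* Module.End L W) {s p : ℕ} [hs : Fact s.Prime]
    (hp : p.Prime) (hsp : s ≠ p) (hs0 : (s : L) ≠ 0) (hp0 : (p : L) ≠ 0) (a : Γ) (ha : a ^ p = 1)
    (P : Subgroup Γ) (hP : IsPGroup s P) (haP : a ∈ normalizer (P : Set Γ))
    (U : Submodule L W) (hUP : ∀ x ∈ P, ∀ w ∈ U, ρ x w ∈ U) (hUa : ∀ w ∈ U, ρ a w ∈ U)
    (hU : ∀ w ∈ U, ρ a w = w → w = 0)
    (hexc : s = 2 → (∃ m, p = 2 ^ m + 1) → ∀ x ∈ P, ∀ y ∈ P, x * y = y * x)
    {x : Γ} (hx : x ∈ P) {w : W} (hw : w ∈ U) : ρ ⁅x, a⁆ w = w := by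
  have hPS : P ≤ stab ρ U := fun y hy => hUP y hy
  have haS : a ∈ stab ρ U := hUa
  set φ := resOn ρ U with hφ
  set π := QuotientGroup.mk' φ.ker
  set kl : stab ρ U ⧸ φ.ker →* Module.End L U := QuotientGroup.lift φ.ker φ le_rfl with hkldef
  have hkl : ∀ g, kl (π g) = φ g := fun g => QuotientGroup.lift_mk' φ.ker le_rfl g
  have hklinj : Function.Injective kl := fun x y h => by
    obtain ⟨g, rfl⟩ := QuotientGroup.mk'_surjective φ.ker x
    obtain ⟨k, rfl⟩ := QuotientGroup.mk'_surjective φ.ker y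
    rw [hkl, hkl] at h
    refine QuotientGroup.eq.mpr (MonoidHom.mem_ker.mpr ?_)
    rw [map_mul, ← h, ← map_mul, inv_mul_cancel, map_one]
  have haP' : (π ⟨a, haS⟩) ∈ normalizer (((P.subgroupOf (stab ρ U)).map π : Subgroup _) : Set _) :=
    le_normalizer_map π ⟨⟨a, haS⟩, mem_normalizer_iff.mpr fun y => by
      simp only [mem_subgroupOf]
      exact mem_normalizer_iff.mp haP (y : Γ), rfl⟩
  have key := commutator_eq_bot_of_injective kl hklinj hp hsp hs0 hp0 (π ⟨a, haS⟩)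
    (by rw [← map_pow, show (⟨a, haS⟩ : stab ρ U) ^ p = 1 from Subtype.ext ha, map_one])
    (fun u hu => Subtype.ext (hU u u.2 (congrArg Subtype.val ((hkl ⟨a, haS⟩).symm ▸ hu))))
    ((P.subgroupOf (stab ρ U)).map π)
    ((hP.of_equiv (subgroupOfEquivOfLe hPS).symm).map π) haP'
    (by
      rintro h1 h2 _ ⟨y, hy, rfl⟩ _ ⟨y', hy', rfl⟩
      rw [← map_mul, ← map_mul]
      exact congrArg π (Subtype.ext (hexc h1 h2 y hy y' hy')))
  have hmem : π ⁅(⟨x, hPS hx⟩ : stab ρ U), ⟨a, haS⟩⁆ = 1 := by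
    rw [map_commutatorElement, ← mem_bot, ← key]
    exact commutator_mem_commutator ⟨_, hx, rfl⟩ (mem_zpowers _)
  have h := congrArg (fun f : Module.End L U => ((f ⟨w, hw⟩ : U) : W))
    ((hkl _).symm.trans ((congrArg kl hmem).trans (map_one _)))
  exact h

/-- Group form of `commutator_fixed`. -/
theorem map_commutator_eq_one [Finite Γ] {ℓ s p : ℕ} [Fact ℓ.Prime] [hs : Fact s.Prime]
    (hp : p.Prime) (hsp : s ≠ p) (hℓs : ℓ ≠ s) (hℓp : ℓ ≠ p) {V : Type*} [Group V] [Finite V]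
    (hc : ∀ a b : V, a * b = b * a) (he : ∀ v : V, v ^ ℓ = 1) (φ : Γ →* MulAut V) (a : Γ)
    (ha : a ^ p = 1) (hfix : ∀ v, φ a v = v → v = 1) (P : Subgroup Γ) (hP : IsPGroup s P)
    (haP : a ∈ normalizer (P : Set Γ))
    (hexc : s = 2 → (∃ m, p = 2 ^ m + 1) → ∀ x ∈ P, ∀ y ∈ P, x * y = y * x)
    {x : Γ} (hx : x ∈ P) : φ ⁅x, a⁆ = 1 := by
  obtain ⟨d, e, heinj, hsum⟩ := exists_linearization (ℓ := ℓ) V hc he
  have hcast : ∀ n : ℕ, n.Prime → ℓ ≠ n → (n : AlgebraicClosure (ZMod ℓ)) ≠ 0 := fun n hn hne h =>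
    hne ((Nat.prime_dvd_prime_iff_eq Fact.out hn).mp
      ((CharP.cast_eq_zero_iff (AlgebraicClosure (ZMod ℓ)) ℓ n).mp h))
  set A := zpowers (φ a)
  cases nonempty_fintype A
  have hU : ∀ w, (e.comp φ) a w = w → w = 0 := by
    intro w hw
    have h0 := hsum A fun v hv => hfix v (hv _ (mem_zpowers _))
    have hall : ∀ b : A, e (b : MulAut V) w = w := fun b => by
      obtain ⟨n, hn⟩ := mem_powers_iff_mem_zpowers.mpr b.2
      rw [← hn]
      clear hn
      induction n with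
      | zero => simp
      | succ n ih =>
        show e ((φ a) ^ (n + 1)) w = w
        rw [pow_succ, map_mul, Module.End.mul_apply]
        show e ((φ a) ^ n) ((e.comp φ) a w) = w
        rw [hw]
        exact ih
    have h1 := LinearMap.congr_fun h0 w
    rw [LinearMap.sum_apply, Finset.sum_congr rfl fun b _ => hall b, Finset.sum_const,
      Finset.card_univ, ← Nat.card_eq_fintype_card, ← Nat.cast_smul_eq_nsmul (AlgebraicClosure (ZMod ℓ)),
      LinearMap.zero_apply] at h1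
    refine (smul_eq_zero.mp h1).resolve_left ?_
    have hd : Nat.card A ∣ p := by
      rw [Nat.card_zpowers]; exact orderOf_dvd_of_pow_eq_one (by rw [← map_pow, ha, map_one])
    rcases (Nat.dvd_prime hp).mp hd with h | h <;> rw [h]
    · simp
    · exact hcast p hp hℓp
  refine heinj ((LinearMap.ext fun w => ?_).trans (map_one e).symm)
  exact commutator_fixed (e.comp φ) hp hsp (hcast s hs.out hℓs) (hcast p hp hℓp) a ha P hP haP ⊤
    (fun _ _ _ _ => trivial) (fun _ _ => trivial) (fun w _ => hU w) hexc hx trivial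

end Cfsg.Agent.LinAct
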