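import Cfsg.Agent.Lib.Coprime.FPFSetup
import Cfsg.Agent.Lib.Fitting

/-!
The fixed points of `f` on a minimal pair, and the case where `f` moves every vector of `T`.
-/

set_option autoImplicit false

namespace Cfsg.Agent.FPF

open scoped commutatorElement
open Subgroup Cfsg.Agent.LinAct

variable {Γ : Type*} [Group Γ] [Finite Γ] {L : Type*} [Field L] {W : Type*} [AddCommGroup W]
  [Module L W]

/-- The elements of `S` fixing the vectors `ρ z w - w` for `z` in `N`. -/
def killer (ρ : Γ →* Module.End L W) (S N : Subgroup Γ) : Subgroup Γ where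
  carrier := {x | x ∈ S ∧ ∀ z ∈ N, ∀ w, ρ x (ρ z w - w) = ρ z w - w}
  one_mem' := ⟨one_mem _, fun z _ w => rho_one ρ _⟩
  mul_mem' := fun {a b} ha hb => ⟨mul_mem ha.1 hb.1, fun z hz w => by
    rw [rho_mul, hb.2 z hz w, ha.2 z hz w]⟩
  inv_mem' := fun {a} ha => ⟨inv_mem ha.1, fun z hz w => by
    conv_lhs => rw [← ha.2 z hz w]
    exact rho_inv_apply ρ a _⟩

theorem normalizer_le_killer (ρ : Γ →* Module.End L W) {S N : Subgroup Γ} {g : Γ}
    (hS : g ∈ normalizer (S : Set Γ)) (hN : g ∈ normalizer (N : Set Γ)) :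
    g ∈ normalizer (killer ρ S N : Set Γ) := by
  have key : ∀ g : Γ, g ∈ normalizer (S : Set Γ) → g ∈ normalizer (N : Set Γ) →
      ∀ x ∈ killer ρ S N, g * x * g⁻¹ ∈ killer ρ S N := by
    intro g hgS hgN x hx
    refine ⟨Coprime.conj_mem_of_mem_normalizer hgS hx.1, fun z hz w => ?_⟩
    set u := ρ g⁻¹ w
    have e : ρ g (ρ (g⁻¹ * z * g) u - u) = ρ z w - w := by
      rw [map_sub, ← rho_mul, show g * (g⁻¹ * z * g) = z * g by group, rho_mul]
      have hgu : ρ g (ρ g⁻¹ w) = w := by rw [← rho_mul, mul_inv_cancel, rho_one]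
      rw [hgu]
    rw [rho_mul, rho_mul, show ρ g⁻¹ (ρ z w - w) = ρ (g⁻¹ * z * g) u - u by
        rw [← e, rho_inv_apply],
      hx.2 (g⁻¹ * z * g) (Coprime.conj_mem_of_mem_normalizer' hgN hz) u, e]
  exact Coprime.mem_normalizer_of_le_iff (key g hS hN) fun x hx => by
    simpa using key g⁻¹ (inv_mem hS) (inv_mem hN) x hx

variable {ρ : Γ →* Module.End L W} {s t p q : ℕ} {S T : Subgroup Γ} {f h : Γ}

namespace Setup

variable (D : Setup ρ s t p q S T f h)

include D

/-- The fixed points of `f` on `S`, as a subgroup normalized by `f` and `h`. -/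
theorem fix_normalizer {g : Γ} (hgS : g ∈ normalizer (S : Set Γ))
    (hgF : g ∈ normalizer ((zpowers f : Subgroup Γ) : Set Γ)) :
    g ∈ normalizer ((S ⊓ centralizer ((zpowers f : Subgroup Γ) : Set Γ) : Subgroup Γ) : Set Γ) :=
  Coprime.le_normalizer_inf (A := zpowers g) (zpowers_le.mpr hgS)
    (Coprime.le_normalizer_centralizer (zpowers_le.mpr hgF)) (mem_zpowers g)

theorem card_cast {H : Subgroup Γ} (hH : H ≤ S) : (Nat.card H : L) ≠ 0 := by
  have := Fact.mk D.hs
  obtain ⟨k, hk⟩ := IsPGroup.iff_card.mp (D.hS.to_le hH)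
  rw [hk, Nat.cast_pow]
  exact pow_ne_zero k D.hs0

/-- The fixed points of `f` on `S` fix the vectors fixed by `f`. -/
theorem fix_fixed {y : Γ} (hy : y ∈ S) (hfy : f * y = y * f) {w : W} (hw : ρ f w = w) :
    ρ y w = w := by
  set K := S ⊓ centralizer ((zpowers f : Subgroup Γ) : Set Γ) with hK
  let U : Submodule L W :=
    { carrier := {u | ρ f u = u}
      zero_mem' := map_zero _
      add_mem' := fun {a b} ha hb => by
        show ρ f (a + b) = a + b
        rw [map_add, ha, hb]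
      smul_mem' := fun c a ha => by
        show ρ f (c • a) = c • a
        rw [map_smul, ha] }
  refine trivial_of_fpf ρ K h D.hq D.hh (D.fix_normalizer D.hhS D.h_mem_normalizer_F)
    (fun x hx hxh => D.fixS x hx.1 (mem_centralizer_zpowers.mp hx.2) hxh)
    (D.card_cast inf_le_left) U ?_ ?_ (fun u hu hhu => D.fixW u hu hhu)
    (x := y) ⟨hy, mem_centralizer_zpowers.mpr hfy⟩ hw
  · intro x hx u hu
    show ρ f (ρ x u) = ρ x u
    rw [← rho_mul, mem_centralizer_zpowers.mp hx.2, rho_mul, show ρ f u = u from hu]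
  · intro u hu
    show ρ f (ρ h u) = ρ h u
    obtain ⟨k, hk⟩ := mem_powers_iff_mem_zpowers.mpr
      (Coprime.conj_mem_of_mem_normalizer' D.h_mem_normalizer_F (mem_zpowers f))
    have hpow : ∀ i : ℕ, ρ (f ^ i) u = u := by
      intro i
      induction i with
      | zero => rw [pow_zero]; exact rho_one ρ u
      | succ i ih => rw [pow_succ, rho_mul, show ρ f u = u from hu, ih]
    rw [← rho_mul, show f * h = h * (h⁻¹ * f * h) by group, rho_mul, ← hk, hpow]

/-- `f` does not centralize `S`. -/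
theorem not_f_central (hSf : ∀ x ∈ S, f * x = x * f) : False := by
  have := Fact.mk D.ht
  have hTF : ⁅T, zpowers f⁆ ≤ T := Coprime.commutator_le_of_le_normalizer (zpowers_le.mpr D.hfT)
  by_cases hTc : ∀ x ∈ T, f * x = x * f
  · refine D.no_operator D.hq D.hsq D.htq D.hh D.hhS D.hhT (fun y hy hy' => ?_)
      (Or.inl fun x hx hx' => D.fixT x hx (hTc x hx) hx')
    rw [D.fixS y hy (hSf y hy) hy']
    exact one_mem _
  · have hSF : ⁅S, zpowers f⁆ = ⊥ := commutator_eq_bot_iff_le_centralizer.mpr fun x hx =>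
      mem_centralizer_zpowers.mpr (hSf x hx)
    have h1 : ⁅⁅S, T⁆, zpowers f⁆ = ⊥ := by rw [D.structureS.1, hSF]
    have h2 : ⁅⁅zpowers f, S⁆, T⁆ = ⊥ := by
      rw [commutator_comm (zpowers f) S, hSF, commutator_bot_left]
    have h3 : ⁅⁅T, zpowers f⁆, S⁆ = ⊥ := commutator_commutator_eq_bot_of_rotate h2 h1
    set C := T ⊓ centralizer ((zpowers f : Subgroup Γ) : Set Γ)
    have hCne : C ≠ T := fun he => hTc fun x hx => mem_centralizer_zpowers.mp (he.ge hx).2
    have hCf : f ∈ normalizer (C : Set Γ) :=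
      Coprime.le_normalizer_inf (A := zpowers f) (zpowers_le.mpr D.hfT)
        (Coprime.le_normalizer_centralizer le_normalizer) (mem_zpowers f)
    have hCh : h ∈ normalizer (C : Set Γ) :=
      Coprime.le_normalizer_inf (A := zpowers h) (zpowers_le.mpr D.hhT)
        (Coprime.le_normalizer_centralizer (zpowers_le.mpr D.h_mem_normalizer_F)) (mem_zpowers h)
    have h4 := D.hTmin C (lt_of_le_of_ne inf_le_left hCne) hCf hCh
    obtain ⟨k, hk⟩ := IsPGroup.iff_card.mp D.hT
    have hT' := Coprime.commutator_sup_centralizer (zpowers f) T (zpowers_le.mpr D.hfT)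
      (by
        rw [hk, Nat.card_zpowers, D.orderOf_f]
        exact ((Nat.coprime_primes D.hp D.ht).mpr (Ne.symm D.htp)).pow_right k)
      (Or.inr (Coprime.isSolvable_of_isNilpotent' D.hT.isNilpotent))
    refine D.hnt (commutator_eq_bot_iff_le_centralizer.mpr (le_centralizer_iff.mp ?_))
    rw [← hT']
    exact sup_le (commutator_eq_bot_iff_le_centralizer.mp h3)
      (commutator_eq_bot_iff_le_centralizer.mp (by rw [commutator_comm]; exact h4))

/-- Either `f` centralizes `T`, or `⁅T, f⁆ = T` and the fixed points of `f` on `T` centralize `S`. -/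
theorem dichotomy : (∀ x ∈ T, f * x = x * f) ∨
    (⁅T, zpowers f⁆ = T ∧ ∀ x ∈ T, f * x = x * f → ∀ y ∈ S, x * y = y * x) := by
  have := Fact.mk D.ht
  refine or_iff_not_imp_left.mpr fun hTc => ?_
  set C := T ⊓ centralizer ((zpowers f : Subgroup Γ) : Set Γ) with hC
  have hCne : C ≠ T := fun he => hTc fun x hx => mem_centralizer_zpowers.mp (he.ge hx).2
  have hCh : h ∈ normalizer (C : Set Γ) :=
    Coprime.le_normalizer_inf (A := zpowers h) (zpowers_le.mpr D.hhT)
      (Coprime.le_normalizer_centralizer (zpowers_le.mpr D.h_mem_normalizer_F)) (mem_zpowers h)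
  have hCf : f ∈ normalizer (C : Set Γ) :=
    Coprime.le_normalizer_inf (A := zpowers f) (zpowers_le.mpr D.hfT)
      (Coprime.le_normalizer_centralizer le_normalizer) (mem_zpowers f)
  have h4 := D.hTmin C (lt_of_le_of_ne inf_le_left hCne) hCf hCh
  refine ⟨?_, fun x hx hfx y hy =>
    (mem_centralizer_iff.mp (commutator_eq_bot_iff_le_centralizer.mp h4 hy) x
      ⟨hx, mem_centralizer_zpowers.mpr hfx⟩)⟩
  by_contra hne
  have hlt : ⁅T, zpowers f⁆ < T := lt_of_le_of_ne
    (Coprime.commutator_le_of_le_normalizer (zpowers_le.mpr D.hfT)) hne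
  have h5 := D.hTmin _ hlt (mem_normalizer_bracket D.hfT (le_normalizer (mem_zpowers f)))
    (mem_normalizer_bracket D.hhT D.h_mem_normalizer_F)
  obtain ⟨k, hk⟩ := IsPGroup.iff_card.mp D.hT
  have hT' := Coprime.commutator_sup_centralizer (zpowers f) T (zpowers_le.mpr D.hfT)
    (by
      rw [hk, Nat.card_zpowers, D.orderOf_f]
      exact ((Nat.coprime_primes D.hp D.ht).mpr (Ne.symm D.htp)).pow_right k)
    (Or.inr (Coprime.isSolvable_of_isNilpotent' D.hT.isNilpotent))
  refine D.hnt (commutator_eq_bot_iff_le_centralizer.mpr (le_centralizer_iff.mp ?_))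
  rw [← hT']
  exact sup_le (le_centralizer_iff.mp (commutator_eq_bot_iff_le_centralizer.mp h5))
    (le_centralizer_iff.mp (commutator_eq_bot_iff_le_centralizer.mp h4))

variable [IsAlgClosed L] [FiniteDimensional L W]

/-- If `f` has no fixed vector on the range of `ρ z - 1`, commutators with `f` fix that range. -/
theorem bracket_fixed {P : Subgroup Γ} (hP : P ≤ S) (hfP : f ∈ normalizer (P : Set Γ)) {z : Γ}
    (hzP : ∀ x ∈ P, x * z = z * x) (hfz : f * z = z * f) (hzS : z ∈ S)
    {x : Γ} (hx : x ∈ ⁅P, zpowers f⁆) (w : W) : ρ x (ρ z w - w) = ρ z w - w := by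
  have := Fact.mk D.hs
  set U := LinearMap.range (ρ z - 1) with hU
  have hinv : ∀ g : Γ, g * z = z * g → ∀ u ∈ U, ρ g u ∈ U := by
    rintro g hg _ ⟨u, rfl⟩
    exact ⟨ρ g u, by simp only [LinearMap.sub_apply, Module.End.one_apply, map_sub, ← rho_mul, hg]⟩
  obtain ⟨n, hn⟩ := D.hS ⟨z, hzS⟩
  have hzn : z ^ (s ^ n) = 1 := congrArg Subtype.val hn
  have hnofix : ∀ u ∈ U, ρ f u = u → u = 0 := by
    rintro _ ⟨u, rfl⟩ hu
    exact eq_zero_of_range ρ hzn (by rw [Nat.cast_pow]; exact pow_ne_zero n D.hs0)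
      (D.fix_fixed hzS hfz hu) (u := u) (by simp)
  let K : Subgroup Γ :=
    { carrier := {g | ∀ u ∈ U, ρ g u = u}
      one_mem' := fun u _ => rho_one ρ u
      mul_mem' := fun {a b} ha hb u hu => by rw [rho_mul, hb u hu, ha u hu]
      inv_mem' := fun {a} ha u hu => by
        conv_lhs => rw [← ha u hu]
        exact rho_inv_apply ρ a _ }
  have hle : ⁅P, zpowers f⁆ ≤ K := by
    rw [commutator_le]
    intro y hy b hb u hu
    obtain ⟨i, rfl⟩ := mem_powers_iff_mem_zpowers.mpr hb
    have hbase : ∀ y ∈ P, ∀ u ∈ U, ρ y (ρ f u) = ρ f (ρ y u) := by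
      intro y hy u hu
      have hc := commutator_fixed ρ (p := p) D.hp D.hsp D.hs0 D.hp0 f D.hf P (D.hS.to_le hP) hfP U
        (fun x hx => hinv x (hzP x hx)) (hinv f hfz) hnofix
        (fun h1 h2 => absurd h2 (D.exc_f D.hsq h1)) hy
        (w := ρ f (ρ y u)) (hinv f hfz _ (hinv y (hzP y hy) u hu))
      simp only [← rho_mul, commutatorElement_def] at hc
      simp only [← rho_mul]
      rw [← hc]
      congr 2
      group
    have hpow : ∀ (i : ℕ) (u : W), u ∈ U → ρ y (ρ (f ^ i) u) = ρ (f ^ i) (ρ y u) := by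
      intro i
      induction i with
      | zero => intro u _; rw [pow_zero, rho_one, rho_one]
      | succ i ih =>
        intro u hu
        rw [pow_succ, rho_mul, rho_mul, ih _ (hinv f hfz u hu), hbase y hy u hu]
    have hfi : ∀ i : ℕ, ∀ u ∈ U, ρ (f ^ i) u ∈ U := by
      intro i
      exact hinv _ ((Commute.pow_left (show Commute f z from hfz) i).eq)
    have hu' : ρ (f ^ i)⁻¹ u ∈ U := hinv _ ((Commute.inv_left
      (Commute.pow_left (show Commute f z from hfz) i)).eq) u hu
    have hyi : ρ y⁻¹ u ∈ U := hinv _ ((Commute.inv_left (show Commute y z from hzP y hy)).eq) u hu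
    show ρ ⁅y, f ^ i⁆ u = u
    rw [commutatorElement_def, rho_mul, rho_mul, rho_mul]
    have h2 : ρ y⁻¹ (ρ (f ^ i)⁻¹ u) ∈ U :=
      hinv _ ((Commute.inv_left (show Commute y z from hzP y hy)).eq) _ hu'
    rw [hpow i _ h2, ← rho_mul ρ y y⁻¹, mul_inv_cancel, rho_one, ← rho_mul, mul_inv_cancel, rho_one]
  exact hle hx _ ⟨w, by simp⟩

/-- The fixed points of `f` meet the derived group trivially. -/
theorem fix_Z {z : Γ} (hz : z ∈ ⁅S, S⁆) (hfz : f * z = z * f) : z = 1 := by
  have := Fact.mk D.hs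
  set K := S ⊓ centralizer ((zpowers f : Subgroup Γ) : Set Γ) with hK
  set Z := ⁅S, S⁆ with hZ
  set ZF := Z ⊓ centralizer ((zpowers f : Subgroup Γ) : Set Γ) with hZF
  have hZFn : ∀ g : Γ, g ∈ normalizer (S : Set Γ) →
      (g ∈ normalizer ((zpowers f : Subgroup Γ) : Set Γ) ∨ ∀ z ∈ Z, g * z = z * g) →
      g ∈ normalizer (ZF : Set Γ) := by
    rintro g hgS (hgF | hgc)
    · exact Coprime.le_normalizer_inf (A := zpowers g)
        (zpowers_le.mpr (mem_normalizer_bracket hgS hgS))
        (Coprime.le_normalizer_centralizer (zpowers_le.mpr hgF)) (mem_zpowers g)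
    · exact Coprime.mem_normalizer_of_le_iff
        (fun y hy => by rwa [hgc y hy.1, mul_inv_cancel_right])
        (fun y hy => by rwa [mul_assoc, ← hgc y hy.1, inv_mul_cancel_left])
  set N := killer ρ S ZF with hN
  have hbr : ⁅S, zpowers f⁆ ≤ N := fun x hx =>
    ⟨Coprime.commutator_le_of_le_normalizer (zpowers_le.mpr D.hfS) hx, fun z hz w =>
      D.bracket_fixed le_rfl D.hfS (fun y hy => D.Z_comm hz.1 hy)
        (mem_centralizer_zpowers.mp hz.2) (D.Z_le hz.1) hx w⟩
  have hTN : T ≤ normalizer (N : Set Γ) := fun x hx => normalizer_le_killer ρ (D.hTS hx)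
    (hZFn x (D.hTS hx) (Or.inr fun z hz => D.Z_T hz hx))
  rcases D.irr (N := N) (fun x hx => hx.1) hTN
    (normalizer_le_killer ρ D.hfS (hZFn f D.hfS (Or.inl (le_normalizer (mem_zpowers f)))))
    (normalizer_le_killer ρ D.hhS (hZFn h D.hhS (Or.inl D.h_mem_normalizer_F))) with hN' | hN'
  · have hzN : z ∈ N := hN'.ge (D.Z_le hz)
    refine D.hinj z (D.Z_le hz) (LinearMap.ext fun w => ?_)
    have hfix := hzN.2 z ⟨hz, mem_centralizer_zpowers.mpr hfz⟩ w
    exact sub_eq_zero.mp (eq_zero_of_range ρ (D.exp_Z hz) D.hs0 hfix rfl)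
  · refine (D.not_f_central fun x hx => ?_).elim
    obtain ⟨k, hk⟩ := IsPGroup.iff_card.mp D.hS
    have hS' := Coprime.commutator_sup_centralizer (zpowers f) S (zpowers_le.mpr D.hfS)
      (by
        rw [hk, Nat.card_zpowers, D.orderOf_f]
        exact ((Nat.coprime_primes D.hp D.hs).mpr (Ne.symm D.hsp)).pow_right k)
      (Or.inr (Coprime.isSolvable_of_isNilpotent' D.hS.isNilpotent))
    have htop : K ⊔ OddLocal43.frattiniOf S = S := by
      rw [D.structureS.2.1]
      refine le_antisymm (sup_le inf_le_left D.Z_le) (hS'.ge.trans ?_)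
      exact sup_le ((hbr.trans hN').trans le_sup_right) le_sup_left
    have hKtop : K.subgroupOf S = ⊤ := Fitting.eq_top_of_sup_eq_top_of_le_frattini le_rfl (by
      apply map_injective S.subtype_injective
      rw [Subgroup.map_sup, subgroupOf_map_subtype, ← MonoidHom.range_eq_map, range_subtype,
        inf_of_le_left inf_le_left]
      exact htop)
    exact mem_centralizer_zpowers.mp (subgroupOf_eq_top.mp hKtop hx).2

end Setup

end Cfsg.Agent.FPF
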