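import Cfsg.Agent.Lib.Coprime.FPFMoving
import Cfsg.Agent.Lib.Coprime.FPFFermat

/-!
There is no minimal configuration for a fixed-point-free group of order `p q`.
-/

set_option autoImplicit false

namespace Cfsg.Agent.FPF.Setup

open scoped commutatorElement
open Subgroup Cfsg.Agent.LinAct

variable {Γ : Type*} [Group Γ] [Finite Γ] {L : Type*} [Field L] {W : Type*}
  [AddCommGroup W] [Module L W] {ρ : Γ →* Module.End L W} {s t p q : ℕ} {S T : Subgroup Γ}
  {f h : Γ} (D : Setup ρ s t p q S T f h)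

include D

theorem eq_zpowers_of_mem {g : Γ} (hg : g ∈ zpowers f) (hg1 : g ≠ 1) : zpowers g = zpowers f := by
  have := Fact.mk D.hp
  have hgo : orderOf g = p := by
    refine ((Nat.dvd_prime D.hp).mp ?_).resolve_left (mt orderOf_eq_one_iff.mp hg1)
    rw [← D.orderOf_f]
    exact orderOf_dvd_of_mem_zpowers hg
  exact eq_of_le_of_card_ge (zpowers_le.mpr hg)
    (by rw [Nat.card_zpowers, Nat.card_zpowers, hgo, D.orderOf_f])

/-- The cosets of `⟨f⟩` in `⟨f, h⟩`. -/
theorem mul_pow_mem (k : Γ) (hk : k ∈ zpowers f) (i m : ℕ) :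
    (h ^ i)⁻¹ * h ^ i = 1 ∧ (h ^ (i * m))⁻¹ * (h ^ i * k) ^ m ∈ zpowers f := by
  refine ⟨inv_mul_cancel _, ?_⟩
  induction m with
  | zero => simpa using one_mem (zpowers f)
  | succ m ih =>
    have hn : h ^ i ∈ normalizer ((zpowers f : Subgroup Γ) : Set Γ) :=
      pow_mem D.h_mem_normalizer_F i
    rw [show (h ^ (i * (m + 1)))⁻¹ * (h ^ i * k) ^ (m + 1) =
        (h ^ i)⁻¹ * ((h ^ (i * m))⁻¹ * (h ^ i * k) ^ m) * h ^ i * k by
      rw [pow_succ, mul_add, mul_one, pow_add]; group]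
    exact mul_mem (Coprime.conj_mem_of_mem_normalizer' hn ih) hk

variable [IsAlgClosed L] [FiniteDimensional L W]

/-- Every weight nontrivial on a subgroup without `f`-fixed points is fixed by an element
`h f^k` of order `q`. -/
theorem exists_stab {Z1 : Subgroup Γ} (hZ1 : Z1 ≤ S) (hfZ : f ∈ normalizer (Z1 : Set Γ))
    (hhZ : h ∈ normalizer (Z1 : Set Γ))
    (hc : ∀ a ∈ Z1, ∀ b ∈ Z1, a * b = b * a)
    (hfree : ∀ x ∈ Z1, f * x = x * f → x = 1) {χ : Γ → L} {v : W} (hv : v ∈ wspace ρ Z1 χ)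
    (hv0 : v ≠ 0) {z : Γ} (hz : z ∈ Z1) (hχz : χ z ≠ 1) :
    zpowers f ⊓ wstab Z1 χ = ⊥ ∧
      ∃ k ∈ zpowers f, h * k ∈ wstab Z1 χ ∧ (h * k) ^ q = 1 := by
  classical
  have hfree' : zpowers f ⊓ wstab Z1 χ = ⊥ := by
    by_contra hne'
    obtain ⟨g0, hg0, hg01⟩ := (bot_or_exists_ne_one _).resolve_left hne'
    have hfw : f ∈ wstab Z1 χ := zpowers_le.mpr hg0.2
      ((D.eq_zpowers_of_mem hg0.1 hg01).ge (mem_zpowers f))
    let g : Z1 → Z1 := fun c => ⟨f⁻¹ * c * f * (c : Γ)⁻¹,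
      mul_mem (Coprime.conj_mem_of_mem_normalizer' hfZ c.2) (inv_mem c.2)⟩
    have hg : Function.Injective g := by
      intro c d hcd
      have h' : f⁻¹ * c * f * (c : Γ)⁻¹ = f⁻¹ * d * f * (d : Γ)⁻¹ := congrArg Subtype.val hcd
      have hdd : ((d : Γ)⁻¹ * c) ∈ Z1 := mul_mem (inv_mem d.2) c.2
      refine Subtype.ext (inv_mul_eq_one.mp (hfree _ hdd ?_)).symm
      have e : f⁻¹ * ((d : Γ)⁻¹ * c) * f = (d : Γ)⁻¹ * c :=
        calc f⁻¹ * ((d : Γ)⁻¹ * c) * f
            = (d : Γ)⁻¹ * (f⁻¹ * d * f * (d : Γ)⁻¹)⁻¹ * (f⁻¹ * c * f * (c : Γ)⁻¹) * c := by group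
          _ = (d : Γ)⁻¹ * c := by rw [h']; group
      calc f * ((d : Γ)⁻¹ * c) = f * (f⁻¹ * ((d : Γ)⁻¹ * c) * f) := by rw [e]
        _ = (d : Γ)⁻¹ * c * f := by group
    obtain ⟨c, hcz⟩ := (Finite.injective_iff_bijective.mp hg).2 ⟨z, hz⟩
    have hcm : f⁻¹ * c * f = z * c := by
      rw [show z = f⁻¹ * c * f * (c : Γ)⁻¹ from (congrArg Subtype.val hcz).symm]; group
    have h1 := hfw.2 c c.2
    rw [hcm, weight_mul ρ hv hv0 hz c.2, mul_eq_right₀] at h1
    · exact hχz h1
    · intro h0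
      exact hv0 (by
        have h1' : ρ (c : Γ)⁻¹ (ρ c v) = v := rho_inv_apply ρ _ _
        rwa [hv c c.2, h0, zero_smul, map_zero, eq_comm] at h1')
  refine ⟨hfree', ?_⟩
  obtain ⟨j, hj0, hjq, k, hk, hjk⟩ : ∃ j, j ≠ 0 ∧ j < q ∧
      ∃ k ∈ zpowers f, h ^ j * k ∈ wstab Z1 χ := by
    by_contra hno
    cases nonempty_fintype (zpowers f)
    cases nonempty_fintype Z1
    set w := ∑ g : zpowers f, ρ (g : Γ) v with hw
    set u := ∑ j ∈ Finset.range q, ρ (h ^ j) w with hu
    have hwf : ∀ c ∈ zpowers f, ρ c w = w := fun c hc' =>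
      sum_subgroup_fixed ρ (zpowers f) v (Or.inl hc')
    have hu0 : u = 0 := by
      refine D.fixW u ?_ (sum_pow_fixed ρ D.hh w)
      rw [hu, map_sum]
      refine Finset.sum_congr rfl fun j _ => ?_
      rw [← rho_mul, show f * h ^ j = h ^ j * ((h ^ j)⁻¹ * f * h ^ j) by group, rho_mul,
        hwf _ (Coprime.conj_mem_of_mem_normalizer' (pow_mem D.h_mem_normalizer_F j) (mem_zpowers f))]
    have hsum : ∑ x ∈ Finset.range q ×ˢ (Finset.univ : Finset (zpowers f)),
        ρ (h ^ x.1 * (x.2 : Γ)) v = u := by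
      rw [hu, Finset.sum_product]
      refine Finset.sum_congr rfl fun j _ => ?_
      rw [hw, map_sum]
      exact Finset.sum_congr rfl fun c _ => rho_mul ρ _ _ v
    have hp' := wproj_sum ρ Z1 hv hv0 (Finset.range q ×ˢ (Finset.univ : Finset (zpowers f)))
      (fun x : ℕ × zpowers f => h ^ x.1 * (x.2 : Γ))
      (fun x _ => mul_mem (pow_mem hhZ x.1) (zpowers_le.mpr hfZ x.2.2))
    rw [hsum, hu0, map_zero, Finset.sum_filter, Finset.sum_eq_single ((0, 1) : ℕ × zpowers f)]
      at hp'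
    · rw [if_pos (by simpa using one_mem (wstab Z1 χ)), pow_zero, OneMemClass.coe_one, one_mul,
        rho_one] at hp'
      exact hv0 ((smul_eq_zero.mp hp'.symm).resolve_left (D.card_cast hZ1))
    · rintro ⟨j, c⟩ hx hne
      refine if_neg fun hm => ?_
      rcases Nat.eq_zero_or_pos j with rfl | hj
      · simp only [pow_zero, one_mul] at hm
        have h1 : (c : Γ) ∈ zpowers f ⊓ wstab Z1 χ := ⟨c.2, hm⟩
        rw [hfree', mem_bot] at h1
        exact hne (Prod.ext rfl (Subtype.ext h1))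
      · exact hno ⟨j, hj.ne', Finset.mem_range.mp (Finset.mem_product.mp hx).1, c, c.2, hm⟩
    · intro h0
      exact absurd (Finset.mem_product.mpr
        ⟨Finset.mem_range.mpr D.hq.pos, Finset.mem_univ _⟩) h0
  have := Fact.mk D.hq
  have hjc : j.Coprime q := (D.hq.coprime_iff_not_dvd.mpr fun hd =>
    absurd (Nat.le_of_dvd (Nat.pos_of_ne_zero hj0) hd) (not_le.mpr hjq)).symm
  obtain ⟨m, hm⟩ := Nat.exists_mul_mod_eq_one_of_coprime hjc D.hq.one_lt
  have hk' := (D.mul_pow_mem k hk j m).2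
  have hhm : h ^ (j * m) = h := by
    rw [pow_eq_pow_mod _ D.hh, hm.2, pow_one]
  rw [hhm] at hk'
  set c := h⁻¹ * (h ^ j * k) ^ m with hc'
  have ha : h * c ∈ wstab Z1 χ := by
    rw [hc', mul_inv_cancel_left]
    exact pow_mem hjk m
  refine ⟨c, hk', ha, ?_⟩
  have h1 := (D.mul_pow_mem c hk' 1 q).2
  rw [one_mul, pow_one, D.hh, inv_one, one_mul] at h1
  have h2 : (h * c) ^ q ∈ zpowers f ⊓ wstab Z1 χ := ⟨h1, pow_mem ha q⟩
  rwa [hfree', mem_bot] at h2

theorem false_of_centralizing (hTf : ∀ x ∈ T, f * x = x * f) : False := by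
  classical
  have := Fact.mk D.hs
  have := Fact.mk D.ht
  set Z := ⁅S, S⁆ with hZ
  have hfN : f ∈ normalizer ((zpowers f : Subgroup Γ) : Set Γ) := le_normalizer (mem_zpowers f)
  -- `f` has no fixed points on `S`
  have hK : ∀ x ∈ S, f * x = x * f → x = 1 := by
    intro x hx hfx
    rcases D.irr (N := S ⊓ centralizer ((zpowers f : Subgroup Γ) : Set Γ)) inf_le_left
      (fun y hy => D.fix_normalizer (D.hTS hy) (mem_wstab_aux f y (hTf y hy)))
      (D.fix_normalizer D.hfS hfN) (D.fix_normalizer D.hhS D.h_mem_normalizer_F) with h0 | h0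
    · exact (D.not_f_central fun y hy => mem_centralizer_zpowers.mp (h0.ge hy).2).elim
    · exact D.fix_Z (h0 ⟨hx, mem_centralizer_zpowers.mpr hfx⟩) hfx
  set Z1 := if Z = ⊥ then S else Z with hZ1
  have hZ1S : Z1 ≤ S := by rw [hZ1]; split_ifs; exacts [le_rfl, D.Z_le]
  have hZ1c : ∀ a ∈ Z1, ∀ b ∈ Z1, a * b = b * a := by
    rw [hZ1]
    split_ifs with h0
    · intro a ha b hb
      exact commutatorElement_eq_one_iff_mul_comm.mp
        (mem_bot.mp (h0 ▸ commutator_mem_commutator ha hb))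
    · exact fun a ha b hb => D.Z_comm hb (D.Z_le ha)
  have hZ1n : ∀ g : Γ, g ∈ normalizer (S : Set Γ) → g ∈ normalizer (Z1 : Set Γ) := by
    rw [hZ1]
    split_ifs
    · exact fun g hg => hg
    · exact fun g hg => mem_normalizer_bracket hg hg
  have hfZ := hZ1n f D.hfS
  have hhZ := hZ1n h D.hhS
  -- every weight is fixed by `T`
  have hTstab : ∀ (χ : Γ → L) (v : W), v ≠ 0 → v ∈ wspace ρ Z1 χ → (∃ z ∈ Z1, χ z ≠ 1) →
      ∀ x ∈ T, x ∈ wstab Z1 χ := by
    rintro χ v hv0 hv ⟨z, hz, hχz⟩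
    obtain ⟨hfree, k, hk, ha, haq⟩ := D.exists_stab hZ1S hfZ hhZ hZ1c
      (fun x hx => hK x (hZ1S hx)) hv hv0 hz hχz
    set a := h * k with hadef
    have hkT : ∀ x ∈ T, Commute k x := fun x hx => by
      obtain ⟨i, rfl⟩ := mem_powers_iff_mem_zpowers.mpr hk
      exact Commute.pow_left (hTf x hx) i
    have haT : a ∈ normalizer (T : Set Γ) := mul_mem D.hhT (zpowers_le.mpr D.hfT hk)
    have hafix : ∀ x ∈ T, a * x = x * a → x = 1 := by
      intro x hx hax
      refine D.fixT x hx (hTf x hx) ?_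
      rw [hadef, mul_assoc, (hkT x hx).eq, ← mul_assoc, ← mul_assoc] at hax
      exact mul_right_cancel hax
    cases nonempty_fintype T
    let c : T → T := fun x => ⟨a⁻¹ * (x : Γ)⁻¹ * a * x,
      mul_mem (Coprime.conj_mem_of_mem_normalizer' haT (inv_mem x.2)) x.2⟩
    have hcinj : Function.Injective c := by
      intro x y hxy
      have h' : a⁻¹ * (x : Γ)⁻¹ * a * x = a⁻¹ * (y : Γ)⁻¹ * a * y := congrArg Subtype.val hxy
      have hfixed : a * ((x : Γ) * (y : Γ)⁻¹) = (x : Γ) * (y : Γ)⁻¹ * a :=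
        calc a * ((x : Γ) * (y : Γ)⁻¹)
            = (x : Γ) * a * (a⁻¹ * (x : Γ)⁻¹ * a * x) * (y : Γ)⁻¹ := by group
          _ = (x : Γ) * a * (a⁻¹ * (y : Γ)⁻¹ * a * y) * (y : Γ)⁻¹ := by rw [h']
          _ = _ := by group
      exact Subtype.ext (mul_inv_eq_one.mp (hafix _ (mul_mem x.2 (inv_mem y.2)) hfixed))
    intro x hx
    obtain ⟨⟨y, hy⟩, hyx⟩ := (Finite.injective_iff_bijective.mp hcinj).2 ⟨x, hx⟩
    have hyx' : a⁻¹ * y⁻¹ * a * y = x := congrArg Subtype.val hyx
    have hyN : y ∈ normalizer (Z1 : Set Γ) := hZ1n y (D.hTS hy)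
    have hv' : ρ y v ∈ wspace ρ Z1 (fun w => χ (y⁻¹ * w * y)) := map_mem_wspace ρ hyN hv
    have hyv : ρ y v ≠ 0 := fun h0 => hv0 (by rw [← rho_inv_apply ρ y v, h0, map_zero])
    obtain ⟨-, k', hk', ha', -⟩ := D.exists_stab hZ1S hfZ hhZ hZ1c
      (fun x hx => hK x (hZ1S hx)) hv' hyv (z := y * z * y⁻¹)
      (Coprime.conj_mem_of_mem_normalizer hyN hz)
      (by simpa [mul_assoc] using hχz)
    have h1 : y⁻¹ * (h * k') * y ∈ wstab Z1 χ := by
      refine ⟨mul_mem (mul_mem (inv_mem hyN) ha'.1) hyN, fun w hw => ?_⟩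
      have h2 := ha'.2 (y * w * y⁻¹) (Coprime.conj_mem_of_mem_normalizer hyN hw)
      calc χ ((y⁻¹ * (h * k') * y)⁻¹ * w * (y⁻¹ * (h * k') * y))
          = χ (y⁻¹ * ((h * k')⁻¹ * (y * w * y⁻¹) * (h * k')) * y) := by congr 1; group
        _ = χ (y⁻¹ * (y * w * y⁻¹) * y) := h2
        _ = χ w := by congr 1; group
    have hk'T : Commute k' y := by
      obtain ⟨i, rfl⟩ := mem_powers_iff_mem_zpowers.mpr hk'
      exact Commute.pow_left (hTf y hy) i
    set g := k⁻¹ * k' with hg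
    have hgF : g ∈ zpowers f := mul_mem (inv_mem hk) hk'
    have hgc : ∀ u ∈ T, Commute g u := fun u hu => by
      obtain ⟨i, hi⟩ := mem_powers_iff_mem_zpowers.mpr hgF
      rw [← hi]
      exact Commute.pow_left (hTf u hu) i
    have h2 : x * g ∈ wstab Z1 χ := by
      have he : a⁻¹ * (y⁻¹ * (h * k') * y) = x * g := by
        rw [show h * k' = a * g by rw [hadef, hg]; group, ← hyx']
        calc a⁻¹ * (y⁻¹ * (a * g) * y) = a⁻¹ * y⁻¹ * a * (g * y) := by group
          _ = a⁻¹ * y⁻¹ * a * (y * g) := by rw [(hgc y hy).eq]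
          _ = _ := by group
      rw [← he]
      exact mul_mem ((wstab Z1 χ).inv_mem ha) h1
    obtain ⟨n, hn⟩ := D.hT ⟨x, hx⟩
    have hxn : x ^ (t ^ n) = 1 := congrArg Subtype.val hn
    have h3 := pow_mem h2 (t ^ n)
    rw [((hgc x hx).symm).mul_pow, hxn, one_mul] at h3
    have h4 : g ^ (t ^ n) ∈ zpowers f ⊓ wstab Z1 χ := ⟨pow_mem hgF _, h3⟩
    rw [hfree, mem_bot] at h4
    have hg1 : g = 1 := by
      refine orderOf_eq_one_iff.mp (Nat.eq_one_of_dvd_coprimes
        (((Nat.coprime_primes D.hp D.ht).mpr (Ne.symm D.htp)).pow_right n) ?_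
        (orderOf_dvd_of_pow_eq_one h4))
      rw [← D.orderOf_f]
      exact orderOf_dvd_of_mem_zpowers hgF
    rwa [hg1, mul_one] at h2
  by_cases hZb : Z = ⊥
  · -- `S` is abelian
    have hZ1' : Z1 = S := by rw [hZ1, if_pos hZb]
    refine D.hnt ((commutator_eq_bot_iff_le_centralizer).mpr fun y hy =>
      mem_centralizer_iff.mpr fun x hx => ?_)
    obtain ⟨n, hn⟩ := D.hS ⟨y, hy⟩
    have hmem : x⁻¹ * y * x * y⁻¹ ∈ Z1 := hZ1'.symm ▸ mul_mem
      (Coprime.conj_mem_of_mem_normalizer' (D.hTS hx) hy) (inv_mem hy)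
    obtain ⟨m, hm⟩ := D.hS ⟨_, hZ1' ▸ hmem⟩
    have h1 : ρ (x⁻¹ * y * x * y⁻¹) = 1 := by
      refine eq_one_of_weights ρ Z1 hZ1c hmem (congrArg Subtype.val hm)
        (by rw [Nat.cast_pow]; exact pow_ne_zero m D.hs0) fun χ v hv0 hv => ?_
      have hy1 : y ∈ Z1 := hZ1'.symm ▸ hy
      have hst : x ∈ wstab Z1 χ ∨ ∀ z ∈ Z1, χ z = 1 :=
        Or.imp_left (fun hex => hTstab χ v hv0 hv hex x hx)
          (or_iff_not_imp_left.mpr fun hne => by push Not at hne; exact hne)
      have hxy : x⁻¹ * y * x ∈ Z1 :=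
        hZ1'.symm ▸ Coprime.conj_mem_of_mem_normalizer' (D.hTS hx) hy
      have hval : χ (x⁻¹ * y * x) = χ y := by
        rcases hst with hs | hs
        · exact hs.2 y hy1
        · rw [hs _ hy1, hs _ hxy]
      rw [weight_mul ρ hv hv0 hxy (inv_mem hy1), hval, ← weight_mul ρ hv hv0 hy1 (inv_mem hy1),
        mul_inv_cancel, weight_one ρ hv hv0]
    have h2 := D.hinj _ (hZ1' ▸ hmem) h1
    calc x * y = x * (x⁻¹ * y * x * y⁻¹) * y := by rw [h2, mul_one]
      _ = y * x := by group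
  · -- the derived group of `S` is not trivial
    have hZ1' : Z1 = Z := by rw [hZ1, if_neg hZb]
    obtain ⟨z, hz, hz1⟩ := (bot_or_exists_ne_one Z).resolve_left hZb
    obtain ⟨χ, v, hvU, hv0, hv⟩ := exists_weight_vector ρ Z1 hZ1c (LinearMap.range (ρ z - 1))
      (fun h0 => hz1 (D.hinj z (D.Z_le hz) (by rwa [LinearMap.range_eq_bot, sub_eq_zero] at h0)))
      (by
        rintro a ha _ ⟨u, rfl⟩
        exact ⟨ρ a u, by simp only [LinearMap.sub_apply, Module.End.one_apply, map_sub, ← rho_mul,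
          D.Z_comm hz (hZ1S ha)]⟩)
    have hz' : z ∈ Z1 := hZ1'.symm ▸ hz
    have hχz : χ z ≠ 1 := fun h1 => hv0 (eq_zero_of_weight ρ (D.exp_Z hz) D.hs0 hz' hv hvU h1)
    have hTs := hTstab χ v hv0 hv ⟨z, hz', hχz⟩
    obtain ⟨hfree, k, hk, ha, haq⟩ := D.exists_stab hZ1S hfZ hhZ hZ1c
      (fun x hx => hK x (hZ1S hx)) hv hv0 hz' hχz
    set a := h * k with hadef
    set E := wspace ρ Z1 χ with hE
    set G := stab ρ E with hG
    have hSG : S ≤ G := fun y hy => wstab_le_stab ρ Z1 χ (mem_wstab_of_commute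
      fun c hc => (D.Z_comm (show c ∈ Z from hZ1' ▸ hc) hy))
    have hTG : T ≤ G := fun y hy => wstab_le_stab ρ Z1 χ (hTs y hy)
    have haG : a ∈ G := wstab_le_stab ρ Z1 χ ha
    have haS : a ∈ normalizer (S : Set Γ) := mul_mem D.hhS (zpowers_le.mpr D.hfS hk)
    have haT : a ∈ normalizer (T : Set Γ) := mul_mem D.hhT (zpowers_le.mpr D.hfT hk)
    have hafix : ∀ x ∈ T, a * x = x * a → x = 1 := by
      intro x hx hax
      have hkx : Commute k x := by
        obtain ⟨i, rfl⟩ := mem_powers_iff_mem_zpowers.mpr hk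
        exact Commute.pow_left (hTf x hx) i
      refine D.fixT x hx (hTf x hx) ?_
      rw [hadef, mul_assoc, hkx.eq, ← mul_assoc, ← mul_assoc] at hax
      exact mul_right_cancel hax
    -- `a` fixes no vector of `E`
    have hEa : ∀ w ∈ E, ρ a w = w → w = 0 := by
      intro w hw haw
      cases nonempty_fintype (zpowers f)
      cases nonempty_fintype Z1
      set u := ∑ g : zpowers f, ρ (g : Γ) w with hu
      have hwf : ∀ c ∈ zpowers f, ρ c u = u := fun c hc =>
        sum_subgroup_fixed ρ (zpowers f) w (Or.inl hc)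
      have hau : ρ a u = u := sum_subgroup_fixed ρ (zpowers f) w
        (Or.inr ⟨mul_mem D.h_mem_normalizer_F (le_normalizer hk), haw⟩)
      have hhu : ρ h u = u := by
        conv_lhs => rw [show h = a * k⁻¹ by rw [hadef]; group, rho_mul, hwf _ (inv_mem hk)]
        exact hau
      have hu0 : u = 0 := D.fixW u (hwf f (mem_zpowers f)) hhu
      by_contra hw0
      have hp' := wproj_sum ρ Z1 hw hw0 Finset.univ (fun g : zpowers f => (g : Γ))
        (fun g _ => zpowers_le.mpr hfZ g.2)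
      rw [← hu, hu0, map_zero, Finset.sum_filter, Finset.sum_eq_single (1 : zpowers f)] at hp'
      · rw [OneMemClass.coe_one, if_pos (one_mem (wstab Z1 χ)), rho_one] at hp'
        exact hw0 ((smul_eq_zero.mp hp'.symm).resolve_left (D.card_cast hZ1S))
      · intro g _ hg
        refine if_neg fun hgs => hg (Subtype.ext ?_)
        have h1 : (g : Γ) ∈ zpowers f ⊓ wstab Z1 χ := ⟨g.2, hgs⟩
        rwa [hfree, mem_bot] at h1
      · exact fun h0 => absurd (Finset.mem_univ _) h0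
    -- pass to the faithful image
    set φ := resOn ρ E with hφ
    set π := QuotientGroup.mk' φ.ker with hπ
    set kl : G ⧸ φ.ker →* Module.End L E := QuotientGroup.lift φ.ker φ le_rfl with hkldef
    have hkl : ∀ g, kl (π g) = φ g := fun g => QuotientGroup.lift_mk' φ.ker le_rfl g
    have hklinj : Function.Injective kl := fun x y hxy => by
      obtain ⟨g, rfl⟩ := QuotientGroup.mk'_surjective φ.ker x
      obtain ⟨k, rfl⟩ := QuotientGroup.mk'_surjective φ.ker y
      rw [hkl, hkl] at hxy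
      refine QuotientGroup.eq.mpr (MonoidHom.mem_ker.mpr ?_)
      rw [map_mul, ← hxy, ← map_mul, inv_mul_cancel, map_one]
    have : Nontrivial E := ⟨⟨⟨v, hv⟩, 0, fun h0 => hv0 (congrArg Subtype.val h0)⟩⟩
    have := Fact.mk D.hq
    have hscal : ∀ c ∈ Z, ∀ hc : c ∈ G, φ ⟨c, hc⟩ = χ c • 1 := fun c hc hcG =>
      LinearMap.ext fun w => Subtype.ext (w.2 c (hZ1'.symm ▸ hc))
    have hSmap : (S.subgroupOf G).map π ≤ (⊤ : Subgroup (G ⧸ φ.ker)) := le_top
    have hnorm : ∀ (H : Subgroup Γ) (g : G), (g : Γ) ∈ normalizer (H : Set Γ) →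
        π g ∈ normalizer (((H.subgroupOf G).map π : Subgroup _) : Set (G ⧸ φ.ker)) := fun H g hg =>
      le_normalizer_map π ⟨g, mem_normalizer_iff.mpr fun y => by
        simp only [mem_subgroupOf]
        exact mem_normalizer_iff.mp hg (y : Γ), rfl⟩
    obtain ⟨nS, hnS⟩ := IsPGroup.iff_card.mp (D.hS.of_equiv (subgroupOfEquivOfLe hSG).symm)
    have hkerS : φ.ker ⊓ S.subgroupOf G ≤ S.subgroupOf G := inf_le_right
    -- fixed points lift
    have hlift : ∀ y : G, (y : Γ) ∈ S → (∀ x : G, (x : Γ) ∈ T → π x * π y = π y * π x) →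
        ∃ c ∈ Z, ∃ hc : c ∈ G, π ⟨c, hc⟩ = π y := by
      intro y hy hfix
      have hN : T.subgroupOf G ≤ normalizer ((φ.ker ⊓ S.subgroupOf G : Subgroup G) : Set G) :=
        Coprime.le_normalizer_inf (le_top.trans (normalizer_eq_top_iff.mpr inferInstance).ge)
          (fun x hx => mem_normalizer_iff.mpr fun w => by
            simp only [mem_subgroupOf]
            exact mem_normalizer_iff.mp (D.hTS hx) (w : Γ))
      have hTp : IsPGroup t (T.subgroupOf G) := D.hT.of_equiv (subgroupOfEquivOfLe hTG).symm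
      obtain ⟨n, hn, hc⟩ := Coprime.exists_fixed_in_coset (T.subgroupOf G)
        (φ.ker ⊓ S.subgroupOf G) hN (by
          obtain ⟨k1, hk1⟩ := IsPGroup.iff_card.mp hTp
          rw [hk1]
          refine Nat.Coprime.coprime_dvd_right (card_dvd_of_le hkerS) ?_
          rw [hnS]
          exact (((Nat.coprime_primes D.ht D.hs).mpr (Ne.symm D.hst)).pow_left k1).pow_right nS)
        (Or.inl (Coprime.isSolvable_of_isNilpotent' hTp.isNilpotent)) y
        (fun x hx => ⟨MonoidHom.mem_ker.mp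
            ((QuotientGroup.eq_one_iff (N := φ.ker) _).mp (by
              show π (y⁻¹ * (x * y * x⁻¹)) = 1
              rw [map_mul, map_mul, map_mul, map_inv, map_inv, hfix x hx, mul_inv_cancel_right,
                inv_mul_cancel])),
          mem_subgroupOf.mpr (mul_mem (inv_mem hy)
            (Coprime.conj_mem_of_mem_normalizer (D.hTS hx) hy))⟩)
      refine ⟨(y * n : G), D.structureS.2.2.1.le ⟨mul_mem hy hn.2,
        mem_centralizer_iff.mpr fun x hx => ?_⟩, (y * n).2, ?_⟩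
      · exact congrArg Subtype.val (mem_centralizer_iff.mp hc ⟨x, hTG hx⟩ hx)
      · rw [map_mul, show π n = 1 from (QuotientGroup.eq_one_iff _).mpr hn.1, mul_one]
    have hcz := centralizes_of_scalar hklinj (s := s) (t := t) D.hq D.hsq D.htq D.hst D.hs0 D.hq0
      ((S.subgroupOf G).map π) ((T.subgroupOf G).map π)
      ((D.hS.of_equiv (subgroupOfEquivOfLe hSG).symm).map π)
      ((D.hT.of_equiv (subgroupOfEquivOfLe hTG).symm).map π)
      (by
        rintro _ ⟨x, hx, rfl⟩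
        exact hnorm S x (D.hTS hx))
      (π ⟨a, haG⟩) (by rw [← map_pow, show (⟨a, haG⟩ : G) ^ q = 1 from Subtype.ext haq, map_one])
      (hnorm S _ haS) (hnorm T _ haT)
      (fun w hw => Subtype.ext (hEa w w.2 (congrArg Subtype.val ((hkl ⟨a, haG⟩).symm ▸ hw))))
      (by
        intro c hc
        rw [← map_commutator] at hc
        obtain ⟨c', hc', rfl⟩ := hc
        have hcZ : (c' : Γ) ∈ Z := by
          have h1 : (c' : Γ) ∈ (⁅S.subgroupOf G, S.subgroupOf G⁆).map G.subtype := ⟨c', hc', rfl⟩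
          rw [map_commutator, subgroupOf_map_subtype, inf_of_le_left hSG] at h1
          exact h1
        refine ⟨χ c', ?_, (hkl c').trans (hscal _ hcZ c'.2)⟩
        rw [← weight_pow ρ hv hv0 (hZ1'.symm ▸ hcZ), D.exp_Z hcZ, weight_one ρ hv hv0])
      (by
        rintro _ ⟨y, hy, rfl⟩ hfix _ ⟨u, hu, rfl⟩
        obtain ⟨c, hc, hcG, hce⟩ := hlift y hy fun x hx => hfix _ ⟨x, hx, rfl⟩
        rw [← hce, ← map_mul, ← map_mul]
        exact congrArg π (Subtype.ext (D.Z_comm hc hu)))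
      (by
        rintro _ ⟨x, hx, rfl⟩ hxa
        -- a fixed coset of `a` in `T` contains a fixed element
        set M := φ.ker ⊓ T.subgroupOf G with hM
        have hTp : IsPGroup t (T.subgroupOf G) := D.hT.of_equiv (subgroupOfEquivOfLe hTG).symm
        have haM : zpowers (⟨a, haG⟩ : G) ≤ normalizer (M : Set G) :=
          Coprime.le_normalizer_inf (le_top.trans (normalizer_eq_top_iff.mpr inferInstance).ge)
            (zpowers_le.mpr (mem_normalizer_iff.mpr fun w => by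
              simp only [mem_subgroupOf]
              exact mem_normalizer_iff.mp haT (w : Γ)))
        obtain ⟨n, hn, hc⟩ := Coprime.exists_fixed_in_coset (zpowers (⟨a, haG⟩ : G)) M haM (by
            obtain ⟨k1, hk1⟩ := IsPGroup.iff_card.mp (hTp.to_le (inf_le_right : M ≤ _))
            rw [hk1, Nat.card_zpowers]
            exact (((Nat.coprime_primes D.hq D.ht).mpr (Ne.symm D.htq)).coprime_dvd_left
              (orderOf_dvd_of_pow_eq_one (Subtype.ext haq))).pow_right k1)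
          (Or.inr (Coprime.isSolvable_of_isNilpotent' (hTp.to_le inf_le_right).isNilpotent)) x
          (fun b hb => ⟨MonoidHom.mem_ker.mp
              ((QuotientGroup.eq_one_iff (N := φ.ker) _).mp (by
                show π (x⁻¹ * (b * x * b⁻¹)) = 1
                obtain ⟨i, rfl⟩ := mem_zpowers_iff.mp hb
                have hcm : Commute (π (⟨a, haG⟩ ^ i)) (π x) := by
                  rw [map_zpow]; exact Commute.zpow_left hxa i
                rw [map_mul, map_mul, map_mul, map_inv, map_inv, hcm.eq, mul_inv_cancel_right,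
                  inv_mul_cancel])),
            mem_subgroupOf.mpr (mul_mem (inv_mem hx)
              (Coprime.conj_mem_of_mem_normalizer (zpowers_le.mpr haT (by
                obtain ⟨i, rfl⟩ := mem_zpowers_iff.mp hb
                exact ⟨i, by simp⟩)) hx))⟩)
        have h1 : ((x * n : G) : Γ) = 1 := hafix _ (mul_mem hx hn.2)
          (congrArg Subtype.val (mem_centralizer_iff.mp hc _ (mem_zpowers _)))
        rw [show π x = π (x * n) by
          rw [map_mul, show π n = 1 from (QuotientGroup.eq_one_iff _).mpr hn.1, mul_one],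
          show x * n = 1 from Subtype.ext h1, map_one])
    -- so `⁅S, T⁆` is trivial on `E`
    set A := zpowers (π ⟨a, haG⟩) with hA
    set Sb := (S.subgroupOf G).map π with hSb
    set Tb := (T.subgroupOf G).map π with hTb
    have h1 : ⁅Sb, A⁆ = ⊥ := commutator_eq_bot_iff_le_centralizer.mpr fun x hx =>
      mem_centralizer_zpowers.mpr (hcz x hx)
    have h2 : ⁅⁅A, Sb⁆, Tb⁆ = ⊥ := by
      rw [commutator_comm A Sb, h1, commutator_bot_left]
    have hSTle : ⁅Sb, Tb⁆ ≤ Sb := Coprime.commutator_le_of_le_normalizer (by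
      rintro _ ⟨x, hx, rfl⟩
      exact hnorm S x (D.hTS hx))
    have h3 : ⁅⁅Sb, Tb⁆, A⁆ = ⊥ := le_bot_iff.mp (h1 ▸ commutator_mono hSTle le_rfl)
    have h4 : ⁅⁅Tb, A⁆, Sb⁆ = ⊥ := commutator_commutator_eq_bot_of_rotate h2 h3
    have hTb' : Tb ≤ ⁅Tb, A⁆ := by
      rintro _ ⟨x, hx, rfl⟩
      let c : T → T := fun y => ⟨(y : Γ) * a * (y : Γ)⁻¹ * a⁻¹, by
        rw [mul_assoc, mul_assoc]
        exact mul_mem y.2 (by
          simpa [mul_assoc] using Coprime.conj_mem_of_mem_normalizer haT (inv_mem y.2))⟩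
      have hcinj : Function.Injective c := by
        intro u w huw
        have h' : (u : Γ) * a * (u : Γ)⁻¹ * a⁻¹ = w * a * (w : Γ)⁻¹ * a⁻¹ := congrArg Subtype.val huw
        have hfixed : a * ((w : Γ)⁻¹ * u) = (w : Γ)⁻¹ * u * a :=
          calc a * ((w : Γ)⁻¹ * u)
              = (w : Γ)⁻¹ * (w * a * (w : Γ)⁻¹ * a⁻¹) * a * u := by group
            _ = (w : Γ)⁻¹ * (u * a * (u : Γ)⁻¹ * a⁻¹) * a * u := by rw [h']
            _ = _ := by group
        exact Subtype.ext (inv_mul_eq_one.mp (hafix _ (mul_mem (inv_mem w.2) u.2) hfixed)).symm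
      obtain ⟨⟨y, hy⟩, hyx⟩ := (Finite.injective_iff_bijective.mp hcinj).2 ⟨x, hx⟩
      have he : x = ⁅(⟨y, hTG hy⟩ : G), ⟨a, haG⟩⁆ := Subtype.ext (by
        rw [show (x : Γ) = y * a * y⁻¹ * a⁻¹ from (congrArg Subtype.val hyx).symm]
        simp [commutatorElement_def])
      rw [he, map_commutatorElement]
      exact commutator_mem_commutator ⟨_, hy, rfl⟩ (mem_zpowers _)
    have h5 : ⁅Sb, Tb⁆ = ⊥ := by
      rw [commutator_comm]
      exact le_bot_iff.mp (h4 ▸ commutator_mono hTb' le_rfl)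
    have hker : S ≤ φ.ker.map G.subtype := by
      conv_lhs => rw [← D.structureS.1]
      rw [commutator_le]
      intro y hy x hx
      refine ⟨⁅(⟨y, hSG hy⟩ : G), ⟨x, hTG hx⟩⁆, ?_, by simp [commutatorElement_def]⟩
      refine (QuotientGroup.eq_one_iff (N := φ.ker) _).mp ?_
      show π _ = 1
      rw [map_commutatorElement, ← mem_bot, ← h5]
      exact commutator_mem_commutator ⟨_, hy, rfl⟩ ⟨_, hx, rfl⟩
    obtain ⟨z', hz'k, hz'e⟩ := hker (D.Z_le hz)
    refine hχz ?_
    have h6 := LinearMap.congr_fun (MonoidHom.mem_ker.mp hz'k) ⟨v, hv⟩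
    have h7 : ρ z v = v := by rw [← hz'e]; exact congrArg Subtype.val h6
    rw [hv z hz'] at h7
    exact smul_left_injective L hv0 (h7.trans (one_smul L v).symm)
where
  mem_wstab_aux (f y : Γ) (hy : f * y = y * f) :
      y ∈ normalizer ((zpowers f : Subgroup Γ) : Set Γ) := by
    exact centralizer_le_normalizer _ (mem_centralizer_zpowers.mpr hy)

/-- A minimal configuration does not exist. -/
theorem false : False := by
  rcases D.dichotomy with h1 | ⟨h1, h2⟩
  · exact D.false_of_centralizing h1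
  · exact D.false_of_moving h1 h2

end Cfsg.Agent.FPF.Setup
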