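import Cfsg.Agent.Lib.Coprime.FPFCommute

/-!
A minimal pair with `⁅T, f⁆ = T` is impossible.
-/

set_option autoImplicit false

namespace Cfsg.Agent.FPF.Setup

open scoped commutatorElement
open Subgroup Cfsg.Agent.LinAct

variable {Γ : Type*} [Group Γ] [Finite Γ] {L : Type*} [Field L] [IsAlgClosed L] {W : Type*}
  [AddCommGroup W] [Module L W] [FiniteDimensional L W]
  {ρ : Γ →* Module.End L W} {s t p q : ℕ} {S T : Subgroup Γ} {f h : Γ}
  (D : Setup ρ s t p q S T f h)

include D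

omit [IsAlgClosed L] [FiniteDimensional L W] in
theorem exc_t (hu : t = 2) : ¬ ∃ m, p = 2 ^ m + 1 := D.exc_f D.htq hu

theorem derived_eq_bot (hTa : ⁅T, zpowers f⁆ = T) : ⁅S, S⁆ = ⊥ := by
  classical
  have := Fact.mk D.hs
  set Z := ⁅S, S⁆ with hZ
  set N := killer ρ S Z with hN
  have hNn : ∀ g : Γ, g ∈ normalizer (S : Set Γ) → g ∈ normalizer (N : Set Γ) :=
    fun g hg => normalizer_le_killer ρ hg (mem_normalizer_bracket hg hg)
  have hK : ∀ y ∈ S, f * y = y * f → y ∈ N := by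
    intro y hy hfy
    refine ⟨hy, fun z hz w => ?_⟩
    by_contra hne
    set M := LinearMap.range ((ρ y - 1) * (ρ z - 1)) with hM
    have hcomm : y * z = z * y := D.Z_comm hz hy
    have hop : ∀ g : Γ, g * y = y * g → g * z = z * g → ∀ u : W,
        ρ g (((ρ y - 1) * (ρ z - 1)) u) = ((ρ y - 1) * (ρ z - 1)) (ρ g u) := by
      intro g hgy hgz u
      have e1 : ∀ v, ρ g (ρ y v) = ρ y (ρ g v) := fun v => by rw [← rho_mul, hgy, rho_mul]
      have e2 : ∀ v, ρ g (ρ z v) = ρ z (ρ g v) := fun v => by rw [← rho_mul, hgz, rho_mul]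
      simp only [Module.End.mul_apply, LinearMap.sub_apply, Module.End.one_apply, map_sub, e1, e2]
    have hM0 : M ≠ ⊥ := fun h0 => hne (by
      have : ((ρ y - 1) * (ρ z - 1)) w ∈ M := ⟨w, rfl⟩
      rw [h0, Submodule.mem_bot] at this
      simp only [Module.End.mul_apply, LinearMap.sub_apply, Module.End.one_apply] at this
      exact sub_eq_zero.mp this)
    obtain ⟨χ, v, ⟨u, hu⟩, hv0, hv⟩ := exists_weight_vector ρ Z
      (fun a ha b hb => D.Z_comm hb (D.Z_le ha)) M hM0 (by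
        rintro a ha _ ⟨u, rfl⟩
        exact ⟨ρ a u, (hop a (D.Z_comm ha hy).symm (D.Z_comm hz (D.Z_le ha)) u).symm⟩)
    have hu1 : (ρ y - 1) ((ρ z - 1) u) = v := hu
    have hχz : χ z ≠ 1 := fun h1 => hv0 (eq_zero_of_range ρ (D.exp_Z hz) D.hs0
      ((hv z hz).trans (by rw [h1, one_smul])) (u := (ρ y - 1) u) (by
        rw [← hu1]
        simp only [LinearMap.sub_apply, Module.End.one_apply, map_sub, ← rho_mul, hcomm]))
    have hfZ : f ∈ normalizer (Z : Set Γ) := mem_normalizer_bracket D.hfS D.hfS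
    have hfree : zpowers f ⊓ wstab Z χ = ⊥ := by
      by_contra hne'
      have hfw : f ∈ wstab Z χ := by
        obtain ⟨g, hg, hg1⟩ := (bot_or_exists_ne_one _).resolve_left hne'
        have := Fact.mk D.hp
        have hgo : orderOf g = p := by
          refine ((Nat.dvd_prime D.hp).mp ?_).resolve_left (mt orderOf_eq_one_iff.mp hg1)
          rw [← D.orderOf_f]
          exact orderOf_dvd_of_mem_zpowers hg.1
        have : zpowers g = zpowers f := eq_of_le_of_card_ge (zpowers_le.mpr hg.1)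
          (by rw [Nat.card_zpowers, Nat.card_zpowers, hgo, D.orderOf_f])
        exact zpowers_le.mpr hg.2 (this.ge (mem_zpowers f))
      -- `c ↦ f⁻¹ c f c⁻¹` is bijective on `Z` and killed by `χ`
      let g : Z → Z := fun c => ⟨f⁻¹ * c * f * (c : Γ)⁻¹,
        mul_mem (Coprime.conj_mem_of_mem_normalizer' hfZ c.2) (inv_mem c.2)⟩
      have hg : Function.Injective g := by
        intro c d hcd
        have h' : f⁻¹ * c * f * (c : Γ)⁻¹ = f⁻¹ * d * f * (d : Γ)⁻¹ := congrArg Subtype.val hcd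
        have hcd' : (c : Γ) * d = d * c := D.Z_comm d.2 (D.Z_le c.2)
        have hdd : ((d : Γ)⁻¹ * c) ∈ Z := mul_mem (inv_mem d.2) c.2
        refine Subtype.ext (inv_mul_eq_one.mp (D.fix_Z hdd ?_)).symm
        have e : f⁻¹ * ((d : Γ)⁻¹ * c) * f = (d : Γ)⁻¹ * c :=
          calc f⁻¹ * ((d : Γ)⁻¹ * c) * f
              = (d : Γ)⁻¹ * (f⁻¹ * d * f * (d : Γ)⁻¹)⁻¹ * (f⁻¹ * c * f * (c : Γ)⁻¹) * c := by group
            _ = (d : Γ)⁻¹ * c := by rw [h']; group
        calc f * ((d : Γ)⁻¹ * c) = f * (f⁻¹ * ((d : Γ)⁻¹ * c) * f) := by rw [e]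
          _ = (d : Γ)⁻¹ * c * f := by group
      obtain ⟨c, hc⟩ := (Finite.injective_iff_bijective.mp hg).2 ⟨z, hz⟩
      have hc' : f⁻¹ * c * f * (c : Γ)⁻¹ = z := congrArg Subtype.val hc
      have hcm : f⁻¹ * c * f = z * c := by rw [← hc']; group
      have h1 := hfw.2 c c.2
      rw [hcm, weight_mul ρ hv hv0 hz c.2, mul_eq_right₀] at h1
      · exact hχz h1
      · intro h0
        exact hv0 (by
          have h1' : ρ (c : Γ)⁻¹ (ρ c v) = v := rho_inv_apply ρ _ _
          rwa [hv c c.2, h0, zero_smul, map_zero, eq_comm] at h1')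
    cases nonempty_fintype (zpowers f)
    have hyfix : ρ y v = v := fixed_of_free_orbit ρ Z (D.card_cast D.Z_le) hv (zpowers f)
      (zpowers_le.mpr hfZ) hfree (fun c hc => D.Z_comm hc hy)
      (D.fix_fixed hy hfy (sum_subgroup_fixed ρ (zpowers f) v (Or.inl (mem_zpowers f))))
    obtain ⟨n, hn⟩ := D.hS ⟨y, hy⟩
    exact hv0 (eq_zero_of_range ρ (n := s ^ n) (congrArg Subtype.val hn)
      (by rw [Nat.cast_pow]; exact pow_ne_zero n D.hs0) hyfix (u := (ρ z - 1) u) hu1)
  rcases D.irr (N := N) (fun x hx => hx.1) (fun x hx => hNn x (D.hTS hx)) (hNn f D.hfS)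
    (hNn h D.hhS) with hN' | hN'
  · refine (eq_bot_iff_forall _).mpr fun z hz => D.hinj z (D.Z_le hz) (LinearMap.ext fun w => ?_)
    exact sub_eq_zero.mp (eq_zero_of_range ρ (D.exp_Z hz) D.hs0
      ((hN'.ge (D.Z_le hz)).2 z hz w) rfl)
  · exact (D.no_operator D.hp D.hsp D.htp D.hf D.hfS D.hfT
      (fun y hy hfy => hN' (hK y hy hfy)) (Or.inr ⟨hTa, D.exc_t⟩)).elim

theorem false_of_moving (hTa : ⁅T, zpowers f⁆ = T)
    (hCT : ∀ x ∈ T, f * x = x * f → ∀ y ∈ S, x * y = y * x) : False := by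
  classical
  have := Fact.mk D.hs
  have := Fact.mk D.ht
  have hZ := D.derived_eq_bot hTa
  have hSc : ∀ a ∈ S, ∀ b ∈ S, a * b = b * a := fun a ha b hb => commutatorElement_eq_one_iff_mul_comm.mp
    (mem_bot.mp (hZ ▸ commutator_mem_commutator ha hb))
  have hexp : ∀ a ∈ S, a ^ s = 1 := fun a ha => mem_bot.mp (hZ ▸ D.pow_mem_Z ha)
  obtain ⟨y, hy, hfy, hy1⟩ : ∃ y ∈ S, f * y = y * f ∧ y ≠ 1 := by
    by_contra hno
    push Not at hno
    exact D.no_operator D.hp D.hsp D.htp D.hf D.hfS D.hfT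
      (fun y hy hfy => by rw [hno y hy hfy]; exact one_mem _) (Or.inr ⟨hTa, D.exc_t⟩)
  -- a weight is trivial on the commutators with `f` or on the fixed points of `f`
  have hdich : ∀ (χ : Γ → L) (v : W), v ≠ 0 → v ∈ wspace ρ S χ → ∀ k ∈ S, f * k = k * f →
      χ k ≠ 1 → ∀ u ∈ ⁅S, zpowers f⁆, χ u = 1 := by
    intro χ v hv0 hv k hk hfk hχk u hu
    have hu' : u ∈ S := Coprime.commutator_le_of_le_normalizer (zpowers_le.mpr D.hfS) hu
    have h1 := D.bracket_fixed le_rfl D.hfS (fun a ha => hSc a ha k hk) hfk hk hu v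
    rw [hv k hk, map_sub, map_smul, hv u hu'] at h1
    have h2 : ((χ k - 1) * (χ u - 1)) • v = 0 := by
      rw [← sub_eq_zero] at h1
      rw [← h1]
      simp only [smul_smul, sub_mul, mul_sub, one_mul, mul_one, sub_smul, one_smul]
    rcases mul_eq_zero.mp ((smul_eq_zero.mp h2).resolve_right hv0) with h3 | h3
    · exact absurd (sub_eq_zero.mp h3) hχk
    · exact sub_eq_zero.mp h3
  have hfstab : ∀ (χ : Γ → L) (v : W), v ≠ 0 → v ∈ wspace ρ S χ →
      (∀ u ∈ ⁅S, zpowers f⁆, χ u = 1) → f ∈ wstab S χ := by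
    intro χ v hv0 hv hkill
    refine ⟨D.hfS, fun x hx => ?_⟩
    have hm : ⁅x⁻¹, f⁻¹⁆ ∈ ⁅S, zpowers f⁆ :=
      commutator_mem_commutator (inv_mem hx) (inv_mem (mem_zpowers f))
    have h2 := weight_mul ρ hv hv0 hx
      (Coprime.commutator_le_of_le_normalizer (zpowers_le.mpr D.hfS) hm)
    rw [hkill _ hm, mul_one] at h2
    rw [← h2, commutatorElement_def]
    congr 1
    group
  obtain ⟨χ, v, hvU, hv0, hv⟩ := exists_weight_vector ρ S hSc (LinearMap.range (ρ y - 1))
    (fun h0 => hy1 (D.hinj y hy (by rwa [LinearMap.range_eq_bot, sub_eq_zero] at h0)))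
    (by
      rintro a ha _ ⟨u, rfl⟩
      exact ⟨ρ a u, by simp only [LinearMap.sub_apply, Module.End.one_apply, map_sub, ← rho_mul,
        hSc y hy a ha]⟩)
  have hχy : χ y ≠ 1 := fun h1 => hv0 (eq_zero_of_weight ρ (hexp y hy) D.hs0 hy hv hvU h1)
  have hfχ := hfstab χ v hv0 hv (hdich χ v hv0 hv y hy hfy hχy)
  -- the translates outside the stabilizer kill the fixed points
  have hout : ∀ x ∈ T, x ∉ wstab S χ → χ (x⁻¹ * y * x) = 1 := by
    intro x hx hxs
    by_contra hne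
    have hxv : ρ x v ≠ 0 := fun h0 => hv0 (by rw [← rho_inv_apply ρ x v, h0, map_zero])
    have hw := map_mem_wspace ρ (D.hTS hx) hv
    have hfμ := hfstab _ _ hxv hw (hdich _ _ hxv hw y hy hfy hne)
    have h1 : x⁻¹ * f * x ∈ wstab S χ := by
      refine ⟨mul_mem (mul_mem (inv_mem (D.hTS hx)) D.hfS) (D.hTS hx), fun z hz => ?_⟩
      have h2 := hfμ.2 (x * z * x⁻¹) (Coprime.conj_mem_of_mem_normalizer (D.hTS hx) hz)
      calc χ ((x⁻¹ * f * x)⁻¹ * z * (x⁻¹ * f * x))
          = χ (x⁻¹ * (f⁻¹ * (x * z * x⁻¹) * f) * x) := by congr 1; group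
        _ = χ (x⁻¹ * (x * z * x⁻¹) * x) := h2
        _ = χ z := by congr 1; group
    set H := T ⊓ wstab S χ with hH
    have hfH : zpowers f ≤ normalizer (H : Set Γ) := Coprime.le_normalizer_inf
      (zpowers_le.mpr D.hfT) (zpowers_le.mpr (le_normalizer hfχ))
    have hHc : (Nat.card (zpowers f)).Coprime (Nat.card H) := by
      obtain ⟨k, hk⟩ := IsPGroup.iff_card.mp (D.hT.to_le (inf_le_left : H ≤ T))
      rw [hk, Nat.card_zpowers, D.orderOf_f]
      exact ((Nat.coprime_primes D.hp D.ht).mpr (Ne.symm D.htp)).pow_right k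
    have hbase : x⁻¹ * (f * x * f⁻¹) ∈ H := ⟨mul_mem (T.inv_mem hx)
      (Coprime.conj_mem_of_mem_normalizer D.hfT hx), by
        have := mul_mem h1 ((wstab S χ).inv_mem hfχ)
        simpa [mul_assoc] using this⟩
    obtain ⟨n, hn, hc⟩ := Coprime.exists_fixed_in_coset (zpowers f) H hfH hHc
      (Or.inr (Coprime.isSolvable_of_isNilpotent' (D.hT.to_le (inf_le_left : H ≤ T)).isNilpotent)) x
      (fun b hb => by
        obtain ⟨i, rfl⟩ := mem_powers_iff_mem_zpowers.mpr hb
        induction i with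
        | zero => simpa using one_mem H
        | succ i ih =>
          have := mul_mem (ih (pow_mem (mem_zpowers f) i))
            (Coprime.conj_mem_of_mem_normalizer (pow_mem (hfH (mem_zpowers f)) i) hbase)
          convert this using 1
          simp only [pow_succ]
          group)
    refine hxs ?_
    have hxn : x * n ∈ wstab S χ := mem_wstab_of_commute
      (hCT _ (mul_mem hx hn.1) (mem_centralizer_zpowers.mp hc))
    exact (mul_mem_cancel_right (show n ∈ wstab S χ from hn.2)).mp hxn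
  -- the orbit product of `y`
  let : CommGroup S := { (inferInstance : Group S) with mul_comm := fun a b => Subtype.ext (hSc a a.2 b b.2) }
  cases nonempty_fintype T
  let cy : T → S := fun x => ⟨(x : Γ)⁻¹ * y * x,
    Coprime.conj_mem_of_mem_normalizer' (D.hTS x.2) hy⟩
  set z : S := ∏ x : T, cy x with hz
  have hz1 : (z : Γ) = 1 := by
    refine mem_bot.mp (hZ ▸ D.structureS.2.2.1.le ⟨z.2, mem_centralizer_iff.mpr fun c hc => ?_⟩)
    let e : S →* S :=
      { toFun := fun a => ⟨c * a * c⁻¹, Coprime.conj_mem_of_mem_normalizer (D.hTS hc) a.2⟩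
        map_one' := Subtype.ext (by simp)
        map_mul' := fun a b => Subtype.ext (by simp [mul_assoc]) }
    have he : e z = z := by
      rw [hz, map_prod]
      refine Fintype.prod_equiv (Equiv.mulRight (⟨c, hc⟩ : T)⁻¹) _ _ fun x => Subtype.ext ?_
      show c * ((x : Γ)⁻¹ * y * x) * c⁻¹ = ((x : Γ) * c⁻¹)⁻¹ * y * ((x : Γ) * c⁻¹)
      group
    have h' : c * (z : Γ) * c⁻¹ = z := congrArg Subtype.val he
    calc c * (z : Γ) = c * (z : Γ) * c⁻¹ * c := by group
      _ = z * c := by rw [h']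
  let χ' : S →* L :=
    { toFun := fun a => χ (a : Γ)
      map_one' := weight_one ρ hv hv0
      map_mul' := fun a b => weight_mul ρ hv hv0 a.2 b.2 }
  have h1 : χ' z = 1 := by rw [show z = 1 from Subtype.ext hz1, map_one]
  have hval : ∀ x : T, χ' (cy x) = if (x : Γ) ∈ wstab S χ then χ y else 1 := by
    intro x
    show χ ((x : Γ)⁻¹ * y * x) = _
    split_ifs with hx
    · exact hx.2 y hy
    · exact hout x x.2 hx
  rw [hz, map_prod, Finset.prod_congr rfl fun x _ => hval x, Finset.prod_ite, Finset.prod_const,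
    Finset.prod_const_one, mul_one] at h1
  have hcard : (Finset.univ.filter fun x : T => (x : Γ) ∈ wstab S χ).card =
      Nat.card ((wstab S χ).subgroupOf T) := by
    rw [Nat.card_eq_fintype_card, ← Fintype.card_coe]
    exact Fintype.card_congr (Equiv.subtypeEquivRight fun x => by simp [mem_subgroupOf])
  rw [hcard] at h1
  obtain ⟨k, hk⟩ := IsPGroup.iff_card.mp (D.hT.to_subgroup ((wstab S χ).subgroupOf T))
  rw [hk] at h1
  refine hχy (orderOf_eq_one_iff.mp (Nat.eq_one_of_dvd_coprimes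
    (((Nat.coprime_primes D.ht D.hs).mpr (Ne.symm D.hst)).pow_left k)
    (orderOf_dvd_of_pow_eq_one h1) (orderOf_dvd_of_pow_eq_one ?_)))
  rw [← weight_pow ρ hv hv0 hy, hexp y hy, weight_one ρ hv hv0]

end Cfsg.Agent.FPF.Setup
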