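import Cfsg.Agent.Lib.Coprime.Weights

/-!
A group `⟨f, h⟩` of order `p q` acting without common fixed points on a minimal pair `(S, T)` and on
a module: first consequences.
-/

set_option autoImplicit false

namespace Cfsg.Agent.FPF

open scoped commutatorElement
open Subgroup Cfsg.Agent.LinAct

variable {Γ : Type*} [Group Γ]

/-- The commutator of two subgroups is normalized by whatever normalizes both. -/
theorem le_normalizer_bracket {B H K : Subgroup Γ} (hH : B ≤ normalizer (H : Set Γ))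
    (hK : B ≤ normalizer (K : Set Γ)) : B ≤ normalizer ((⁅H, K⁆ : Subgroup Γ) : Set Γ) :=
  OddLocal43.normalizes_commutator hH hK

theorem mem_normalizer_bracket {g : Γ} {H K : Subgroup Γ} (hH : g ∈ normalizer (H : Set Γ))
    (hK : g ∈ normalizer (K : Set Γ)) : g ∈ normalizer ((⁅H, K⁆ : Subgroup Γ) : Set Γ) :=
  le_normalizer_bracket (B := zpowers g) (zpowers_le.mpr hH) (zpowers_le.mpr hK) (mem_zpowers g)

theorem mem_centralizer_zpowers {g x : Γ} :
    x ∈ centralizer ((zpowers g : Subgroup Γ) : Set Γ) ↔ g * x = x * g := by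
  rw [zpowers_eq_closure, centralizer_closure, mem_centralizer_singleton_iff, eq_comm]

/-- The conditions on a minimal configuration. -/
structure Setup {L : Type*} [Field L] {W : Type*} [AddCommGroup W] [Module L W]
    (ρ : Γ →* Module.End L W) (s t p q : ℕ) (S T : Subgroup Γ) (f h : Γ) : Prop where
  hs : s.Prime
  ht : t.Prime
  hp : p.Prime
  hq : q.Prime
  hst : s ≠ t
  hsp : s ≠ p
  hsq : s ≠ q
  htp : t ≠ p
  htq : t ≠ q
  hpq : p ≠ q
  hS : IsPGroup s S
  hT : IsPGroup t T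
  hTS : T ≤ normalizer (S : Set Γ)
  hfS : f ∈ normalizer (S : Set Γ)
  hhS : h ∈ normalizer (S : Set Γ)
  hfT : f ∈ normalizer (T : Set Γ)
  hhT : h ∈ normalizer (T : Set Γ)
  hf : f ^ p = 1
  hh : h ^ q = 1
  hA : h * f * h⁻¹ ∈ zpowers f
  hne : h * f ≠ f * h
  fixS : ∀ x ∈ S, f * x = x * f → h * x = x * h → x = 1
  fixT : ∀ x ∈ T, f * x = x * f → h * x = x * h → x = 1
  hinj : ∀ x ∈ S, ρ x = 1 → x = 1
  hs0 : (s : L) ≠ 0
  hp0 : (p : L) ≠ 0
  hq0 : (q : L) ≠ 0
  fixW : ∀ w, ρ f w = w → ρ h w = w → w = 0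
  hnt : ⁅S, T⁆ ≠ ⊥
  hSmin : ∀ U : Subgroup Γ, U < S → T ≤ normalizer (U : Set Γ) → f ∈ normalizer (U : Set Γ) →
    h ∈ normalizer (U : Set Γ) → ⁅U, T⁆ = ⊥
  hTmin : ∀ U : Subgroup Γ, U < T → f ∈ normalizer (U : Set Γ) → h ∈ normalizer (U : Set Γ) →
    ⁅S, U⁆ = ⊥

namespace Setup

variable [Finite Γ] {L : Type*} [Field L] {W : Type*} [AddCommGroup W] [Module L W]
  {ρ : Γ →* Module.End L W} {s t p q : ℕ} {S T : Subgroup Γ} {f h : Γ}
  (D : Setup ρ s t p q S T f h)

include D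

theorem orderOf_f : orderOf f = p := by
  have := Fact.mk D.hp
  exact orderOf_eq_prime D.hf fun h1 => D.hne (by rw [h1, one_mul, mul_one])

theorem h_mem_normalizer_F : h ∈ normalizer ((zpowers f : Subgroup Γ) : Set Γ) := by
  have hmap : (zpowers f).map (MulAut.conj h).toMonoidHom = zpowers f := by
    refine eq_of_le_of_card_ge ?_ (card_map_of_injective (MulAut.conj h).injective).ge
    rw [MonoidHom.map_zpowers, zpowers_le]
    exact D.hA
  rw [mem_normalizer_iff]
  intro x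
  refine ⟨fun hx => hmap.le ⟨x, hx, rfl⟩, fun hx => ?_⟩
  obtain ⟨x', hx', he⟩ := hmap.ge hx
  exact (MulAut.conj h).injective he ▸ hx'

theorem q_dvd : q ∣ p - 1 := by
  have := Fact.mk D.hp
  have := Fact.mk D.hq
  obtain ⟨k, hk⟩ := mem_powers_iff_mem_zpowers.mpr D.hA
  simp only at hk
  have hpow : ∀ i : ℕ, h ^ i * f * (h ^ i)⁻¹ = f ^ k ^ i := by
    intro i
    induction i with
    | zero => simp
    | succ i ih =>
      calc h ^ (i + 1) * f * (h ^ (i + 1))⁻¹ = h * (h ^ i * f * (h ^ i)⁻¹) * h⁻¹ := by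
            rw [pow_succ']; group
        _ = (h * f * h⁻¹) ^ (k ^ i) := by rw [ih, conj_pow]
        _ = _ := by rw [← hk, ← pow_mul, ← pow_succ']
  have hq' : (k : ZMod p) ^ q = 1 := by
    have h1 := hpow q
    rw [D.hh, one_mul, inv_one, mul_one] at h1
    have h2 : f ^ 1 = f ^ (k ^ q) := by rwa [pow_one]
    rw [pow_eq_pow_iff_modEq, D.orderOf_f, ← ZMod.natCast_eq_natCast_iff, Nat.cast_pow,
      Nat.cast_one] at h2
    exact h2.symm
  have h1 : (k : ZMod p) ≠ 1 := fun h1 => D.hne (by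
    rw [← Nat.cast_one, ZMod.natCast_eq_natCast_iff, ← D.orderOf_f, ← pow_eq_pow_iff_modEq,
      pow_one, hk] at h1
    exact mul_inv_eq_iff_eq_mul.mp h1)
  have h0 : (k : ZMod p) ≠ 0 := fun h0 => zero_ne_one' (ZMod p) (by
    rw [h0, zero_pow D.hq.ne_zero] at hq'; exact hq')
  rw [← orderOf_eq_prime hq' h1]
  exact ZMod.orderOf_dvd_card_sub_one h0

/-- There is no Fermat exception for the operator `f`. -/
theorem exc_f {u : ℕ} (huq : u ≠ q) (hu : u = 2) : ¬ ∃ m, p = 2 ^ m + 1 := by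
  rintro ⟨m, rfl⟩
  have hd := D.q_dvd
  rw [Nat.add_sub_cancel] at hd
  exact huq (hu.trans ((Nat.prime_dvd_prime_iff_eq D.hq Nat.prime_two).mp
    (D.hq.dvd_of_dvd_pow hd)).symm)

/-- The derived group of `S`. -/
theorem structureS :
    ⁅S, T⁆ = S ∧ OddLocal43.frattiniOf S = ⁅S, S⁆ ∧ S ⊓ centralizer (T : Set Γ) = ⁅S, S⁆ ∧
      ⁅⁅S, S⁆, S⁆ = ⊥ ∧ ∀ z ∈ ⁅S, S⁆, z ^ s = 1 := by
  have := Fact.mk D.hs
  have := Fact.mk D.ht
  refine FG72.minimal_action (T ⊔ zpowers f ⊔ zpowers h) T S D.hS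
    (sup_le (sup_le D.hTS (zpowers_le.mpr D.hfS)) (zpowers_le.mpr D.hhS))
    (le_sup_left.trans le_sup_left)
    (sup_le (sup_le le_normalizer (zpowers_le.mpr D.hfT)) (zpowers_le.mpr D.hhT)) ?_ D.hnt
    fun U hU hB => D.hSmin U hU ((le_sup_left.trans le_sup_left).trans hB)
      (hB (mem_sup_left (mem_sup_right (mem_zpowers f)))) (hB (mem_sup_right (mem_zpowers h)))
  obtain ⟨k, hk⟩ := IsPGroup.iff_card.mp D.hT
  rw [hk]
  exact Nat.Coprime.pow_left k ((Nat.coprime_primes D.ht D.hs).mpr (Ne.symm D.hst))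

theorem Z_le : ⁅S, S⁆ ≤ S := D.structureS.2.2.1 ▸ inf_le_left

theorem Z_comm {z y : Γ} (hz : z ∈ ⁅S, S⁆) (hy : y ∈ S) : y * z = z * y :=
  mem_centralizer_iff.mp (commutator_eq_bot_iff_le_centralizer.mp D.structureS.2.2.2.1 hz) y hy

theorem Z_T {z x : Γ} (hz : z ∈ ⁅S, S⁆) (hx : x ∈ T) : x * z = z * x :=
  mem_centralizer_iff.mp (D.structureS.2.2.1.ge hz).2 x hx

theorem Z_lt : ⁅S, S⁆ < S :=
  D.structureS.2.1 ▸ OddLocal43.frattiniOf_lt fun h0 => D.hnt (by rw [h0, commutator_bot_left])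

theorem exp_Z {z : Γ} (hz : z ∈ ⁅S, S⁆) : z ^ s = 1 := D.structureS.2.2.2.2 z hz

theorem pow_mem_Z {x : Γ} (hx : x ∈ S) : x ^ s ∈ ⁅S, S⁆ := by
  have := Fact.mk D.hs
  exact D.structureS.2.1 ▸ OddLocal43.pow_mem_frattiniOf D.hS hx

/-- An invariant subgroup of `S` is `S` or lies in the derived group. -/
theorem irr {N : Subgroup Γ} (hN : N ≤ S) (hTN : T ≤ normalizer (N : Set Γ))
    (hfN : f ∈ normalizer (N : Set Γ)) (hhN : h ∈ normalizer (N : Set Γ)) :
    N = S ∨ N ≤ ⁅S, S⁆ := by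
  refine or_iff_not_imp_left.mpr fun hne => D.structureS.2.2.1 ▸ le_inf hN ?_
  exact commutator_eq_bot_iff_le_centralizer.mp
    (D.hSmin N (lt_of_le_of_ne hN hne) hTN hfN hhN)

/-- `T` does not act trivially on `S` modulo the derived group. -/
theorem not_trivial_mod (htriv : ∀ x ∈ T, ∀ y ∈ S, ⁅y, x⁆ ∈ ⁅S, S⁆) : False :=
  D.Z_lt.not_ge (D.structureS.1.ge.trans ((commutator_le).mpr fun y hy x hx => htriv x hx y hy))

theorem coprime_S {u n : ℕ} (hu : u.Prime) (hus : s ≠ u) {g : Γ} (hg : g ^ u = 1)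
    (hn : ∃ H : Subgroup Γ, IsPGroup s H ∧ n = Nat.card H) :
    (Nat.card (zpowers g)).Coprime n := by
  have := Fact.mk D.hs
  obtain ⟨H, hH, rfl⟩ := hn
  obtain ⟨k, hk⟩ := IsPGroup.iff_card.mp hH
  rw [hk, Nat.card_zpowers]
  exact (((Nat.coprime_primes hu D.hs).mpr (Ne.symm hus)).coprime_dvd_left
    (orderOf_dvd_of_pow_eq_one hg)).pow_right k

/-- An operator of prime order whose fixed points on `S` lie in the derived group is neither
fixed-point-free on `T`, nor, outside the Fermat case, satisfies `⁅T, a⁆ = T`. -/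
theorem no_operator {a : Γ} {u : ℕ} (hu : u.Prime) (hus : s ≠ u) (htu : t ≠ u) (ha : a ^ u = 1)
    (haS : a ∈ normalizer (S : Set Γ)) (haT : a ∈ normalizer (T : Set Γ))
    (hfix : ∀ y ∈ S, a * y = y * a → y ∈ ⁅S, S⁆)
    (hor : (∀ x ∈ T, a * x = x * a → x = 1) ∨
      (⁅T, zpowers a⁆ = T ∧ (t = 2 → ¬ ∃ m, u = 2 ^ m + 1))) : False := by
  have := Fact.mk D.hs
  have := Fact.mk D.ht
  set Z := ⁅S, S⁆ with hZ
  set B := normalizer (S : Set Γ) ⊓ normalizer (Z : Set Γ) with hB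
  have hTB : T ≤ B := le_inf D.hTS (D.hTS.trans (le_normalizer_bracket le_rfl le_rfl))
  have haB : a ∈ B := ⟨haS, mem_normalizer_bracket haS haS⟩
  have hSB : S ≤ B := le_inf le_normalizer (le_normalizer.trans (le_normalizer_bracket le_rfl le_rfl))
  have hZB : Z ≤ B := D.Z_le.trans hSB
  have : (S.subgroupOf B).Normal := normal_subgroupOf_of_le_normalizer inf_le_left
  have : (Z.subgroupOf B).Normal := normal_subgroupOf_of_le_normalizer inf_le_right
  set π := QuotientGroup.mk' (Z.subgroupOf B) with hπ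
  have : ((S.subgroupOf B).map π).Normal := Normal.map inferInstance π (QuotientGroup.mk'_surjective _)
  set V := (S.subgroupOf B).map π with hV
  let φ : B →* MulAut V := (MulAut.conjNormal).comp π
  have hφ : ∀ (g : B) (v : V), ((φ g v : V) : B ⧸ Z.subgroupOf B) = π g * v * (π g)⁻¹ :=
    fun g v => MulAut.conjNormal_apply _ _
  have hc : ∀ v w : V, v * w = w * v := by
    rintro ⟨_, ⟨x, hx, rfl⟩⟩ ⟨_, ⟨y, hy, rfl⟩⟩
    refine Subtype.ext ?_
    show π x * π y = π y * π x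
    rw [← map_mul, ← map_mul]
    refine QuotientGroup.eq.mpr ?_
    rw [mem_subgroupOf]
    have := commutator_mem_commutator (H₁ := S) (H₂ := S) (inv_mem hy) (inv_mem hx)
    simpa [commutatorElement_def, mul_assoc, hZ] using this
  have he : ∀ v : V, v ^ s = 1 := by
    rintro ⟨_, ⟨x, hx, rfl⟩⟩
    refine Subtype.ext ?_
    show π x ^ s = 1
    rw [← map_pow]
    exact (QuotientGroup.eq_one_iff _).mpr (D.pow_mem_Z hx)
  have hnofix : ∀ v, φ ⟨a, haB⟩ v = v → v = 1 := by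
    rintro ⟨_, ⟨x, hx, rfl⟩⟩ hv
    have h' : π ⟨a, haB⟩ * π x * (π ⟨a, haB⟩)⁻¹ = π x := (hφ _ _).symm.trans (congrArg Subtype.val hv)
    rw [← map_mul, ← map_inv, ← map_mul] at h'
    have hm : (x : Γ)⁻¹ * (a * x * a⁻¹) ∈ Z := mem_subgroupOf.mp ((QuotientGroup.eq (s := Z.subgroupOf B)).mp h'.symm)
    obtain ⟨n, hn, hfixn⟩ := Coprime.exists_fixed_in_coset (zpowers a) Z
      (zpowers_le.mpr (mem_normalizer_bracket haS haS))
      (D.coprime_S hu hus ha ⟨Z, D.hS.to_le D.Z_le, rfl⟩)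
      (Or.inr (Coprime.isSolvable_of_isNilpotent' (D.hS.to_le D.Z_le).isNilpotent)) (x : Γ)
      (fun b hb => by
        obtain ⟨i, rfl⟩ := mem_powers_iff_mem_zpowers.mpr hb
        induction i with
        | zero => simpa using one_mem Z
        | succ i ih =>
          have hai : a ^ i ∈ normalizer (Z : Set Γ) := pow_mem (mem_normalizer_bracket haS haS) i
          have := mul_mem (ih (pow_mem (mem_zpowers a) i))
            (Coprime.conj_mem_of_mem_normalizer hai hm)
          convert this using 1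
          simp only [pow_succ]
          group)
    have hxn : (x : Γ) * n ∈ Z := hfix _ (mul_mem hx (D.Z_le hn)) (mem_centralizer_zpowers.mp hfixn)
    exact Subtype.ext ((QuotientGroup.eq_one_iff _).mpr
      (show (x : Γ) ∈ Z from (mul_mem_cancel_right hn).mp hxn))
  have hback : ∀ (x : Γ) (hx : x ∈ T), φ ⟨x, hTB hx⟩ = 1 → ∀ y ∈ S, ⁅y, x⁆ ∈ Z := by
    intro x hx h1 y hy
    have h' := congrArg (fun σ : MulAut V => ((σ ⟨π ⟨y, hSB hy⟩, ⟨_, hy, rfl⟩⟩ : V) : B ⧸ Z.subgroupOf B)) h1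
    simp only [hφ, MulAut.one_apply, ← map_mul, ← map_inv] at h'
    have hm : y⁻¹ * (x * y * x⁻¹) ∈ Z := mem_subgroupOf.mp ((QuotientGroup.eq (s := Z.subgroupOf B)).mp h'.symm)
    have hmy : y * (y⁻¹ * (x * y * x⁻¹)) * y⁻¹ ∈ Z :=
      Coprime.conj_mem_of_mem_normalizer (hSB hy).2 hm
    have := inv_mem hmy
    convert this using 1
    rw [commutatorElement_def]
    group
  refine D.not_trivial_mod fun x hx y hy => hback x hx ?_ y hy
  have haTB : (⟨a, haB⟩ : B) ∈ normalizer ((T.subgroupOf B : Subgroup B) : Set B) :=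
    mem_normalizer_iff.mpr fun z => by
      simp only [mem_subgroupOf]
      exact mem_normalizer_iff.mp haT (z : Γ)
  have hTp : IsPGroup t (T.subgroupOf B) := D.hT.of_equiv (subgroupOfEquivOfLe hTB).symm
  rcases hor with hfpf | ⟨hTa, hexc⟩
  · obtain ⟨d, e, heinj, hsum⟩ := exists_linearization (ℓ := s) V hc he
    have := Fact.mk hu
    set A := zpowers (φ ⟨a, haB⟩)
    cases nonempty_fintype A
    have hL : CharP (AlgebraicClosure (ZMod s)) s :=
      charP_of_injective_algebraMap (algebraMap (ZMod s) (AlgebraicClosure (ZMod s))).injective s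
    have hcast : ∀ n : ℕ, n.Prime → s ≠ n → (n : AlgebraicClosure (ZMod s)) ≠ 0 :=
      fun n hn hne h0 => hne ((Nat.prime_dvd_prime_iff_eq D.hs hn).mp
        ((CharP.cast_eq_zero_iff (AlgebraicClosure (ZMod s)) s n).mp h0))
    refine heinj ((LinearMap.ext fun w => ?_).trans (map_one e).symm)
    refine trivial_of_fpf (e.comp φ) (T.subgroupOf B) ⟨a, haB⟩ hu (Subtype.ext ha) haTB
      (fun z hz hza => Subtype.ext (hfpf z hz (congrArg Subtype.val hza))) ?_ ⊤
      (fun _ _ _ _ => trivial) (fun _ _ => trivial) ?_ (x := ⟨x, hTB hx⟩) hx trivial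
    · obtain ⟨k, hk⟩ := IsPGroup.iff_card.mp hTp
      rw [hk, Nat.cast_pow]
      exact pow_ne_zero k (hcast t D.ht D.hst)
    · intro w _ hw
      have h0 := hsum A fun v hv => hnofix v (hv _ (mem_zpowers _))
      have hall : ∀ b : A, e (b : MulAut V) w = w := fun b => by
        obtain ⟨n, hn⟩ := mem_powers_iff_mem_zpowers.mpr b.2
        rw [← hn]
        clear hn
        induction n with
        | zero => simp
        | succ n ih =>
          show e ((φ ⟨a, haB⟩) ^ (n + 1)) w = w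
          rw [pow_succ, map_mul, Module.End.mul_apply]
          show e ((φ ⟨a, haB⟩) ^ n) ((e.comp φ) ⟨a, haB⟩ w) = w
          rw [hw]
          exact ih
      have h1 := LinearMap.congr_fun h0 w
      rw [LinearMap.sum_apply, Finset.sum_congr rfl fun b _ => hall b, Finset.sum_const,
        Finset.card_univ, ← Nat.card_eq_fintype_card,
        ← Nat.cast_smul_eq_nsmul (AlgebraicClosure (ZMod s)), LinearMap.zero_apply] at h1
      refine (smul_eq_zero.mp h1).resolve_left ?_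
      have hd : Nat.card A ∣ u := by
        rw [Nat.card_zpowers]
        exact orderOf_dvd_of_pow_eq_one
          (by rw [← map_pow, show (⟨a, haB⟩ : B) ^ u = 1 from Subtype.ext ha, map_one])
      rcases (Nat.dvd_prime hu).mp hd with h | h <;> rw [h]
      · simp
      · exact hcast u hu hus
  · let K : Subgroup Γ := φ.ker.map B.subtype
    have hle : T ≤ K := by
      rw [← hTa, commutator_le]
      intro z hz b hb
      obtain ⟨i, rfl⟩ := mem_powers_iff_mem_zpowers.mpr hb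
      have hai : ((⟨a, haB⟩ : B) ^ i) ^ u = 1 := by
        rw [← pow_mul, mul_comm, pow_mul, show (⟨a, haB⟩ : B) ^ u = 1 from Subtype.ext ha, one_pow]
      have key : φ ⁅(⟨z, hTB hz⟩ : B), ⟨a, haB⟩⁆ = 1 :=
        map_commutator_eq_one hu htu D.hst hus hc he φ ⟨a, haB⟩ (Subtype.ext ha) hnofix
          (T.subgroupOf B) hTp haTB
          (fun h1 h2 => absurd h2 (hexc h1)) (x := ⟨z, hTB hz⟩) hz
      refine ⟨⁅(⟨z, hTB hz⟩ : B), (⟨a, haB⟩ : B) ^ i⁆, ?_, ?_⟩
      · show φ _ = 1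
        have hcm : Commute (φ ⟨z, hTB hz⟩) (φ ⟨a, haB⟩) := by
          rw [map_commutatorElement] at key
          exact commutatorElement_eq_one_iff_mul_comm.mp key
        rw [map_commutatorElement, map_pow]
        exact commutatorElement_eq_one_iff_mul_comm.mpr (hcm.pow_right i).eq
      · simp [commutatorElement_def]
    obtain ⟨x', hx', hxe⟩ := hle hx
    exact (Subtype.ext hxe : x' = ⟨x, hTB hx⟩) ▸ hx'

end Setup

end Cfsg.Agent.FPF
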