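import Cfsg.Agent.Lib.Coprime.LinAct

/-!
Matrices over a prime field acting on the vectors over an algebraic closure: invariance of
eigenspace dimensions under the Frobenius map, and sums of dimensions of independent submodules.
-/

set_option autoImplicit false

namespace Cfsg.Agent.LinAct

open scoped Matrix

/-- Dimensions of independent submodules add up to at most the whole. -/
theorem sum_finrank_le_of_iSupIndep {L : Type*} [Field L] {W : Type*} [AddCommGroup W] [Module L W]
    [FiniteDimensional L W] {ι : Type*} (U : ι → Submodule L W) (hU : iSupIndep U) (s : Finset ι) :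
    ∑ i ∈ s, Module.finrank L (U i) = Module.finrank L ↥(s.sup U) := by
  classical
  induction s using Finset.induction_on with
  | empty =>
    rw [Finset.sum_empty, Finset.sup_empty]
    exact (finrank_bot L W).symm
  | insert i s hi ih =>
    rw [Finset.sum_insert hi, Finset.sup_insert, ih]
    have hd : U i ⊓ s.sup U = ⊥ := by
      refine disjoint_iff.mp ((hU i).mono_right ?_)
      refine Finset.sup_le fun j hj => ?_
      have hji : j ≠ i := fun h => hi (h ▸ hj)
      exact le_iSup₂_of_le j hji le_rfl
    have h := Submodule.finrank_sup_add_finrank_inf_eq (U i) (s.sup U)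
    rw [hd, finrank_bot, add_zero] at h
    exact h.symm

variable {r : ℕ} [hr : Fact r.Prime] {d : ℕ}

local notation "𝕂" => AlgebraicClosure (ZMod r)

/-- The entrywise `r`-th power of a vector. -/
noncomputable def frobVec (v : Fin d → 𝕂) : Fin d → 𝕂 := fun i => v i ^ r

theorem frobVec_eq_zero {v : Fin d → 𝕂} : frobVec v = 0 ↔ v = 0 := by
  constructor
  · intro h
    funext i
    exact eq_zero_of_pow_eq_zero (congrFun h i)
  · rintro rfl
    funext i
    exact zero_pow hr.out.ne_zero

theorem mulVec_frobVec (M : Matrix (Fin d) (Fin d) (ZMod r)) (v : Fin d → 𝕂) :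
    (M.map (algebraMap (ZMod r) 𝕂)) *ᵥ frobVec v =
      frobVec ((M.map (algebraMap (ZMod r) 𝕂)) *ᵥ v) := by
  have : CharP 𝕂 r := charP_of_injective_algebraMap (algebraMap (ZMod r) 𝕂).injective r
  have : ExpChar 𝕂 r := ExpChar.prime hr.out
  funext i
  simp only [Matrix.mulVec, dotProduct, frobVec, Matrix.map_apply, sum_pow_char r, mul_pow,
    ← map_pow, ZMod.pow_card]

theorem eigen_frobVec {M : Matrix (Fin d) (Fin d) (ZMod r)} {v : Fin d → 𝕂} {μ : 𝕂}
    (h : (M.map (algebraMap (ZMod r) 𝕂)) *ᵥ v = μ • v) :
    (M.map (algebraMap (ZMod r) 𝕂)) *ᵥ frobVec v = μ ^ r • frobVec v := by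
  rw [mulVec_frobVec, h]
  funext i
  simp [frobVec, mul_pow]

/-- An eigenvalue of a matrix over the prime field has its `r`-th power as an eigenvalue, with no
smaller eigenspace. -/
theorem exists_eigen_pow {M : Matrix (Fin d) (Fin d) (ZMod r)} {v : Fin d → 𝕂} {μ : 𝕂} (hv : v ≠ 0)
    (h : (M.map (algebraMap (ZMod r) 𝕂)) *ᵥ v = μ • v) (i : ℕ) :
    ∃ w : Fin d → 𝕂, w ≠ 0 ∧ (M.map (algebraMap (ZMod r) 𝕂)) *ᵥ w = μ ^ (r ^ i) • w := by
  induction i with
  | zero => exact ⟨v, hv, by rwa [pow_zero, pow_one]⟩
  | succ i ih =>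
    obtain ⟨w, hw, hMw⟩ := ih
    refine ⟨frobVec w, mt frobVec_eq_zero.mp hw, ?_⟩
    rw [eigen_frobVec hMw, ← pow_mul, ← pow_succ]

/-- Automorphisms of a finite elementary abelian group as matrices over the prime field. -/
theorem exists_matrix_rep (V : Type*) [Group V] [Finite V] (hc : ∀ a b : V, a * b = b * a)
    (he : ∀ v : V, v ^ r = 1) :
    ∃ d : ℕ, Nat.card V = r ^ d ∧
      ∃ M : MulAut V →* Matrix (Fin d) (Fin d) (ZMod r), Function.Injective M := by
  let : CommGroup V := { ‹Group V› with mul_comm := hc }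
  let : Module (ZMod r) (Additive V) :=
    AddCommGroup.zmodModule (n := r) (G := Additive V) fun v => he v.toMul
  have : Module.Finite (ZMod r) (Additive V) := Module.Finite.of_finite
  let b : Module.Basis (Fin (Module.finrank (ZMod r) (Additive V))) (ZMod r) (Additive V) :=
    Module.finBasis (ZMod r) (Additive V)
  let toLin : MulAut V →* Module.End (ZMod r) (Additive V) :=
    { toFun := fun σ => (MonoidHom.toAdditive σ.toMonoidHom).toZModLinearMap r
      map_one' := rfl
      map_mul' := fun σ τ => rfl }
  have hlininj : Function.Injective toLin := fun σ τ h =>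
    MulEquiv.ext fun v => Additive.ofMul.injective (LinearMap.congr_fun h (Additive.ofMul v))
  refine ⟨Module.finrank (ZMod r) (Additive V), ?_,
    (LinearMap.toMatrixAlgEquiv b).toRingEquiv.toRingHom.toMonoidHom.comp toLin,
    (LinearMap.toMatrixAlgEquiv b).injective.comp hlininj⟩
  rw [Nat.card_congr (Additive.ofMul (α := V)), Nat.card_congr b.equivFun.toEquiv, Nat.card_fun,
    Nat.card_zmod, Nat.card_eq_fintype_card, Fintype.card_fin]

end Cfsg.Agent.LinAct
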