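import Cfsg.Agent.Lib.Coprime.Action
import Cfsg.Agent.OddLocal43.ExtraspecialModule
import Cfsg.Agent.FG72.MinimalAction
import Mathlib.RingTheory.RootsOfUnity.PrimitiveRoots

/-!
Linear actions over an algebraically closed field: elements without fixed vectors, weights of
abelian subgroups, and the Hall–Higman–Shult fixed-point theorem for an operator of prime order.
-/

set_option autoImplicit false

namespace Cfsg.Agent.LinAct

open scoped commutatorElement
open Subgroup

variable {Γ : Type*} [Group Γ] {L : Type*} [Field L] {W : Type*} [AddCommGroup W] [Module L W]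

theorem rho_mul (ρ : Γ →* Module.End L W) (g h : Γ) (w : W) : ρ (g * h) w = ρ g (ρ h w) := by
  rw [map_mul]; rfl

theorem rho_one (ρ : Γ →* Module.End L W) (w : W) : ρ 1 w = w := by rw [map_one]; rfl

theorem rho_inv_apply (ρ : Γ →* Module.End L W) (g : Γ) (w : W) : ρ g⁻¹ (ρ g w) = w := by
  rw [← rho_mul, inv_mul_cancel, rho_one]

/-- The sum over the powers of `a` of a vector is fixed by `a`. -/
theorem sum_pow_fixed (ρ : Γ →* Module.End L W) {a : Γ} {n : ℕ} (ha : a ^ n = 1) (w : W) :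
    ρ a (∑ i ∈ Finset.range n, ρ (a ^ i) w) = ∑ i ∈ Finset.range n, ρ (a ^ i) w := by
  rw [map_sum]
  simp only [← rho_mul, ← pow_succ']
  rcases n with _ | n
  · simp
  rw [Finset.sum_range_succ' (fun i => ρ (a ^ i) w), Finset.sum_range_succ
    (fun i => ρ (a ^ (i + 1)) w), ha, pow_zero]

/-- A fixed vector in the range of `ρ k - 1` is zero. -/
theorem eq_zero_of_range (ρ : Γ →* Module.End L W) {k : Γ} {n : ℕ} (hk : k ^ n = 1)
    (hn : (n : L) ≠ 0) {w u : W} (hw : ρ k w = w) (hu : ρ k u - u = w) : w = 0 := by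
  have h : ∀ i : ℕ, ρ (k ^ i) u = u + (i : L) • w := by
    intro i
    induction i with
    | zero => simp
    | succ i ih =>
      rw [pow_succ', rho_mul, ih, map_add, map_smul, hw, sub_eq_iff_eq_add.mp hu, Nat.cast_succ,
        add_smul, one_smul]
      abel
  have h1 := h n
  rw [hk, rho_one, left_eq_add] at h1
  exact (smul_eq_zero.mp h1).resolve_left hn

/-- An element of prime order without fixed vectors on `U`, normalizing `N` and fixed-point-free
on it, forces `N` to act trivially on `U`. -/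
theorem trivial_of_fpf [Finite Γ] (ρ : Γ →* Module.End L W) (N : Subgroup Γ) (a : Γ) {q : ℕ}
    (hq : q.Prime) (haq : a ^ q = 1) (haN : a ∈ normalizer (N : Set Γ))
    (hfix : ∀ x ∈ N, a * x = x * a → x = 1) (hN0 : (Nat.card N : L) ≠ 0) (U : Submodule L W)
    (hUN : ∀ x ∈ N, ∀ w ∈ U, ρ x w ∈ U) (hUa : ∀ w ∈ U, ρ a w ∈ U)
    (hU : ∀ w ∈ U, ρ a w = w → w = 0) {x : Γ} (hx : x ∈ N) {w : W} (hw : w ∈ U) : ρ x w = w := by
  classical
  cases nonempty_fintype N
  have hai : ∀ i : ℕ, ∀ u ∈ U, ρ (a ^ i) u ∈ U := by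
    intro i
    induction i with
    | zero => intro u hu; rwa [pow_zero, rho_one]
    | succ i ih => intro u hu; rw [pow_succ', rho_mul]; exact hUa _ (ih u hu)
  have hconj : ∀ i : ℕ, ∀ n ∈ N, a ^ i * n * (a ^ i)⁻¹ ∈ N := fun i n hn =>
    (mem_normalizer_iff.mp (pow_mem haN i) n).mp hn
  -- the averaged sums vanish
  have h0 : ∑ i ∈ Finset.range q, ∑ n : N, ρ ((n : Γ)⁻¹ * a ^ i * n) w = 0 := by
    rw [Finset.sum_comm]
    refine Finset.sum_eq_zero fun n _ => ?_
    have h1 : ∑ i ∈ Finset.range q, ρ (a ^ i) (ρ (n : Γ) w) = 0 :=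
      hU _ (Submodule.sum_mem _ fun i _ => hai i _ (hUN n n.2 w hw)) (sum_pow_fixed ρ haq _)
    simp only [mul_assoc, rho_mul]
    rw [← map_sum, h1, map_zero]
  set z : W → W := fun u => ∑ m : N, ρ (m : Γ) u
  have hz : ∀ u, ρ x (z u) = z u := fun u => by
    simp only [z, map_sum, ← rho_mul]
    exact Equiv.sum_comp (Equiv.mulLeft (⟨x, hx⟩ : N)) (fun m : N => ρ (m : Γ) u)
  have hterm : ∀ i ∈ Finset.range q, i ≠ 0 →
      ∑ n : N, ρ ((n : Γ)⁻¹ * a ^ i * n) w = z (ρ (a ^ i) w) := by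
    intro i hi hi0
    have hiq : i < q := Finset.mem_range.mp hi
    have hcop : i.Coprime (orderOf a) := by
      refine Nat.Coprime.coprime_dvd_right (orderOf_dvd_of_pow_eq_one haq) ?_
      exact ((hq.coprime_iff_not_dvd).mpr fun h => absurd (Nat.le_of_dvd (by omega) h) (by omega)).symm
    let g : N → N := fun n => n⁻¹ * ⟨a ^ i * n * (a ^ i)⁻¹, hconj i n n.2⟩
    have hinj : Function.Injective g := by
      intro n m h
      have h' : (n : Γ)⁻¹ * (a ^ i * n * (a ^ i)⁻¹) = (m : Γ)⁻¹ * (a ^ i * m * (a ^ i)⁻¹) :=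
        congrArg Subtype.val h
      obtain ⟨j, hj⟩ := exists_pow_eq_self_of_coprime hcop
      have h1 : Commute (a ^ i) ((m : Γ) * (n : Γ)⁻¹) := by
        show a ^ i * ((m : Γ) * (n : Γ)⁻¹) = (m : Γ) * (n : Γ)⁻¹ * a ^ i
        calc a ^ i * ((m : Γ) * (n : Γ)⁻¹)
            = m * ((m : Γ)⁻¹ * (a ^ i * m * (a ^ i)⁻¹)) * (a ^ i * (n : Γ)⁻¹) := by group
          _ = m * ((n : Γ)⁻¹ * (a ^ i * n * (a ^ i)⁻¹)) * (a ^ i * (n : Γ)⁻¹) := by rw [h']
          _ = _ := by group
      have h2 := hfix _ (mul_mem m.2 (inv_mem n.2)) (hj ▸ h1.pow_left j).eq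
      exact Subtype.ext (mul_inv_eq_one.mp h2).symm
    have hg : Function.Bijective g := Finite.injective_iff_bijective.mp hinj
    refine Fintype.sum_bijective g hg _ _ fun n => ?_
    rw [← rho_mul]
    congr 2
    simp [g, mul_assoc]
  rw [← Finset.add_sum_erase _ _ (Finset.mem_range.mpr hq.pos)] at h0
  have h00 : ∑ n : N, ρ ((n : Γ)⁻¹ * a ^ 0 * n) w = (Nat.card N : L) • w := by
    simp [Nat.card_eq_fintype_card, ← Nat.cast_smul_eq_nsmul L]
  rw [h00, Finset.sum_congr rfl fun i hi =>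
    hterm i (Finset.mem_of_mem_erase hi) (Finset.ne_of_mem_erase hi)] at h0
  have h1 := congrArg (ρ x) h0
  rw [map_add, map_smul, map_sum, map_zero, Finset.sum_congr rfl fun i _ => hz _] at h1
  have h2 : (Nat.card N : L) • (ρ x w - w) = 0 := by
    rw [smul_sub, sub_eq_zero]
    exact add_right_cancel (h1.trans h0.symm)
  exact sub_eq_zero.mp ((smul_eq_zero.mp h2).resolve_left hN0)

/-- Common eigenvectors of an abelian subgroup inside an invariant submodule. -/
theorem exists_weight [IsAlgClosed L] [FiniteDimensional L W] (ρ : Γ →* Module.End L W)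
    (A : Subgroup Γ) (hA : ∀ a ∈ A, ∀ b ∈ A, a * b = b * a) (U : Submodule L W) (hU : U ≠ ⊥)
    (hUA : ∀ a ∈ A, ∀ w ∈ U, ρ a w ∈ U) :
    ∃ (χ : A →* L) (v : W), v ∈ U ∧ v ≠ 0 ∧ ∀ a : A, ρ (a : Γ) v = χ a • v := by
  induction hn : Module.finrank L U using Nat.strong_induction_on generalizing U with | _ n ih => ?_
  subst hn
  by_cases hsc : ∀ a : A, ∃ c : L, ∀ w ∈ U, ρ (a : Γ) w = c • w
  · choose c hc using hsc
    obtain ⟨v, hv, hv0⟩ := (Submodule.ne_bot_iff U).mp hU
    refine ⟨{ toFun := c, map_one' := ?_, map_mul' := fun a b => ?_ }, v, hv, hv0, fun a => hc a v hv⟩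
    · have h1 : (1 : L) • v = c 1 • v := by rw [← hc 1 v hv, OneMemClass.coe_one, rho_one, one_smul]
      exact (smul_left_injective L hv0 h1).symm
    · refine smul_left_injective L hv0 ?_
      show c (a * b) • v = (c a * c b) • v
      rw [← hc _ v hv, Subgroup.coe_mul, rho_mul, hc b v hv, map_smul, hc a v hv, smul_smul, mul_comm]
  push Not at hsc
  obtain ⟨a, ha⟩ := hsc
  have : Nontrivial U := Submodule.nontrivial_iff_ne_bot.mpr hU
  obtain ⟨μ, hμ⟩ := Module.End.exists_eigenvalue ((ρ (a : Γ)).restrict (hUA a a.2))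
  obtain ⟨v, hv⟩ := hμ.exists_hasEigenvector
  have hv1 : ρ (a : Γ) (v : W) = μ • (v : W) :=
    congrArg Subtype.val (Module.End.mem_eigenspace_iff.mp hv.1)
  set U' := U ⊓ Module.End.eigenspace (ρ (a : Γ)) μ with hU'
  have hU'0 : U' ≠ ⊥ := (Submodule.ne_bot_iff _).mpr
    ⟨v, ⟨v.2, Module.End.mem_eigenspace_iff.mpr hv1⟩, fun h => hv.2 (Subtype.ext h)⟩
  have hU'A : ∀ b ∈ A, ∀ w ∈ U', ρ b w ∈ U' := fun b hb w hw =>
    ⟨hUA b hb w hw.1, Module.End.mem_eigenspace_iff.mpr (by
      rw [← rho_mul, hA a a.2 b hb, rho_mul, Module.End.mem_eigenspace_iff.mp hw.2, map_smul])⟩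
  have hlt : Module.finrank L U' < Module.finrank L U := by
    refine Submodule.finrank_lt_finrank_of_lt (lt_of_le_of_ne inf_le_left fun h => ?_)
    obtain ⟨w, hw, hne⟩ := ha μ
    exact hne (Module.End.mem_eigenspace_iff.mp (h.ge hw).2)
  obtain ⟨χ, w, hw, hw0, hχ⟩ := ih _ hlt U' hU'0 hU'A rfl
  exact ⟨χ, w, hw.1, hw0, hχ⟩

/-- The projection to a weight space, applied to a weight vector. -/
theorem proj_weight {A : Subgroup Γ} [Fintype A]
    (ρ : Γ →* Module.End L W) (χ ψ : A →* L) {u : W} (hu : ∀ a : A, ρ (a : Γ) u = ψ a • u) :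
    (χ = ψ → ∑ a : A, χ a⁻¹ • ρ (a : Γ) u = (Nat.card A : L) • u) ∧
      (χ ≠ ψ → ∑ a : A, χ a⁻¹ • ρ (a : Γ) u = 0) := by
  simp only [hu, smul_smul, ← Finset.sum_smul]
  refine ⟨?_, fun hne => ?_⟩
  · rintro rfl
    have h1 : ∀ a : A, χ a⁻¹ * χ a = 1 := fun a => by rw [← map_mul, inv_mul_cancel, map_one]
    simp only [h1]
    rw [Finset.sum_const, Finset.card_univ, nsmul_one, Nat.card_eq_fintype_card]
  · let F : A →* L :=
      { toFun := fun a => χ a⁻¹ * ψ a
        map_one' := by simp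
        map_mul' := fun a b => by
          rw [mul_inv_rev, map_mul, map_mul]; ring }
    have hF : F ≠ 1 := fun h => hne (MonoidHom.ext fun a => by
      have h1 : χ a⁻¹ * ψ a = 1 := DFunLike.congr_fun h a
      calc χ a = χ a * (χ a⁻¹ * ψ a) := by rw [h1, mul_one]
        _ = ψ a := by rw [← mul_assoc, ← map_mul, mul_inv_cancel, map_one, one_mul])
    show (∑ a : A, F a) • u = 0
    rw [sum_hom_units_eq_zero F hF, zero_smul]

/-- Automorphisms of a finite elementary abelian group over an algebraically closed field. -/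
theorem exists_linearization {ℓ : ℕ} [hℓ : Fact ℓ.Prime] (V : Type*) [Group V] [Finite V]
    (hc : ∀ a b : V, a * b = b * a) (he : ∀ v : V, v ^ ℓ = 1) :
    ∃ (d : ℕ) (e : MulAut V →* Module.End (AlgebraicClosure (ZMod ℓ)) (Fin d → AlgebraicClosure (ZMod ℓ))),
      Function.Injective e ∧
        ∀ (A : Subgroup (MulAut V)) [Fintype A], (∀ v, (∀ a ∈ A, a v = v) → v = 1) →
          ∑ a : A, e (a : MulAut V) = 0 := by
  let : CommGroup V := { ‹Group V› with mul_comm := hc }
  let : Module (ZMod ℓ) (Additive V) :=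
    AddCommGroup.zmodModule (n := ℓ) (G := Additive V) fun v => he v.toMul
  have : Module.Finite (ZMod ℓ) (Additive V) := Module.Finite.of_finite
  set d := Module.finrank (ZMod ℓ) (Additive V) with hd
  let b : Module.Basis (Fin d) (ZMod ℓ) (Additive V) := Module.finBasis (ZMod ℓ) (Additive V)
  let toLin : MulAut V →* Module.End (ZMod ℓ) (Additive V) :=
    { toFun := fun σ => (MonoidHom.toAdditive σ.toMonoidHom).toZModLinearMap ℓ
      map_one' := rfl
      map_mul' := fun σ τ => rfl }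
  have hlininj : Function.Injective toLin := fun σ τ h =>
    MulEquiv.ext fun v => Additive.ofMul.injective (LinearMap.congr_fun h (Additive.ofMul v))
  set L := AlgebraicClosure (ZMod ℓ)
  let cast : Module.End (ZMod ℓ) (Additive V) →+* Module.End L (Fin d → L) :=
    ((Matrix.toLinAlgEquiv' (R := L) (n := Fin d)).toRingEquiv.toRingHom.comp
      (algebraMap (ZMod ℓ) L).mapMatrix).comp (LinearMap.toMatrixAlgEquiv b).toRingEquiv.toRingHom
  have hcinj : Function.Injective cast :=
    (Matrix.toLinAlgEquiv' (R := L) (n := Fin d)).injective.comp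
      ((Matrix.map_injective (RingHom.injective (algebraMap (ZMod ℓ) L))).comp (LinearMap.toMatrixAlgEquiv b).injective)
  refine ⟨d, cast.toMonoidHom.comp toLin, hcinj.comp hlininj, fun A _ hfix => ?_⟩
  show ∑ a : A, cast (toLin (a : MulAut V)) = 0
  rw [← map_sum, ← map_zero cast]
  congr 1
  apply LinearMap.ext
  intro v
  set S := ∑ a : A, toLin (a : MulAut V) with hS
  have hτS : ∀ c : A, toLin (c : MulAut V) * S = S := fun c => by
    rw [hS, Finset.mul_sum]
    simp only [← map_mul, ← Subgroup.coe_mul]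
    exact Equiv.sum_comp (Equiv.mulLeft c) (fun a : A => toLin (a : MulAut V))
  exact congrArg Additive.ofMul (hfix (S v).toMul fun a ha =>
    congrArg Additive.toMul (LinearMap.congr_fun (hτS ⟨a, ha⟩) v))

end Cfsg.Agent.LinAct
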